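import Mathlib
import Cfsg.Agent.Lib.Helper10.BR0
import Cfsg.Agent.S0840
import Cfsg.Agent.Lib.Helper83.Ortho

/-!
# S0999 (Brauer–Reynolds), piece BR-II12: the class multiplication coefficient at `(τ, τ, τ)`
-/

set_option autoImplicit false

namespace Cfsg.Agent.Lib.Helper10.BR

open Cfsg
open Cfsg.Agent.Lib.Helper83 (trivIrr)
open scoped ComplexConjugate

section T

variable {G : Type*} [Group G] [Fintype G] {p e t : ℕ} {P : Subgroup G} {ε : ℤ} {x₀ : ℕ}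
  {A B Y D : Finset (IrrCharacter G)}

/-- BR-II12 -/
theorem count_tau_of (h : Tab G p e t P ε x₀ A B Y D) (hε : ε = -1) (hx : x₀ = p - e)
    (ha : A.card * t + 2 = e) (τ : G) (hτ2 : orderOf τ = 2)
    (hz : Nat.card (Subgroup.centralizer ({τ} : Set G)) = p - 1)
    (hBv : ∀ χ ∈ B, (χ : G → ℂ) τ = 0)
    (hA : ∀ χ ∈ A, (χ : G → ℂ) τ = (t : ℂ) ∨ (χ : G → ℂ) τ = -(t : ℂ))
    (hA0 : ∑ χ ∈ A, (χ : G → ℂ) τ = 0)
    (hθ : ∀ θ ∈ Y, (θ : G → ℂ) τ = -1)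
    (hD : ∀ ψ ∈ D, (p : ℂ) * (ψ : G → ℂ) τ = (ψ : G → ℂ) 1)
    (hsq : ∑ ψ ∈ D, ((ψ : G → ℂ) 1) ^ 2 = (((t - 1) * p ^ 2 : ℕ) : ℂ)) :
    Nat.card {q : G × G // IsConj τ q.1 ∧ IsConj τ q.2 ∧ q.1 * q.2 = τ} = p - 1 - e := by
  classical
  haveI : Fintype (IrrCharacter G) := Fintype.ofFinite _
  -- arithmetic facts
  have hp := h.hp
  have hp5 := h.hp5
  have he := h.he
  have ht := h.ht
  have het := h.het
  have hep : e ≤ p - 1 := by
    have h1 : e ≤ e * t := Nat.le_mul_of_pos_right e (by omega)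
    omega
  have h1p : 1 ≤ p := by omega
  have hep' : e ≤ p := by omega
  have h1t : 1 ≤ t := by omega
  have c1 : ((p - 1 : ℕ) : ℂ) = (p : ℂ) - 1 := by rw [Nat.cast_sub h1p, Nat.cast_one]
  have c2 : ((p - e : ℕ) : ℂ) = (p : ℂ) - (e : ℂ) := Nat.cast_sub hep'
  have hpC : (p : ℂ) ≠ 0 := Nat.cast_ne_zero.mpr hp.ne_zero
  have hp1C : ((p : ℂ) - 1) ≠ 0 := by
    rw [← c1]
    exact Nat.cast_ne_zero.mpr (by omega)
  have hpeC : ((p : ℂ) - (e : ℂ)) ≠ 0 := by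
    rw [← c2]
    exact Nat.cast_ne_zero.mpr (by omega)
  have htC : (t : ℂ) ≠ 0 := Nat.cast_ne_zero.mpr (by omega)
  have heC : (e : ℂ) ≠ 0 := Nat.cast_ne_zero.mpr (by omega)
  have hetC : (e : ℂ) * (t : ℂ) = (p : ℂ) - 1 := by
    rw [← c1, ← het, Nat.cast_mul]
  -- the class of `τ`
  have hGC : (Nat.card G : ℂ) = (p : ℂ) * ((p : ℂ) - 1) * ((p : ℂ) - (e : ℂ)) := by
    rw [h.cardG, Nat.cast_mul, Nat.cast_mul, c1, c2]
  have hK : (Nat.card {x : G // IsConj τ x} : ℂ) = (p : ℂ) * ((p : ℂ) - (e : ℂ)) := by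
    have h1 := Cfsg.Agent.Lib.Helper83.card_conj_mul_card_centralizer τ
    rw [hz] at h1
    have h2 : (Nat.card {x : G // IsConj τ x} : ℂ) * ((p : ℂ) - 1) = (Nat.card G : ℂ) := by
      rw [← c1, ← Nat.cast_mul, h1]
    rw [hGC] at h2
    have h3 : (Nat.card {x : G // IsConj τ x} : ℂ) * ((p : ℂ) - 1) =
        ((p : ℂ) * ((p : ℂ) - (e : ℂ))) * ((p : ℂ) - 1) := by
      rw [h2]
      ring
    exact mul_right_cancel₀ hp1C h3
  -- the character sum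
  obtain ⟨f, hf⟩ : ∃ f : IrrCharacter G → ℂ, ∀ χ, f χ =
      (χ : G → ℂ) τ * (χ : G → ℂ) τ * conj ((χ : G → ℂ) τ) / (χ : G → ℂ) 1 :=
    ⟨_, fun _ => rfl⟩
  have h1 : f (trivIrr G) = 1 := by
    rw [hf]
    simp [Cfsg.Agent.Lib.Helper83.trivIrr_apply]
  have h2 : ∑ χ ∈ A, f χ = 0 := by
    have h2a : ∀ χ ∈ A, f χ = (t : ℂ) / ((p : ℂ) - (e : ℂ)) * (χ : G → ℂ) τ := by
      intro χ hχ
      rw [hf, h.degA χ hχ, Nat.cast_mul, c2]
      rcases hA χ hχ with h' | h'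
      · rw [h']
        simp only [map_natCast]
        field_simp
      · rw [h']
        simp only [map_neg, map_natCast]
        field_simp
    rw [Finset.sum_congr rfl h2a, ← Finset.mul_sum, hA0, mul_zero]
  have h3 : ∑ χ ∈ B, f χ = 0 := by
    apply Finset.sum_eq_zero
    intro χ hχ
    rw [hf, hBv χ hχ]
    simp
  have h4 : ∑ θ ∈ Y, f θ = - (t : ℂ) / ((p : ℂ) - (e : ℂ)) := by
    have h4a : ∀ θ ∈ Y, f θ = -1 / ((p : ℂ) - (e : ℂ)) := by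
      intro θ hθ'
      rw [hf, hθ θ hθ', h.degY θ hθ', hx, c2]
      simp
    rw [Finset.sum_congr rfl h4a, Finset.sum_const, h.cardY, nsmul_eq_mul]
    ring
  have h5 : ∑ ψ ∈ D, f ψ = ((t : ℂ) - 1) / (p : ℂ) := by
    have h5a : ∀ ψ ∈ D, f ψ = ((ψ : G → ℂ) 1) ^ 2 / (p : ℂ) ^ 3 := by
      intro ψ hψ
      obtain ⟨k, hk⟩ := h.degD ψ hψ
      have hτ : (ψ : G → ℂ) τ = (k : ℂ) := by
        have h' := hD ψ hψ
        rw [hk, Nat.cast_mul] at h'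
        exact mul_left_cancel₀ hpC h'
      rw [hf, hτ, hk, Nat.cast_mul]
      simp only [map_natCast]
      by_cases hk0 : (k : ℂ) = 0
      · rw [hk0]
        simp
      · field_simp
    rw [Finset.sum_congr rfl h5a, ← Finset.sum_div, hsq, Nat.cast_mul, Nat.cast_pow,
      Nat.cast_sub h1t, Nat.cast_one]
    field_simp
  have hsum : ∑ᶠ χ : IrrCharacter G,
      (χ : G → ℂ) τ * (χ : G → ℂ) τ * conj ((χ : G → ℂ) τ) / (χ : G → ℂ) 1 =
        1 - (t : ℂ) / ((p : ℂ) - (e : ℂ)) + ((t : ℂ) - 1) / (p : ℂ) := by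
    have e0 : (∑ᶠ χ : IrrCharacter G,
        (χ : G → ℂ) τ * (χ : G → ℂ) τ * conj ((χ : G → ℂ) τ) / (χ : G → ℂ) 1) = ∑ χ, f χ := by
      rw [finsum_eq_sum_of_fintype]
      exact Finset.sum_congr rfl (fun χ _ => (hf χ).symm)
    rw [e0, h.sum_split f, h1, h2, h3, h4, h5]
    ring
  -- the class multiplication coefficient
  have key := Cfsg.Agent.S0840.result τ τ τ
  rw [hsum, hK, hGC] at key
  have hfin : (Nat.card {q : G × G // IsConj τ q.1 ∧ IsConj τ q.2 ∧ q.1 * q.2 = τ} : ℂ) =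
      ((p - 1 - e : ℕ) : ℂ) := by
    rw [key, Nat.cast_sub hep, c1]
    have hP : (p : ℂ) = (e : ℂ) * (t : ℂ) + 1 := by
      rw [hetC]
      ring
    rw [hP] at hpC hpeC ⊢
    field_simp
    ring
  exact_mod_cast hfin

end T

end Cfsg.Agent.Lib.Helper10.BR
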