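import Cfsg.Agent.Lib.Helper15.BG12Defs3
import Cfsg.Agent.Lib.Helper8.BG10P5
import Cfsg.Agent.S1412
import Cfsg.Agent.S1453

/-!
# B&G 12.7 (S1419), piece T0b of helper15's Section 12 project (helper8)

`pow_mem_omegaZ`: for `y` in an (abelian) Sylow `p`-subgroup `P ⊇ A` of `M`, inside a nonabelian
Sylow `p`-subgroup `S` of `G`, `y ^ p ^ 2 = 1` implies `y ^ p ∈ Ω₁(Z(S))`.
Rank `≤ 2`: structure of `S` from S1412.  Rank `≥ 3`: narrow `p`-groups, S1453.
-/

set_option autoImplicit false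

open Cfsg Cfsg.Agent.Lib.Helper32 Cfsg.Agent.Lib.Helper32.BG10 Cfsg.Agent.Lib.Helper3.BG12
  Cfsg.Agent.Lib.Helper15.BG12

namespace Cfsg.Agent.Lib.Helper8.BG12x

universe u

variable {G : Type u} [Group G] [Finite G]

omit [Finite G] in
/-- an element of order dividing `p` centralizing a maximal elementary abelian subgroup lies in it -/
theorem t0b_mem_of_comm {p : ℕ} {A : Subgroup G} (hA : IsElementaryAbelian p A)
    (hmax : ∀ B : Subgroup G, IsElementaryAbelian p B → A ≤ B → B = A) {d : G}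
    (hd : ∀ a ∈ A, a * d = d * a) (hdp : d ^ p = 1) : d ∈ A := by
  have hAc := Cfsg.Agent.Lib.Helper8.BG10.p5_comm hA
  have hZc : ∀ a ∈ Subgroup.zpowers d, ∀ b ∈ Subgroup.zpowers d, a * b = b * a := by
    rintro _ ⟨i, rfl⟩ _ ⟨j, rfl⟩
    exact Commute.zpow_zpow_self d i j
  have hAZ : ∀ a ∈ A, ∀ b ∈ Subgroup.zpowers d, a * b = b * a := by
    rintro a ha _ ⟨i, rfl⟩
    exact Commute.zpow_right (hd a ha) i
  have hZe : ∀ a ∈ Subgroup.zpowers d, a ^ p = 1 := by
    rintro _ ⟨i, rfl⟩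
    show (d ^ i) ^ p = 1
    rw [← zpow_natCast, ← zpow_mul, mul_comm, zpow_mul, zpow_natCast, hdp, one_zpow]
  obtain ⟨h1, h2⟩ := Cfsg.Agent.Lib.Helper20.BG10.elemAb_sup hAc hZc hAZ hA.2 hZe
  have h3 := hmax _ (Cfsg.Agent.Lib.Helper8.BG10.p5_ea h1 h2) le_sup_left
  rw [← h3]
  exact (le_sup_right : Subgroup.zpowers d ≤ A ⊔ Subgroup.zpowers d) (Subgroup.mem_zpowers d)

/-- rank at most 2: the structure of `S` (S1412) -/
theorem t0b_case1 (hG : IsMinSimpleOddOrder G) {p : ℕ} [Fact p.Prime] {S : Subgroup G}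
    (hS : S ∈ sylSet p (⊤ : Subgroup G)) (hSna : ¬ IsMulCommutative S) (hr : PRankLE p 2 ↥S) :
    ∀ y ∈ S, y ^ p ^ 2 = 1 → y ^ p ∈ omegaZ p S := by
  have hcard : Nat.card S = p ^ (Nat.card G).factorization p := by
    rw [hS.2, Subgroup.card_top]
  obtain ⟨Sy, hSy⟩ : ∃ Sy : Sylow p G, (Sy : Subgroup G) = S := ⟨Sylow.ofCard S hcard, rfl⟩
  subst hSy
  rcases Cfsg.Agent.S1412.result hG p Sy hr with hc | ⟨P₁, P₂, hsup, hcomm, -, -, hexp, -, hcl⟩
  · exact absurd hc hSna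
  · have hnorm : P₁ ≤ Subgroup.normalizer (P₂ : Set G) := by
      refine le_trans ?_ (Subgroup.centralizer_le_normalizer (P₂ : Set G))
      intro a ha
      rw [Subgroup.mem_centralizer_iff]
      intro b hb
      exact (hcomm a ha b hb).symm
    have hexp1 : ∀ a ∈ P₁, a ^ p = 1 := by
      intro a ha
      have h1 := Monoid.pow_exponent_eq_one (⟨a, ha⟩ : P₁)
      rw [hexp] at h1
      have h2 := congrArg Subtype.val h1
      simpa using h2
    have hdec : ∀ s ∈ (Sy : Subgroup G), ∃ a ∈ P₁, ∃ b ∈ P₂, s = a * b := by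
      intro s hs
      rw [← hsup] at hs
      exact mem_sup_of_le_normalizer hnorm hs
    have hZ : P₁ ⊓ Subgroup.centralizer (P₁ : Set G) ≤ omegaZ p (Sy : Subgroup G) := by
      rintro z ⟨hz1, hz2⟩
      refine mem_omegaZ.2 ⟨?_, ?_, hexp1 z hz1⟩
      · rw [← hsup]
        exact (le_sup_left : P₁ ≤ P₁ ⊔ P₂) hz1
      · intro s hs
        obtain ⟨a, ha, b, hb, rfl⟩ := hdec s hs
        have e1 : a * z = z * a := Subgroup.mem_centralizer_iff.1 hz2 a ha
        have e2 : z * b = b * z := hcomm z hz1 b hb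
        calc a * b * z = a * (b * z) := mul_assoc _ _ _
          _ = a * (z * b) := by rw [e2]
          _ = (a * z) * b := (mul_assoc _ _ _).symm
          _ = z * a * b := by rw [e1]
          _ = z * (a * b) := mul_assoc _ _ _
    intro y hy hy2
    obtain ⟨a, ha, b, hb, rfl⟩ := hdec y hy
    have hab : Commute a b := hcomm a ha b hb
    have hap : a ^ p = 1 := hexp1 a ha
    have e1 : (a * b) ^ p = b ^ p := by rw [hab.mul_pow, hap, one_mul]
    have e2 : (b ^ p) ^ p = 1 := by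
      rw [← e1, ← pow_mul, ← sq]
      exact hy2
    rw [e1]
    apply hZ
    rw [← hcl]
    exact Subgroup.subset_closure ⟨Subgroup.pow_mem _ hb p, e2⟩

/-- rank at least 3: narrow `p`-groups (S1453) -/
theorem t0b_case2 {p : ℕ} [Fact p.Prime] (hp2 : p ≠ 2) {A S : Subgroup G} (hSp : IsPGroup p S)
    (hAS : A ≤ S) (hA : IsElementaryAbelian p A) (hA2 : Nat.card A = p ^ 2)
    (hmax : ∀ B : Subgroup G, IsElementaryAbelian p B → A ≤ B → B = A)
    (hr : ¬ PRankLE p 2 ↥S) :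
    ∀ y ∈ S, (∀ a ∈ A, a * y = y * a) → y ^ p ^ 2 = 1 → y ^ p ∈ omegaZ p S := by
  have hpp := (Fact.out : p.Prime)
  have hAc := Cfsg.Agent.Lib.Helper8.BG10.p5_comm hA
  have hE : IsElementaryAbelian p (A.subgroupOf S) := by
    refine Cfsg.Agent.Lib.Helper8.BG10.p5_ea ?_ ?_
    · intro a ha b hb
      exact Subtype.ext (hAc _ (Subgroup.mem_subgroupOf.1 ha) _ (Subgroup.mem_subgroupOf.1 hb))
    · intro a ha
      exact Subtype.ext (hA.2 _ (Subgroup.mem_subgroupOf.1 ha))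
  have hE2 : Nat.card (A.subgroupOf S) = p ^ 2 := by
    rw [Nat.card_congr (Subgroup.subgroupOfEquivOfLe hAS).toEquiv]
    exact hA2
  have hEmax : ∀ B : Subgroup ↥S, IsElementaryAbelian p B → A.subgroupOf S ≤ B →
      B = A.subgroupOf S := by
    intro B hB hAB
    have hBc := Cfsg.Agent.Lib.Helper8.BG10.p5_comm hB
    have hB' : IsElementaryAbelian p (B.map S.subtype) := by
      refine Cfsg.Agent.Lib.Helper8.BG10.p5_ea ?_ ?_
      · rintro _ ⟨a, ha, rfl⟩ _ ⟨b, hb, rfl⟩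
        exact congrArg Subtype.val (hBc a ha b hb)
      · rintro _ ⟨a, ha, rfl⟩
        exact congrArg Subtype.val (hB.2 a ha)
    have hle : A ≤ B.map S.subtype := by
      intro a ha
      exact ⟨⟨a, hAS ha⟩, hAB (Subgroup.mem_subgroupOf.2 ha), rfl⟩
    have hBA := hmax _ hB' hle
    ext x
    rw [Subgroup.mem_subgroupOf, ← hBA]
    constructor
    · intro hx
      exact ⟨x, hx, rfl⟩
    · rintro ⟨x', hx', hxx⟩
      have e : x' = x := Subtype.ext hxx
      rw [← e]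
      exact hx'
  obtain ⟨hnotle, hcardZ, -, hchar, hidx⟩ :=
    Cfsg.Agent.S1453.result p hp2 hSp hr (A.subgroupOf S) hE hE2 hEmax
  obtain ⟨T, hTdef⟩ : ∃ T : Subgroup ↥S, T = Subgroup.centralizer
      ((Subgroup.closure {x : ↥S | x ∈ Subgroup.upperCentralSeries ↥S 2 ∧ x ^ p = 1} :
        Subgroup ↥S) : Set ↥S) := ⟨_, rfl⟩
  rw [← hTdef] at hnotle hchar hidx
  haveI : T.Characteristic := hchar
  have hpow : ∀ y : ↥S, y ^ p ∈ T := by
    intro y
    have h1 := Subgroup.pow_index_mem T y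
    rwa [hidx] at h1
  have hcen : Subgroup.center ↥S ≤ T := by
    rw [hTdef]
    exact Subgroup.center_le_centralizer _
  have hZset : {x : ↥S | x ∈ Subgroup.center ↥S ∧ x ^ p = 1} =
      (((omegaZ p S).subgroupOf S : Subgroup ↥S) : Set ↥S) := by
    ext x
    simp only [Set.mem_ofPred_eq, SetLike.mem_coe, Subgroup.mem_subgroupOf, mem_omegaZ,
      Subgroup.mem_center_iff]
    constructor
    · rintro ⟨h1, h2⟩
      refine ⟨x.2, fun s hs => ?_, ?_⟩
      · exact congrArg Subtype.val (h1 ⟨s, hs⟩)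
      · have h3 := congrArg Subtype.val h2
        simpa using h3
    · rintro ⟨-, h1, h2⟩
      refine ⟨fun g => Subtype.ext (h1 g.1 g.2), Subtype.ext ?_⟩
      simpa using h2
  rw [hZset, Subgroup.closure_eq] at hcardZ
  have hZA : (omegaZ p S).subgroupOf S ≤ A.subgroupOf S := by
    intro x hx
    rw [Subgroup.mem_subgroupOf] at hx ⊢
    obtain ⟨-, h1, h2⟩ := mem_omegaZ.1 hx
    exact t0b_mem_of_comm hA hmax (fun a ha => h1 a (hAS ha)) h2
  have hZT : (omegaZ p S).subgroupOf S ≤ T := by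
    intro x hx
    apply hcen
    rw [Subgroup.mem_center_iff]
    intro g
    rw [Subgroup.mem_subgroupOf] at hx
    exact Subtype.ext ((mem_omegaZ.1 hx).2.1 g.1 g.2)
  have hD : (omegaZ p S).subgroupOf S = A.subgroupOf S ⊓ T := by
    apply Subgroup.eq_of_le_of_card_ge (le_inf hZA hZT)
    rw [hcardZ]
    have hdvd : Nat.card ↥(A.subgroupOf S ⊓ T) ∣ p ^ 2 := by
      rw [← hE2]
      exact Subgroup.card_dvd_of_le inf_le_left
    obtain ⟨m, hm, hmc⟩ := (Nat.dvd_prime_pow hpp).1 hdvd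
    rw [hmc]
    have hm2 : m ≠ 2 := by
      intro h2
      apply hnotle
      have e : A.subgroupOf S ⊓ T = A.subgroupOf S :=
        Subgroup.eq_of_le_of_card_ge inf_le_left (by rw [hmc, h2, hE2])
      rw [← e]
      exact inf_le_right
    have hm1 : m ≤ 1 := by omega
    calc p ^ m ≤ p ^ 1 := Nat.pow_le_pow_right hpp.pos hm1
      _ = p := pow_one p
  intro y hy hyA hy2
  have hd : y ^ p ∈ A :=
    t0b_mem_of_comm hA hmax (fun a ha => Commute.pow_right (hyA a ha) p)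
      (by rw [← pow_mul, ← sq]; exact hy2)
  have h1 : (⟨y, hy⟩ : ↥S) ^ p ∈ A.subgroupOf S ⊓ T :=
    ⟨Subgroup.mem_subgroupOf.2 (by simpa using hd), hpow _⟩
  rw [← hD, Subgroup.mem_subgroupOf] at h1
  simpa using h1

theorem pow_mem_omegaZ (hG : IsMinSimpleOddOrder G) (h16 : H16 G) (h17 : H17 G) {M E : Subgroup G} {p : ℕ} [Fact p.Prime] {A : Subgroup G} (h : Ctx7 M E p A)
      {P S : Subgroup G} (hP : P ∈ sylSet p M) (hAP : A ≤ P) (hPS : P ≤ S) (hS : S ∈ sylSet p (⊤ : Subgroup G)) (hSna : ¬ IsMulCommutative S) :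
      ∀ y ∈ P, y ^ p ^ 2 = 1 → y ^ p ∈ omegaZ p S := by
  intro y hy hy2
  have hAM : A ≤ M := h.hAE.trans h.hE.1
  have hmax : ∀ B : Subgroup G, IsElementaryAbelian p B → A ≤ B → B = A := fun B hB hAB =>
    Cfsg.Agent.Lib.Helper8.BG10.p5_max hG (ut_of hG) h.hM h.hp.2.2.1 hAM h.hA h.hA2 hB hAB
  by_cases hr : PRankLE p 2 ↥S
  · exact t0b_case1 hG hS hSna hr y (hPS hy) hy2
  · obtain ⟨Sy, hSy⟩ := exists_sylow_of_mem_sylSet hP
    have hcom := ((h17 M h.hM p h.hp A ⟨hAM, h.hA, h.hA2⟩).2.1 Sy).1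
    have hPcomm : ∀ a ∈ P, ∀ b ∈ P, a * b = b * a := by
      rw [← hSy]
      rintro _ ⟨a, ha, rfl⟩ _ ⟨b, hb, rfl⟩
      have h1 := hcom.is_comm.comm ⟨a, ha⟩ ⟨b, hb⟩
      exact congrArg (fun x : (Sy : Subgroup M) => ((x : M) : G)) h1
    have hp2 : p ≠ 2 := by
      intro h2
      have hodd := minSimple_odd_sub hG A
      rw [h.hA2, h2] at hodd
      exact absurd hodd (by decide)
    exact t0b_case2 hp2 (isPGroup_of_mem_sylSet hS) (hAP.trans hPS) h.hA h.hA2 hmax hr y (hPS hy)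
      (fun a ha => hPcomm a (hAP ha) y hy) hy2

end Cfsg.Agent.Lib.Helper8.BG12x
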