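import Mathlib
import Cfsg.Agent.Lib.Helper8.Cox

set_option autoImplicit false

namespace Cfsg.Agent.Lib.Helper8

section Cox2

variable {ι : Type*}

/-- the alternating list `a, b, a, ...` of length `k` -/
def altL (a b : ι) : ℕ → List ι
  | 0 => []
  | k + 1 => a :: altL b a k

theorem altL_zero (a b : ι) : altL a b 0 = [] := rfl

theorem altL_succ (a b : ι) (k : ℕ) : altL a b (k + 1) = a :: altL b a k := rfl

theorem length_altL (a b : ι) (k : ℕ) : (altL a b k).length = k := by
  induction k generalizing a b with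
  | zero => rfl
  | succ k ih => rw [altL_succ, List.length_cons, ih]

theorem altL_dropLast (a b : ι) (k : ℕ) : (altL a b (k + 1)).dropLast = altL a b k := by
  induction k generalizing a b with
  | zero => rfl
  | succ k ih =>
    have h1 : altL a b (k + 1 + 1) = a :: b :: altL a b k := rfl
    have h2 : b :: altL a b k = altL b a (k + 1) := rfl
    rw [h1, List.dropLast_cons_cons, h2, ih, ← altL_succ]

theorem altL_two_mul_add (a b : ι) (k r : ℕ) :
    altL a b (2 * k + r) = altL a b (2 * k) ++ altL a b r := by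
  induction k with
  | zero => simp [altL_zero]
  | succ k ih =>
    have e1 : 2 * (k + 1) + r = (2 * k + r) + 1 + 1 := by ring
    have e2 : 2 * (k + 1) = 2 * k + 1 + 1 := by ring
    rw [e1, e2, altL_succ, altL_succ, altL_succ, altL_succ, ih]
    simp

theorem mul_pow_mul_aux {N : Type*} [Monoid N] (x y : N) (q : ℕ) :
    x * (y * x) ^ q * y = (x * y) ^ (q + 1) := by
  induction q with
  | zero => simp
  | succ q ih =>
    rw [pow_succ (y * x), pow_succ (x * y) (q + 1), ← ih]
    simp only [mul_assoc]

theorem prod_altL_mul_inv {N : Type*} [Group N] (f : ι → N) (hf : ∀ i, f i * f i = 1)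
    (a b : ι) (q : ℕ) :
    ((altL a b q).map f).prod * (((altL b a q).map f).prod)⁻¹ = (f a * f b) ^ q := by
  induction q generalizing a b with
  | zero => simp [altL_zero]
  | succ q ih =>
    rw [altL_succ, altL_succ, List.map_cons, List.map_cons, List.prod_cons, List.prod_cons,
      mul_inv_rev]
    have h1 := ih b a
    have hb : (f b)⁻¹ = f b := inv_eq_of_mul_eq_one_left (hf b)
    calc f a * ((altL b a q).map f).prod * ((((altL a b q).map f).prod)⁻¹ * (f b)⁻¹)
        = f a * (((altL b a q).map f).prod * (((altL a b q).map f).prod)⁻¹) * (f b)⁻¹ := by group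
      _ = f a * (f b * f a) ^ q * f b := by rw [h1, hb]
      _ = (f a * f b) ^ (q + 1) := mul_pow_mul_aux _ _ _

theorem prod_altL_two_mul {N : Type*} [Monoid N] (f : ι → N) (a b : ι) (k : ℕ) :
    ((altL a b (2 * k)).map f).prod = (f a * f b) ^ k := by
  induction k with
  | zero => simp [altL_zero]
  | succ k ih =>
    have e2 : 2 * (k + 1) = 2 * k + 1 + 1 := by ring
    rw [e2, altL_succ, altL_succ, List.map_cons, List.map_cons, List.prod_cons, List.prod_cons, ih,
      pow_succ', mul_assoc]

variable {W : Type*} [Group W] (s : ι → W) {N : Type*} [Group N] (f : ι → N)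

theorem len_map_le (L : List ι) : len (Set.range s) (L.map s).prod ≤ L.length := by
  have := len_le (S := Set.range s) (L := L.map s) (by
    intro x hx
    obtain ⟨i, _, rfl⟩ := List.mem_map.1 hx
    exact ⟨i, rfl⟩)
  simpa using this

omit [Group W] in
theorem exists_idx_list : ∀ X : List W, (∀ x ∈ X, x ∈ Set.range s) → ∃ L : List ι, L.map s = X
  | [], _ => ⟨[], rfl⟩
  | x :: X, h => by
    obtain ⟨i, hi⟩ := h x (by simp)
    obtain ⟨L, hL⟩ := exists_idx_list X (fun y hy => h y (by simp [hy]))
    exact ⟨i :: L, by simp [hi, hL]⟩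

/-- `L` is a word of length `q` for `w` -/
def RW (w : W) (q : ℕ) (L : List ι) : Prop := L.length = q ∧ (L.map s).prod = w

/-- Matsumoto property at length `q` -/
def MatsAt (q : ℕ) : Prop :=
  ∀ w : W, len (Set.range s) w = q → ∀ L L' : List ι, RW s w q L → RW s w q L' →
    (L.map f).prod = (L'.map f).prod

variable {s f}

theorem mats_A (hE : ExchGen (Set.range s)) {q : ℕ} (ih : MatsAt s f q) {w : W}
    (hw : len (Set.range s) w = q + 1) {i : ι} {L₁ L₁' : List ι}
    (h : RW s w (q + 1) (i :: L₁)) (h' : RW s w (q + 1) (i :: L₁')) :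
    ((i :: L₁).map f).prod = ((i :: L₁').map f).prod := by
  obtain ⟨hl, hp⟩ := h
  obtain ⟨hl', hp'⟩ := h'
  simp only [List.length_cons, Nat.add_right_cancel_iff] at hl hl'
  rw [List.map_cons, List.prod_cons] at hp hp'
  have hlen : len (Set.range s) (L₁.map s).prod = q := by
    have h1 := len_map_le s L₁
    have h2 := hE.toInvGen.len_mul_le (⟨i, rfl⟩ : s i ∈ Set.range s) (L₁.map s).prod
    rw [hp, hw] at h2
    omega
  have hpp : (L₁'.map s).prod = (L₁.map s).prod := mul_left_cancel (hp'.trans hp.symm)
  have := ih _ hlen L₁ L₁' ⟨hl, rfl⟩ ⟨hl', hpp⟩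
  rw [List.map_cons, List.prod_cons, List.map_cons, List.prod_cons, this]

theorem mats_A' (hE : ExchGen (Set.range s)) {q : ℕ} (ih : MatsAt s f q) {w : W}
    (hw : len (Set.range s) w = q + 1) {i : ι} {L₁ L₁' : List ι}
    (h : RW s w (q + 1) (L₁ ++ [i])) (h' : RW s w (q + 1) (L₁' ++ [i])) :
    ((L₁ ++ [i]).map f).prod = ((L₁' ++ [i]).map f).prod := by
  obtain ⟨hl, hp⟩ := h
  obtain ⟨hl', hp'⟩ := h'
  simp only [List.length_append, List.length_singleton, Nat.add_right_cancel_iff] at hl hl'
  rw [List.map_append, List.prod_append, List.map_singleton, List.prod_singleton] at hp hp'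
  have hlen : len (Set.range s) (L₁.map s).prod = q := by
    have h1 := len_map_le s L₁
    have h2 := hE.toInvGen.len_mul_right_le (⟨i, rfl⟩ : s i ∈ Set.range s) (L₁.map s).prod
    rw [hp, hw] at h2
    omega
  have hpp : (L₁'.map s).prod = (L₁.map s).prod := mul_right_cancel (hp'.trans hp.symm)
  have := ih _ hlen L₁ L₁' ⟨hl, rfl⟩ ⟨hl', hpp⟩
  rw [List.map_append, List.prod_append, List.map_append, List.prod_append, this]

theorem mats_B (hE : ExchGen (Set.range s)) {q : ℕ} (ih : MatsAt s f q) {w : W}
    (hw : len (Set.range s) w = q + 1) {a b : ι} {L₁ L₁' : List ι}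
    (h : RW s w (q + 1) (a :: L₁)) (h' : RW s w (q + 1) (b :: L₁'))
    (hne : ((a :: L₁).map f).prod ≠ ((b :: L₁').map f).prod) :
    RW s w (q + 1) (b :: (a :: L₁).dropLast) ∧
      ((b :: (a :: L₁).dropLast).map f).prod ≠ ((a :: L₁).map f).prod := by
  have hsb : s b ∈ Set.range s := ⟨b, rfl⟩
  have hle : len (Set.range s) (s b * ((a :: L₁).map s).prod) ≤
      len (Set.range s) ((a :: L₁).map s).prod := by
    rw [h.2, hw]
    have e : s b * w = (L₁'.map s).prod := by
      rw [← h'.2, List.map_cons, List.prod_cons, ← mul_assoc, hE.sq (s b) hsb, one_mul]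
    rw [e]
    have h1 := len_map_le s L₁'
    have h2 := h'.1
    simp only [List.length_cons] at h2
    omega
  obtain ⟨X₁, t, X₂, hsplit, hex⟩ := hE.exchange hsb ((a :: L₁).map s)
    (by
      intro x hx
      obtain ⟨i, _, rfl⟩ := List.mem_map.1 hx
      exact ⟨i, rfl⟩) hle
  obtain ⟨K₁, K₂', hK, rfl, hK₂'⟩ := List.map_eq_append_iff.1 hsplit
  obtain ⟨j, K₂, rfl, rfl, rfl⟩ := List.map_eq_cons_iff.1 hK₂'
  have hU : RW s w (q + 1) (b :: (K₁ ++ K₂)) := by
    constructor
    · have := h.1
      rw [hK] at this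
      simp only [List.length_cons, List.length_append] at this ⊢
      omega
    · rw [← h.2, hK, List.map_cons, List.prod_cons, List.map_append, List.prod_append,
        List.map_append, List.prod_append, List.map_cons, List.prod_cons, ← mul_assoc, hex,
        mul_assoc]
  rcases List.eq_nil_or_concat K₂ with rfl | ⟨K₂'', c, hc⟩
  · rw [hK, List.dropLast_concat]
    rw [List.append_nil] at hU
    refine ⟨hU, ?_⟩
    rw [← hK]
    intro heq
    exact hne (heq.symm.trans (mats_A hE ih hw hU h'))
  · exfalso
    rw [List.concat_eq_append] at hc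
    subst hc
    apply hne
    have e1 : a :: L₁ = (K₁ ++ j :: K₂'') ++ [c] := by rw [hK]; simp
    have e2 : b :: (K₁ ++ (K₂'' ++ [c])) = (b :: (K₁ ++ K₂'')) ++ [c] := by simp
    have h3 : ((a :: L₁).map f).prod = ((b :: (K₁ ++ (K₂'' ++ [c]))).map f).prod := by
      rw [e1, e2]
      apply mats_A' hE ih hw
      · rw [← e1]; exact h
      · rw [← e2]; exact hU
    exact h3.trans (mats_A hE ih hw hU h')

theorem mats_braid (hE : ExchGen (Set.range s)) (hf : ∀ i, f i * f i = 1)
    (hbraid : ∀ i j, (f i * f j) ^ orderOf (s i * s j) = 1) {n : ℕ} (hn : 0 < n) {w : W}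
    (hw : len (Set.range s) w = n) {a b : ι}
    (h : RW s w n (altL a b n)) (h' : RW s w n (altL b a n)) :
    ((altL a b n).map f).prod = ((altL b a n).map f).prod := by
  have hs2 : ∀ i, s i * s i = 1 := fun i => hE.sq (s i) ⟨i, rfl⟩
  have h1 := prod_altL_mul_inv s hs2 a b n
  rw [h.2, h'.2, mul_inv_cancel] at h1
  have hdvd : orderOf (s a * s b) ∣ n := orderOf_dvd_of_pow_eq_one h1.symm
  have hm0 : orderOf (s a * s b) ≠ 0 := by
    intro h0
    rw [h0, zero_dvd_iff] at hdvd
    omega
  have hmn : orderOf (s a * s b) = n := by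
    obtain ⟨c, hc⟩ := hdvd
    rcases Nat.lt_or_ge c 2 with hc2 | hc2
    · interval_cases c
      · omega
      · omega
    · exfalso
      have h2m : 2 * orderOf (s a * s b) ≤ n := by
        calc 2 * orderOf (s a * s b) = orderOf (s a * s b) * 2 := by ring
          _ ≤ orderOf (s a * s b) * c := Nat.mul_le_mul_left _ hc2
          _ = n := hc.symm
      obtain ⟨r, hr⟩ := Nat.exists_eq_add_of_le h2m
      have hsplit := altL_two_mul_add a b (orderOf (s a * s b)) r
      rw [← hr] at hsplit
      have hprod : ((altL a b r).map s).prod = w := by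
        rw [← h.2, hsplit, List.map_append, List.prod_append, prod_altL_two_mul,
          pow_orderOf_eq_one, one_mul]
      have hlen := len_map_le s (altL a b r)
      rw [hprod, hw, length_altL] at hlen
      have := Nat.pos_of_ne_zero hm0
      omega
  have h2 := prod_altL_mul_inv f hf a b n
  have h3 := hbraid a b
  rw [hmn] at h3
  rw [h3] at h2
  exact mul_inv_eq_one.1 h2

theorem mats_Z (hE : ExchGen (Set.range s)) (hf : ∀ i, f i * f i = 1)
    (hbraid : ∀ i j, (f i * f j) ^ orderOf (s i * s j) = 1) {q : ℕ} (ih : MatsAt s f q) {w : W}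
    (hw : len (Set.range s) w = q + 1) :
    ∀ (R : List ι) (a b : ι) (k : ℕ) (V₁ : List ι), RW s w (q + 1) (altL a b (k + 1) ++ R) →
      RW s w (q + 1) (b :: V₁) →
      ((altL a b (k + 1) ++ R).map f).prod ≠ ((b :: V₁).map f).prod → False := by
  intro R
  induction R using List.reverseRecOn with
  | nil =>
    intro a b k V₁ hU hV hne
    rw [List.append_nil] at hU hne
    have hk : k + 1 = q + 1 := by
      have := hU.1
      rw [length_altL] at this
      exact this
    rw [hk] at hU hne
    have hB := mats_B hE ih hw (a := a) (b := b) (L₁ := altL b a q) (L₁' := V₁) hU hV hne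
    have e : b :: (a :: altL b a q).dropLast = altL b a (q + 1) := by
      rw [← altL_succ, altL_dropLast, ← altL_succ]
    rw [e, ← altL_succ] at hB
    exact hB.2 (mats_braid hE hf hbraid (Nat.succ_pos q) hw hB.1 hU)
  | append_singleton R r ih' =>
    intro a b k V₁ hU hV hne
    have hU' : RW s w (q + 1) (a :: (altL b a k ++ (R ++ [r]))) := hU
    have hB := mats_B hE ih hw (a := a) (b := b) (L₁ := altL b a k ++ (R ++ [r])) (L₁' := V₁)
      hU' hV hne
    have e : b :: (a :: (altL b a k ++ (R ++ [r]))).dropLast = altL b a (k + 1 + 1) ++ R := by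
      have e1 : a :: (altL b a k ++ (R ++ [r])) = (altL a b (k + 1) ++ R) ++ [r] := by
        rw [altL_succ]; simp
      rw [e1, List.dropLast_concat]
      rfl
    rw [e] at hB
    exact ih' b a (k + 1) (altL b a k ++ (R ++ [r])) hB.1 hU' hB.2

theorem matsumoto (hE : ExchGen (Set.range s)) (hf : ∀ i, f i * f i = 1)
    (hbraid : ∀ i j, (f i * f j) ^ orderOf (s i * s j) = 1) : ∀ q : ℕ, MatsAt s f q := by
  intro q
  induction q with
  | zero =>
    intro w _ L L' hL hL'
    rw [List.length_eq_zero_iff.1 hL.1, List.length_eq_zero_iff.1 hL'.1]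
  | succ q ih =>
    intro w hw L L' hL hL'
    rcases L with _ | ⟨a, L₁⟩
    · have := hL.1
      simp at this
    rcases L' with _ | ⟨b, L₁'⟩
    · have := hL'.1
      simp at this
    by_contra hne
    exact mats_Z hE hf hbraid ih hw L₁ a b 0 L₁' hL hL' hne

/-- any word has the same `f`-product as any reduced word of the same element -/
theorem prod_eq_of_reduced (hE : ExchGen (Set.range s)) (hf : ∀ i, f i * f i = 1)
    (hbraid : ∀ i j, (f i * f j) ^ orderOf (s i * s j) = 1) :
    ∀ (K L : List ι), L.length = len (Set.range s) (K.map s).prod →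
      (L.map s).prod = (K.map s).prod → (K.map f).prod = (L.map f).prod := by
  intro K
  induction K with
  | nil =>
    intro L hL _
    rw [List.map_nil, List.prod_nil, len_one] at hL
    rw [List.length_eq_zero_iff.1 hL]
  | cons i K ih =>
    intro L hL hprod
    have hsi : s i ∈ Set.range s := ⟨i, rfl⟩
    obtain ⟨X, hX, hXprod, hXlen⟩ := hE.toInvGen.exists_reduced (K.map s).prod
    obtain ⟨L₀, rfl⟩ := exists_idx_list s X hX
    rw [List.length_map] at hXlen
    have IH := ih L₀ hXlen hXprod
    rw [List.map_cons, List.prod_cons] at hL hprod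
    rw [List.map_cons, List.prod_cons, IH]
    have hne := hE.len_mul_ne hsi (K.map s).prod
    have h1 := hE.toInvGen.len_mul_le hsi (K.map s).prod
    have h2 := hE.toInvGen.len_le_mul hsi (K.map s).prod
    rcases Nat.lt_or_ge (len (Set.range s) (K.map s).prod)
      (len (Set.range s) (s i * (K.map s).prod)) with hlt | hge
    · -- i :: L₀ is reduced for s i * w
      have hq : len (Set.range s) (s i * (K.map s).prod) = L.length := hL.symm
      have := matsumoto hE hf hbraid L.length (s i * (K.map s).prod) hq L (i :: L₀)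
        ⟨rfl, hprod⟩ ⟨by simp only [List.length_cons]; omega, by
          rw [List.map_cons, List.prod_cons, hXprod]⟩
      rw [this, List.map_cons, List.prod_cons]
    · -- i :: L is reduced for w
      have := matsumoto hE hf hbraid L₀.length (K.map s).prod hXlen.symm L₀ (i :: L)
        ⟨rfl, hXprod⟩ ⟨by simp only [List.length_cons]; omega, by
          rw [List.map_cons, List.prod_cons, hprod, ← mul_assoc, hE.sq (s i) hsi, one_mul]⟩
      rw [this, List.map_cons, List.prod_cons, ← mul_assoc, hf i, one_mul]

end Cox2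

end Cfsg.Agent.Lib.Helper8
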