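import Mathlib
import Cfsg.Agent.Lib.Helper8.Cox2

set_option autoImplicit false

namespace Cfsg.Agent.Lib.Helper8

section Cox3

variable {ι : Type*} {W : Type*} [Group W] (s : ι → W)

/-- the Coxeter matrix of orders of products of the generators -/
noncomputable def coxM (hE : ExchGen (Set.range s)) (hinj : Function.Injective s) : CoxeterMatrix ι where
  M := Matrix.of (fun i j => orderOf (s i * s j))
  isSymm := by
    ext i j
    have hi : (s i)⁻¹ = s i := inv_eq_of_mul_eq_one_left (hE.sq (s i) ⟨i, rfl⟩)
    have hj : (s j)⁻¹ = s j := inv_eq_of_mul_eq_one_left (hE.sq (s j) ⟨j, rfl⟩)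
    have e : s j * s i = (s i * s j)⁻¹ := by rw [mul_inv_rev, hi, hj]
    show orderOf (s j * s i) = orderOf (s i * s j)
    rw [e, orderOf_inv]
  diagonal := by
    intro i
    show orderOf (s i * s i) = 1
    rw [hE.sq (s i) ⟨i, rfl⟩, orderOf_one]
  off_diagonal := by
    intro i j hij
    show orderOf (s i * s j) ≠ 1
    rw [Ne, orderOf_eq_one_iff]
    intro h
    apply hij
    apply hinj
    have hj : s j * s j = 1 := hE.sq (s j) ⟨j, rfl⟩
    calc s i = s i * (s j * s j) := by rw [hj, mul_one]
      _ = s i * s j * s j := by rw [mul_assoc]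
      _ = s j := by rw [h, one_mul]

theorem coxM_apply (hE : ExchGen (Set.range s)) (hinj : Function.Injective s) (i j : ι) :
    coxM s hE hinj i j = orderOf (s i * s j) := rfl

theorem coxM_liftable (hE : ExchGen (Set.range s)) (hinj : Function.Injective s) :
    (coxM s hE hinj).IsLiftable s := fun i j => by
  rw [coxM_apply]; exact pow_orderOf_eq_one _

/-- the canonical map from the Coxeter group onto `W` -/
noncomputable def coxHom (hE : ExchGen (Set.range s)) (hinj : Function.Injective s) :
    (coxM s hE hinj).Group →* W :=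
  (coxM s hE hinj).toCoxeterSystem.lift ⟨s, coxM_liftable s hE hinj⟩

theorem coxHom_simple (hE : ExchGen (Set.range s)) (hinj : Function.Injective s) (i : ι) :
    coxHom s hE hinj ((coxM s hE hinj).simple i) = s i := by
  have := (coxM s hE hinj).toCoxeterSystem.lift_apply_simple (coxM_liftable s hE hinj) i
  rw [CoxeterMatrix.toCoxeterSystem_simple] at this
  exact this

theorem coxHom_prod (hE : ExchGen (Set.range s)) (hinj : Function.Injective s) (K : List ι) :
    coxHom s hE hinj ((K.map (coxM s hE hinj).simple).prod) = (K.map s).prod := by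
  induction K with
  | nil => simp
  | cons i K ih =>
    rw [List.map_cons, List.prod_cons, map_mul, ih, coxHom_simple, List.map_cons, List.prod_cons]

theorem coxHom_bijective (hE : ExchGen (Set.range s)) (hinj : Function.Injective s) :
    Function.Bijective (coxHom s hE hinj) := by
  constructor
  · rw [injective_iff_map_eq_one]
    intro x hx
    obtain ⟨K, rfl⟩ := (coxM s hE hinj).toCoxeterSystem.wordProd_surjective x
    have hK : (coxM s hE hinj).toCoxeterSystem.wordProd K =
        (K.map (coxM s hE hinj).simple).prod := rfl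
    rw [hK] at hx ⊢
    rw [coxHom_prod] at hx
    have key := prod_eq_of_reduced (s := s) (f := (coxM s hE hinj).simple) hE
      (fun i => (coxM s hE hinj).toCoxeterSystem.simple_mul_simple_self i)
      (fun i j => (coxM s hE hinj).toCoxeterSystem.simple_mul_simple_pow i j)
      K [] (by rw [hx, len_one]; rfl) (by rw [hx]; rfl)
    rw [key]
    rfl
  · rw [← MonoidHom.range_eq_top, eq_top_iff, ← hE.gen, Subgroup.closure_le]
    rintro _ ⟨i, rfl⟩
    exact ⟨(coxM s hE hinj).simple i, coxHom_simple s hE hinj i⟩

/-- the Coxeter system structure on `W` -/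
noncomputable def coxSys (hE : ExchGen (Set.range s)) (hinj : Function.Injective s) :
    CoxeterSystem (coxM s hE hinj) W :=
  ⟨(MulEquiv.ofBijective (coxHom s hE hinj) (coxHom_bijective s hE hinj)).symm⟩

theorem coxSys_simple (hE : ExchGen (Set.range s)) (hinj : Function.Injective s) (i : ι) :
    (coxSys s hE hinj).simple i = s i := by
  show (MulEquiv.ofBijective (coxHom s hE hinj) (coxHom_bijective s hE hinj))
    ((coxM s hE hinj).simple i) = s i
  exact coxHom_simple s hE hinj i

theorem exists_coxeterSystem (hE : ExchGen (Set.range s)) (hinj : Function.Injective s) :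
    ∃ (M : CoxeterMatrix ι) (cs : CoxeterSystem M W), ∀ i, cs.simple i = s i :=
  ⟨coxM s hE hinj, coxSys s hE hinj, coxSys_simple s hE hinj⟩

end Cox3

end Cfsg.Agent.Lib.Helper8
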