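import Cfsg.Prelude.Def_LieExceptional
import Cfsg.Agent.Lib.Helper8.BN2
import Cfsg.Agent.Lib.Helper8.Cox3

set_option autoImplicit false

namespace Cfsg.Agent.Lib.Helper8

open Cfsg

section BN4

variable {G : Type*} [Group G]

/-- the distinguished generators of the Weyl group, indexed by `P.S` -/
abbrev sW (P : BNPair G) (x : P.S) : W P := cl P (sN P x.2)

theorem range_sW (P : BNPair G) : Set.range (sW P) = SW P := by
  ext w
  constructor
  · rintro ⟨x, rfl⟩
    exact mem_SW P x.2
  · rintro ⟨s, hs, rfl⟩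
    exact ⟨⟨s, hs⟩, rfl⟩

theorem sW_injective (P : BNPair G) : Function.Injective (sW P) := by
  intro x y h
  exact Subtype.ext (cl_sN_inj P x.2 y.2 h)

theorem sW_exchGen (P : BNPair G) : ExchGen (Set.range (sW P)) := by
  rw [range_sW]; exact SW_exchGen P

/-- the Weyl group of a (B,N)-pair is a Coxeter group -/
theorem bn_coxeter (P : BNPair G) :
    ∃ (M : CoxeterMatrix P.S) (cs : CoxeterSystem M (W P)),
      ∀ x : P.S, cs.simple x = cl P (sN P x.2) :=
  exists_coxeterSystem (sW P) (sW_exchGen P) (sW_injective P)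

end BN4

end Cfsg.Agent.Lib.Helper8
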