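import Mathlib
import Cfsg.Agent.S4034

/-!
Project TP (S4033, architect helper4), FRONT part (co-architect helper8): definitions, the exact
statements of the front pieces, and the sorry-free glue `front` reducing S4033 to the pieces and to
`CaseIIStmt` (two noncentral primes => the common class size is a power of `p`).
-/

set_option autoImplicit false

namespace Cfsg.Agent.Lib.Helper8.TP

universe u

/-- The two-class-size hypothesis in centralizer form: every `p`-regular element is central or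
has centralizer of index `m`. -/
def TwoReg (p m : ℕ) (G : Type*) [Group G] : Prop :=
  ∀ x : G, (orderOf x).Coprime p →
    (Subgroup.centralizer ({x} : Set G)).index = 1 ∨
      (Subgroup.centralizer ({x} : Set G)).index = m

/-- `q` is a prime different from `p` such that `G` has a noncentral `q`-element. -/
def NCPrime (p q : ℕ) (G : Type*) [Group G] : Prop :=
  q.Prime ∧ q ≠ p ∧ ∃ x : G, (∃ k : ℕ, orderOf x = q ^ k) ∧ x ∉ Subgroup.center G

/-- The first alternative of S4033: an abelian `p`-complement. -/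
def Alt1 (p : ℕ) (G : Type*) [Group G] : Prop :=
  ∃ H : Subgroup G, IsMulCommutative H ∧ ¬ p ∣ Nat.card H ∧ ∃ k : ℕ, H.index = p ^ k

/-- The second alternative of S4033: `G = PQ × A` with `A` central. -/
def Alt2 (p : ℕ) (G : Type*) [Group G] : Prop :=
  ∃ (q : ℕ) (_ : Fact q.Prime) (P : Sylow p G) (Q : Sylow q G) (A : Subgroup G), q ≠ p ∧
    A ≤ Subgroup.center G ∧
    Nat.card ↥((P : Subgroup G) ⊔ (Q : Subgroup G)) = Nat.card P * Nat.card Q ∧
    ((P : Subgroup G) ⊔ (Q : Subgroup G)).Normal ∧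
    ((P : Subgroup G) ⊔ (Q : Subgroup G)) ⊓ A = ⊥ ∧ ((P : Subgroup G) ⊔ (Q : Subgroup G)) ⊔ A = ⊤

/-- F0: from the hypothesis of S4033 to the centralizer form, with a noncentral `p`-regular
element. -/
def F0Stmt : Prop := ∀ (G : Type u) [Group G] [Finite G] (p : ℕ), p.Prime →
  Set.ncard (Set.range fun x : {x : G // (orderOf x).Coprime p} =>
    (ConjClasses.mk (x : G)).carrier.ncard) = 2 →
  ∃ m : ℕ, TwoReg p m G ∧ ∃ x : G, (orderOf x).Coprime p ∧ x ∉ Subgroup.center G

/-- F1: commuting `p`-regular elements of coprime orders, the first noncentral: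
`C(x) ≤ C(y)`. -/
def F1Stmt : Prop := ∀ (G : Type u) [Group G] [Finite G] (p m : ℕ), TwoReg p m G →
  ∀ x y : G, (orderOf x).Coprime p → (orderOf y).Coprime p → Commute x y →
    (orderOf x).Coprime (orderOf y) → x ∉ Subgroup.center G →
    Subgroup.centralizer ({x} : Set G) ≤ Subgroup.centralizer ({y} : Set G)

/-- F2: the centralizer of a noncentral `p`-regular element is the centralizer of a noncentral
element of prime power order `q ^ k`, `q ≠ p`. -/
def F2Stmt : Prop := ∀ (G : Type u) [Group G] [Finite G] (p m : ℕ), p.Prime → TwoReg p m G →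
  ∀ g : G, (orderOf g).Coprime p → g ∉ Subgroup.center G →
    ∃ (q : ℕ) (x : G), q.Prime ∧ q ≠ p ∧ (∃ k : ℕ, orderOf x = q ^ k) ∧
      x ∉ Subgroup.center G ∧
      Subgroup.centralizer ({x} : Set G) = Subgroup.centralizer ({g} : Set G)

/-- F3: for a noncentral `q`-element `x`, the `p`-regular `q'`-elements of `C(x)` are central
in `C(x)`. -/
def F3Stmt : Prop := ∀ (G : Type u) [Group G] [Finite G] (p m q : ℕ), p.Prime → TwoReg p m G →
  q.Prime → q ≠ p →
  ∀ x y : G, (∃ k : ℕ, orderOf x = q ^ k) → x ∉ Subgroup.center G →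
    (orderOf y).Coprime p → (orderOf y).Coprime q → y ∈ Subgroup.centralizer ({x} : Set G) →
    ∀ g ∈ Subgroup.centralizer ({x} : Set G), g * y = y * g

/-- CASE I: only one prime `q ≠ p` has noncentral `q`-elements: second alternative. -/
def CaseIStmt : Prop := ∀ (G : Type u) [Group G] [Finite G] (p q : ℕ), p.Prime → q.Prime →
  q ≠ p → (∀ r : ℕ, NCPrime p r G → r = q) → Alt2 p G

/-- (a): two noncentral primes: all `p`-regular elements of the centralizer of a noncentral
`p`-regular element are central in that centralizer. -/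
def AllCentralStmt : Prop := ∀ (G : Type u) [Group G] [Finite G] (p m q r : ℕ), p.Prime →
  TwoReg p m G → NCPrime p q G → NCPrime p r G → q ≠ r →
  ∀ g : G, (orderOf g).Coprime p → g ∉ Subgroup.center G →
    ∀ y ∈ Subgroup.centralizer ({g} : Set G), (orderOf y).Coprime p →
      ∀ h ∈ Subgroup.centralizer ({g} : Set G), h * y = y * h

/-- CASE II (the core, helper4's part): two noncentral primes force `m` to be a power of `p`. -/
def CaseIIStmt : Prop := ∀ (G : Type u) [Group G] [Finite G] (p m q r : ℕ), p.Prime →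
  TwoReg p m G → NCPrime p q G → NCPrime p r G → q ≠ r → ∃ k : ℕ, m = p ^ k

/-- (b): if `m` is a power of `p`, the first alternative holds (landed S4034). -/
theorem alt1_of_pow {G : Type u} [Group G] [Finite G] {p m : ℕ} (hp : p.Prime)
    (hm : TwoReg p m G) (hk : ∃ k : ℕ, m = p ^ k) : Alt1 p G := by
  refine (Cfsg.Agent.S4034.result hp).mp ?_
  intro x hx
  rw [Cfsg.Agent.S4034.ncard_carrier_eq_index]
  rcases hm x hx with h | h
  · exact ⟨0, by rw [h, pow_zero]⟩
  · obtain ⟨k, hk⟩ := hk
    exact ⟨k, by rw [h, hk]⟩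

/-- The glue of the front part: S4033 from F0, F2, CASE I and CASE II. -/
theorem front (f0 : F0Stmt.{u}) (f2 : F2Stmt.{u}) (c1 : CaseIStmt.{u}) (c2 : CaseIIStmt.{u})
    {G : Type u} [Group G] [Finite G] {p : ℕ} (hp : p.Prime)
    (h2 : Set.ncard (Set.range fun x : {x : G // (orderOf x).Coprime p} =>
      (ConjClasses.mk (x : G)).carrier.ncard) = 2) :
    (∃ H : Subgroup G, IsMulCommutative H ∧ ¬ p ∣ Nat.card H ∧ ∃ k : ℕ, H.index = p ^ k) ∨
    (∃ (q : ℕ) (_ : Fact q.Prime) (P : Sylow p G) (Q : Sylow q G) (A : Subgroup G), q ≠ p ∧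
        A ≤ Subgroup.center G ∧
        Nat.card ↥((P : Subgroup G) ⊔ (Q : Subgroup G)) = Nat.card P * Nat.card Q ∧
        ((P : Subgroup G) ⊔ (Q : Subgroup G)).Normal ∧
        ((P : Subgroup G) ⊔ (Q : Subgroup G)) ⊓ A = ⊥ ∧
        ((P : Subgroup G) ⊔ (Q : Subgroup G)) ⊔ A = ⊤) := by
  obtain ⟨m, hm, g, hg, hgc⟩ := f0 G p hp h2
  obtain ⟨q, x, hq, hqp, hxq, hxc, -⟩ := f2 G p m hp hm g hg hgc
  have hNq : NCPrime p q G := ⟨hq, hqp, x, hxq, hxc⟩
  by_cases h : ∀ r : ℕ, NCPrime p r G → r = q
  · right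
    exact c1 G p q hp hq hqp h
  · obtain ⟨r, hr'⟩ := not_forall.mp h
    obtain ⟨hr, hrq⟩ := Classical.not_imp.mp hr'
    left
    exact alt1_of_pow hp hm (c2 G p m q r hp hm hNq hr (Ne.symm hrq))

/-! ### Interface for the BACK part (helper4) -/

/-- `x` is `p`-regular. -/
def PReg (G : Type*) [Group G] (p : ℕ) (x : G) : Prop := (orderOf x).Coprime p

/-- The working hypothesis: `1 < m`, there is a noncentral `p`-regular element, and every
noncentral `p`-regular element has centralizer of index `m`. -/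
def Hyp (G : Type*) [Group G] (p m : ℕ) : Prop :=
  1 < m ∧ (∃ x : G, PReg G p x ∧ x ∉ Subgroup.center G) ∧
    ∀ x : G, PReg G p x → x ∉ Subgroup.center G →
      (Subgroup.centralizer ({x} : Set G)).index = m

/-- CASE II: two different primes (both different from `p`) have noncentral elements of
prime-power order. -/
def CaseII (G : Type*) [Group G] (p : ℕ) : Prop :=
  ∃ q r : ℕ, NCPrime p q G ∧ NCPrime p r G ∧ q ≠ r

theorem index_centralizer_eq_one_of_mem_center {G : Type*} [Group G] {x : G}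
    (hx : x ∈ Subgroup.center G) : (Subgroup.centralizer ({x} : Set G)).index = 1 := by
  rw [Subgroup.index_eq_one, Subgroup.centralizer_eq_top_iff_subset]
  intro y hy
  rw [Set.mem_singleton_iff] at hy
  rw [hy]
  exact hx

theorem mem_center_of_index_centralizer_eq_one {G : Type*} [Group G] {x : G}
    (h : (Subgroup.centralizer ({x} : Set G)).index = 1) : x ∈ Subgroup.center G := by
  rw [Subgroup.index_eq_one, Subgroup.centralizer_eq_top_iff_subset] at h
  exact h (Set.mem_singleton x)

theorem twoReg_of_hyp {G : Type*} [Group G] {p m : ℕ} (h : Hyp G p m) : TwoReg p m G := by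
  intro x hx
  by_cases hc : x ∈ Subgroup.center G
  · exact Or.inl (index_centralizer_eq_one_of_mem_center hc)
  · exact Or.inr (h.2.2 x hx hc)

theorem hyp_of_twoReg {G : Type*} [Group G] [Finite G] {p m : ℕ} (h : TwoReg p m G)
    (hx : ∃ x : G, (orderOf x).Coprime p ∧ x ∉ Subgroup.center G) : Hyp G p m := by
  have key : ∀ x : G, (orderOf x).Coprime p → x ∉ Subgroup.center G →
      (Subgroup.centralizer ({x} : Set G)).index = m := by
    intro x hx1 hx2
    rcases h x hx1 with h1 | h1
    · exact absurd (mem_center_of_index_centralizer_eq_one h1) hx2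
    · exact h1
  obtain ⟨x, hx1, hx2⟩ := hx
  refine ⟨?_, ⟨x, hx1, hx2⟩, key⟩
  have hm := key x hx1 hx2
  have h0 : (Subgroup.centralizer ({x} : Set G)).index ≠ 0 := Subgroup.index_ne_zero_of_finite
  have h1 : (Subgroup.centralizer ({x} : Set G)).index ≠ 1 := fun h1 =>
    hx2 (mem_center_of_index_centralizer_eq_one h1)
  rw [hm] at h0 h1
  omega

/-- A noncentral element of prime power order `q ^ k`, `q ≠ p`, is `p`-regular. -/
theorem preg_of_prime_pow {G : Type*} [Group G] {p q : ℕ} (hp : p.Prime) (hq : q.Prime)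
    (hqp : q ≠ p) {x : G} (hx : ∃ k : ℕ, orderOf x = q ^ k) : (orderOf x).Coprime p := by
  obtain ⟨k, hk⟩ := hx
  rw [hk]
  exact Nat.Coprime.pow_left k ((Nat.coprime_primes hq hp).mpr hqp)

/-- A1 (interface shape): in CASE II, the centralizer of a noncentral `p`-regular `g` is contained
in the centralizer of every `p`-regular element of it. -/
def A1Stmt : Prop := ∀ (G : Type u) [Group G] [Finite G] (p m : ℕ), p.Prime → Hyp G p m →
  CaseII G p →
  ∀ g w : G, PReg G p g → g ∉ Subgroup.center G → PReg G p w →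
    w ∈ Subgroup.centralizer ({g} : Set G) →
    Subgroup.centralizer ({g} : Set G) ≤ Subgroup.centralizer ({w} : Set G)

theorem a1_of_allc (h : AllCentralStmt.{u}) : A1Stmt.{u} := by
  intro G _ _ p m hp hH hII g w hg hgc hw hwg
  obtain ⟨q, r, hq, hr, hqr⟩ := hII
  intro x hx
  rw [Subgroup.mem_centralizer_iff]
  intro y hy
  rw [Set.mem_singleton_iff] at hy
  rw [hy]
  exact (h G p m q r hp (twoReg_of_hyp hH) hq hr hqr g hg hgc w hwg hw x hx).symm

/-- The BACK part (helper4): in CASE II the common class size is a power of `p`. -/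
def BackStmt : Prop := ∀ (G : Type u) [Group G] [Finite G] (p m : ℕ), p.Prime → Hyp G p m →
  CaseII G p → ∃ k : ℕ, m = p ^ k

theorem caseII_of_back (hb : BackStmt.{u}) : CaseIIStmt.{u} := by
  intro G _ _ p m q r hp hm hq hr hqr
  obtain ⟨hq1, hq2, x, hx1, hx2⟩ := hq
  exact hb G p m hp (hyp_of_twoReg hm ⟨x, preg_of_prime_pow hp hq1 hq2 hx1, hx2⟩)
    ⟨q, r, ⟨hq1, hq2, x, hx1, hx2⟩, hr, hqr⟩

/-- S4033 from the front pieces F0, F2, CASE I and the BACK statement. -/
theorem main (f0 : F0Stmt.{u}) (f2 : F2Stmt.{u}) (c1 : CaseIStmt.{u}) (hb : BackStmt.{u})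
    {G : Type u} [Group G] [Finite G] {p : ℕ} (hp : p.Prime)
    (h2 : Set.ncard (Set.range fun x : {x : G // (orderOf x).Coprime p} =>
      (ConjClasses.mk (x : G)).carrier.ncard) = 2) :
    (∃ H : Subgroup G, IsMulCommutative H ∧ ¬ p ∣ Nat.card H ∧ ∃ k : ℕ, H.index = p ^ k) ∨
    (∃ (q : ℕ) (_ : Fact q.Prime) (P : Sylow p G) (Q : Sylow q G) (A : Subgroup G), q ≠ p ∧
        A ≤ Subgroup.center G ∧
        Nat.card ↥((P : Subgroup G) ⊔ (Q : Subgroup G)) = Nat.card P * Nat.card Q ∧
        ((P : Subgroup G) ⊔ (Q : Subgroup G)).Normal ∧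
        ((P : Subgroup G) ⊔ (Q : Subgroup G)) ⊓ A = ⊥ ∧
        ((P : Subgroup G) ⊔ (Q : Subgroup G)) ⊔ A = ⊤) :=
  front f0 f2 c1 (caseII_of_back hb) hp h2

end Cfsg.Agent.Lib.Helper8.TP
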