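import Mathlib
import Cfsg.Agent.Lib.Helper8.TPFront
import Cfsg.Agent.Lib.Helper17.TPFF0
import Cfsg.Agent.Lib.Helper51.TPFF1
import Cfsg.Agent.Lib.Helper93.TPFF2
import Cfsg.Agent.Lib.Helper93.TPFF3
import Cfsg.Agent.Lib.Helper67.TPFCASE1
import Cfsg.Agent.Lib.Helper2.TPFALLC

/-!
Project TP (S4033, architect helper4), FRONT part assembled: all front pieces are landed, so the
statement of S4033 follows from `BackStmt` alone (`s4033_of_back`), and the interface facts for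
the BACK part are available unconditionally (`f1`, `f2`, `f3`, `allCentral`, `a1`).
-/

set_option autoImplicit false

namespace Cfsg.Agent.Lib.Helper8.TP

universe u

theorem f0 : F0Stmt.{u} := Cfsg.Agent.Lib.Helper17.TP.f0

theorem f1 : F1Stmt.{u} := Cfsg.Agent.Lib.Helper51.TP.f1

theorem f2 : F2Stmt.{u} := Cfsg.Agent.Lib.Helper93.TP.f2

theorem f3 : F3Stmt.{u} := Cfsg.Agent.Lib.Helper93.TP.f3 f1

theorem case1 : CaseIStmt.{u} := Cfsg.Agent.Lib.Helper67.TP.case1

theorem allCentral : AllCentralStmt.{u} := Cfsg.Agent.Lib.Helper2.TP.allc f1 f2 f3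

/-- A1: in CASE II, `C(g) ≤ C(w)` for noncentral `p`-regular `g` and `p`-regular `w ∈ C(g)`. -/
theorem a1 : A1Stmt.{u} := a1_of_allc allCentral

/-- S4033 from the BACK statement alone. -/
theorem s4033_of_back (hb : BackStmt.{u})
    {G : Type u} [Group G] [Finite G] {p : ℕ} (hp : p.Prime)
    (h2 : Set.ncard (Set.range fun x : {x : G // (orderOf x).Coprime p} =>
      (ConjClasses.mk (x : G)).carrier.ncard) = 2) :
    (∃ H : Subgroup G, IsMulCommutative H ∧ ¬ p ∣ Nat.card H ∧ ∃ k : ℕ, H.index = p ^ k) ∨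
    (∃ (q : ℕ) (_ : Fact q.Prime) (P : Sylow p G) (Q : Sylow q G) (A : Subgroup G), q ≠ p ∧
        A ≤ Subgroup.center G ∧
        Nat.card ↥((P : Subgroup G) ⊔ (Q : Subgroup G)) = Nat.card P * Nat.card Q ∧
        ((P : Subgroup G) ⊔ (Q : Subgroup G)).Normal ∧
        ((P : Subgroup G) ⊔ (Q : Subgroup G)) ⊓ A = ⊥ ∧
        ((P : Subgroup G) ⊔ (Q : Subgroup G)) ⊔ A = ⊤) :=
  main f0 f2 case1 hb hp h2

end Cfsg.Agent.Lib.Helper8.TP
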