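import Cfsg.Agent.Lib.Helper45.FPDefs

/-!
# S2276, leaf MNP (helper8, for helper45)

Fixed points of `rot ℓ * (t * M * t)`, `t = swap 0 (J + 1)`: only `J + 1` and possibly `1`.
-/

set_option autoImplicit false

namespace Cfsg.Agent.Lib.Helper8.FP

open Equiv Cfsg.Agent.Lib.Helper45.FP

theorem MNP (J m ℓ : ℕ) (hℓ : ℓ = J * m) (hodd : Odd ℓ) (h5 : 5 ≤ ℓ) [NeZero ℓ] (hm3 : 3 ≤ m)
    (M : Perm (ZMod ℓ))
    (hM0 : ∀ x : ZMod ℓ, (ZMod.cast (M x) : ZMod J) = ZMod.cast x)
    (hM1 : ∀ x : ZMod ℓ, (ZMod.cast x : ZMod J) = 0 → M x = x + (J : ZMod ℓ)) :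
    (rot ℓ * (swap (0 : ZMod ℓ) ((J : ZMod ℓ) + 1) * M * swap (0 : ZMod ℓ) ((J : ZMod ℓ) + 1)))
        ((J : ZMod ℓ) + 1) = (J : ZMod ℓ) + 1 ∧
    ∀ x : ZMod ℓ,
      (rot ℓ * (swap (0 : ZMod ℓ) ((J : ZMod ℓ) + 1) * M * swap (0 : ZMod ℓ) ((J : ZMod ℓ) + 1))) x
        = x → x = (J : ZMod ℓ) + 1 ∨ x = 1 := by
  have hJdvd : J ∣ ℓ := ⟨m, hℓ⟩
  have hJodd : Odd J := by
    rw [hℓ] at hodd
    exact (Nat.odd_mul.1 hodd).1
  have hJpos : 0 < J := by
    rcases Nat.eq_zero_or_pos J with h | h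
    · rw [h, zero_mul] at hℓ
      omega
    · exact h
  have hJlt : J + 2 ≤ ℓ := by
    have h1 : J * 3 ≤ J * m := Nat.mul_le_mul_left J hm3
    omega
  -- naturals below `ℓ` are nonzero in `ZMod ℓ`
  have hk : ∀ k : ℕ, 0 < k → k < ℓ → (k : ZMod ℓ) ≠ 0 := by
    intro k hk0 hkl h
    have := Nat.le_of_dvd hk0 ((ZMod.natCast_eq_zero_iff k ℓ).1 h)
    omega
  have h1ne : (1 : ZMod ℓ) ≠ 0 := by
    have := hk 1 (by norm_num) (by omega)
    simpa using this
  have h2ne : (2 : ZMod ℓ) ≠ 0 := by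
    have := hk 2 (by norm_num) (by omega)
    simpa using this
  have h3ne : (3 : ZMod ℓ) ≠ 0 := by
    have := hk 3 (by norm_num) (by omega)
    simpa using this
  have h4ne : (4 : ZMod ℓ) ≠ 0 := by
    have := hk 4 (by norm_num) (by omega)
    simpa using this
  have hJ0 : (J : ZMod ℓ) ≠ 0 := hk J hJpos (by omega)
  have hb0 : (J : ZMod ℓ) + 1 ≠ 0 := by
    have := hk (J + 1) (by omega) (by omega)
    simpa using this
  have hJb : (J : ZMod ℓ) ≠ (J : ZMod ℓ) + 1 := by
    intro h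
    apply h1ne
    linear_combination -h
  -- the class map
  obtain ⟨χ, hχ⟩ : ∃ χ : ZMod ℓ →+* ZMod J, ∀ x, χ x = ZMod.cast x :=
    ⟨ZMod.castHom hJdvd (ZMod J), fun x => ZMod.castHom_apply x⟩
  have hχM : ∀ x, χ (M x) = χ x := fun x => by rw [hχ, hχ, hM0]
  have hχJ : χ (J : ZMod ℓ) = 0 := by rw [map_natCast, ZMod.natCast_self]
  have hχb : χ ((J : ZMod ℓ) + 1) = 1 := by rw [map_add, hχJ, map_one, zero_add]
  have hone : (1 : ZMod J) = 0 → J = 1 := by
    intro h
    have h' : ((1 : ℕ) : ZMod J) = 0 := by simpa using h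
    exact Nat.dvd_one.1 ((ZMod.natCast_eq_zero_iff 1 J).1 h')
  have htwo : (2 : ZMod J) = 0 → J = 1 := by
    intro h
    have h' : ((2 : ℕ) : ZMod J) = 0 := by simpa using h
    rcases (Nat.dvd_prime Nat.prime_two).1 ((ZMod.natCast_eq_zero_iff 2 J).1 h') with h1 | h2
    · exact h1
    · rw [h2] at hJodd
      exact absurd hJodd (by decide)
  have hJ1 : J = 1 → ∀ x, M x = x + 1 := by
    intro hJ x
    have h1 : (ZMod.cast x : ZMod J) = 0 := by
      subst hJ
      exact Subsingleton.elim _ _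
    rw [hM1 x h1, hJ, Nat.cast_one]
  have hJc : J = 1 → (J : ZMod ℓ) = 1 := fun hJ => by rw [hJ, Nat.cast_one]
  have hf : ∀ x, (rot ℓ * (swap (0 : ZMod ℓ) ((J : ZMod ℓ) + 1) * M *
      swap (0 : ZMod ℓ) ((J : ZMod ℓ) + 1))) x =
      swap (0 : ZMod ℓ) ((J : ZMod ℓ) + 1) (M (swap (0 : ZMod ℓ) ((J : ZMod ℓ) + 1) x)) + 1 :=
    fun x => rfl
  constructor
  · rw [hf, swap_apply_right, hM1 0 (by rw [← hχ, map_zero]), zero_add,
      swap_apply_of_ne_of_ne hJ0 hJb]
  · intro x hx
    rw [hf] at hx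
    by_cases hx0 : x = 0
    · exfalso
      rw [hx0, swap_apply_left] at hx
      by_cases hy0 : M ((J : ZMod ℓ) + 1) = 0
      · rw [hy0, swap_apply_left] at hx
        have h1 := hχM ((J : ZMod ℓ) + 1)
        rw [hy0, map_zero, hχb] at h1
        have hJ := hone h1.symm
        rw [hJc hJ] at hx
        apply h3ne
        linear_combination hx
      · by_cases hyb : M ((J : ZMod ℓ) + 1) = (J : ZMod ℓ) + 1
        · rw [hyb, swap_apply_right] at hx
          apply h1ne
          linear_combination hx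
        · rw [swap_apply_of_ne_of_ne hy0 hyb] at hx
          have h1 := congrArg χ hx
          rw [map_add, hχM, hχb, map_one, map_zero] at h1
          have hJ := htwo (by rw [← h1]; norm_num)
          rw [hJ1 hJ, hJc hJ] at hx
          apply h4ne
          linear_combination hx
    · by_cases hxb : x = (J : ZMod ℓ) + 1
      · exact Or.inl hxb
      · rw [swap_apply_of_ne_of_ne hx0 hxb] at hx
        by_cases hy0 : M x = 0
        · exfalso
          rw [hy0, swap_apply_left] at hx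
          have h1 := hχM x
          rw [hy0, map_zero, ← hx, map_add, hχb, map_one] at h1
          have hJ := htwo (by rw [h1]; norm_num)
          have h2 := hJ1 hJ x
          rw [hy0, ← hx, hJc hJ] at h2
          apply h4ne
          linear_combination -h2
        · by_cases hyb : M x = (J : ZMod ℓ) + 1
          · rw [hyb, swap_apply_right, zero_add] at hx
            exact Or.inr hx.symm
          · exfalso
            rw [swap_apply_of_ne_of_ne hy0 hyb] at hx
            have h1 := congrArg χ hx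
            rw [map_add, hχM, map_one] at h1
            have hJ := hone (by linear_combination h1)
            rw [hJ1 hJ] at hx
            apply h2ne
            linear_combination hx

end Cfsg.Agent.Lib.Helper8.FP
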