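import Cfsg.Agent.Lib.Helper45.FPDefs

/-!
# S2276, leaf T1E (helper8, for helper45)

`π = (0 2 4)`, `v = π c π⁻¹` with `c = rot ℓ`, `ℓ ≥ 5` odd: the fixed points of `c * v` are `2` and
`4`, and `(c⁻¹)² * v²` is the 3-cycle `-2 → 0 → 4 → -2`.
-/

set_option autoImplicit false

namespace Cfsg.Agent.Lib.Helper8.FP

open Equiv Cfsg.Agent.Lib.Helper45.FP

theorem T1E (ℓ : ℕ) [NeZero ℓ] (hodd : Odd ℓ) (h5 : 5 ≤ ℓ) :
    (rot ℓ * (swap (0 : ZMod ℓ) 2 * swap (2 : ZMod ℓ) 4 * rot ℓ *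
        (swap (0 : ZMod ℓ) 2 * swap (2 : ZMod ℓ) 4)⁻¹)) 2 = 2 ∧
    (∀ x : ZMod ℓ, (rot ℓ * (swap (0 : ZMod ℓ) 2 * swap (2 : ZMod ℓ) 4 * rot ℓ *
        (swap (0 : ZMod ℓ) 2 * swap (2 : ZMod ℓ) 4)⁻¹)) x = x → x = 2 ∨ x = 4) ∧
    (((rot ℓ)⁻¹) ^ 2 * (swap (0 : ZMod ℓ) 2 * swap (2 : ZMod ℓ) 4 * rot ℓ *
        (swap (0 : ZMod ℓ) 2 * swap (2 : ZMod ℓ) 4)⁻¹) ^ 2).IsThreeCycle ∧
    (((rot ℓ)⁻¹) ^ 2 * (swap (0 : ZMod ℓ) 2 * swap (2 : ZMod ℓ) 4 * rot ℓ *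
        (swap (0 : ZMod ℓ) 2 * swap (2 : ZMod ℓ) 4)⁻¹) ^ 2) 0 = 4 := by
  -- numeric facts in `ZMod ℓ`
  have hk : ∀ k : ℕ, ¬ ℓ ∣ k → (k : ZMod ℓ) ≠ 0 :=
    fun k hk h => hk ((ZMod.natCast_eq_zero_iff k ℓ).1 h)
  have hnd : ∀ k : ℕ, 0 < k → k < 5 → ¬ ℓ ∣ k := fun k h0 h5' h => by
    have := Nat.le_of_dvd h0 h
    omega
  have h1 : (1 : ZMod ℓ) ≠ 0 := by simpa using hk 1 (hnd 1 (by norm_num) (by norm_num))
  have h2 : (2 : ZMod ℓ) ≠ 0 := by simpa using hk 2 (hnd 2 (by norm_num) (by norm_num))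
  have h3 : (3 : ZMod ℓ) ≠ 0 := by simpa using hk 3 (hnd 3 (by norm_num) (by norm_num))
  have h4 : (4 : ZMod ℓ) ≠ 0 := by simpa using hk 4 (hnd 4 (by norm_num) (by norm_num))
  have h6 : (6 : ZMod ℓ) ≠ 0 := by
    have h6' : ¬ ℓ ∣ 6 := by
      intro h
      have hle := Nat.le_of_dvd (by norm_num) h
      obtain ⟨r, hr⟩ := hodd
      have h5' : ℓ = 5 := by omega
      rw [h5'] at h
      omega
    simpa using hk 6 h6'
  have h02 : (0 : ZMod ℓ) ≠ 2 := fun h => h2 h.symm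
  have h04 : (0 : ZMod ℓ) ≠ 4 := fun h => h4 h.symm
  have h24 : (2 : ZMod ℓ) ≠ 4 := fun h => h2 (by linear_combination -h)
  have h12 : (1 : ZMod ℓ) ≠ 2 := fun h => h1 (by linear_combination -h)
  have h14 : (1 : ZMod ℓ) ≠ 4 := fun h => h3 (by linear_combination -h)
  have hm20 : (-2 : ZMod ℓ) ≠ 0 := fun h => h2 (by linear_combination -h)
  have hm24 : (-2 : ZMod ℓ) ≠ 4 := fun h => h6 (by linear_combination -h)
  -- the 3-cycle `π`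
  obtain ⟨π, hπdef⟩ : ∃ π : Perm (ZMod ℓ), π = swap (0 : ZMod ℓ) 2 * swap (2 : ZMod ℓ) 4 :=
    ⟨_, rfl⟩
  have hπ0 : π 0 = 2 := by
    rw [hπdef, Perm.mul_apply, swap_apply_of_ne_of_ne h02 h04, swap_apply_left]
  have hπ2 : π 2 = 4 := by
    rw [hπdef, Perm.mul_apply, swap_apply_left, swap_apply_of_ne_of_ne h04.symm h24.symm]
  have hπ4 : π 4 = 0 := by
    rw [hπdef, Perm.mul_apply, swap_apply_right, swap_apply_right]
  have hπe : ∀ z : ZMod ℓ, z ≠ 0 → z ≠ 2 → z ≠ 4 → π z = z := by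
    intro z hz0 hz2 hz4
    rw [hπdef, Perm.mul_apply, swap_apply_of_ne_of_ne hz2 hz4, swap_apply_of_ne_of_ne hz0 hz2]
  have hf : ∀ x, (rot ℓ * (π * rot ℓ * π⁻¹)) x = π (π⁻¹ x + 1) + 1 := fun x => rfl
  have key : ∀ y : ZMod ℓ, π (y + 1) + 1 = π y → π y = 2 ∨ π y = 4 := by
    intro y hy
    by_cases hy0 : y = 0
    · left
      rw [hy0, hπ0]
    by_cases hy2 : y = 2
    · right
      rw [hy2, hπ2]
    exfalso
    by_cases hy4 : y = 4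
    · rw [hy4, hπ4] at hy
      by_cases hz0 : (4 : ZMod ℓ) + 1 = 0
      · rw [hz0, hπ0] at hy
        exact h3 (by linear_combination hy)
      by_cases hz2 : (4 : ZMod ℓ) + 1 = 2
      · exact h3 (by linear_combination hz2)
      by_cases hz4 : (4 : ZMod ℓ) + 1 = 4
      · exact h1 (by linear_combination hz4)
      rw [hπe _ hz0 hz2 hz4] at hy
      exact h6 (by linear_combination hy)
    · rw [hπe y hy0 hy2 hy4] at hy
      by_cases hz0 : y + 1 = 0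
      · rw [hz0, hπ0] at hy
        exact h4 (by linear_combination hy + hz0)
      by_cases hz2 : y + 1 = 2
      · rw [hz2, hπ2] at hy
        exact h4 (by linear_combination hy + hz2)
      by_cases hz4 : y + 1 = 4
      · rw [hz4, hπ4] at hy
        exact h2 (by linear_combination -hy - hz4)
      rw [hπe _ hz0 hz2 hz4] at hy
      exact h2 (by linear_combination hy)
  -- the commutator-like element
  have hd : ∀ x : ZMod ℓ, (rot ℓ * rot ℓ)⁻¹ x = x - 2 := by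
    intro x
    rw [Equiv.Perm.inv_eq_iff_eq, Perm.mul_apply, rot_apply, rot_apply]
    ring
  have hB : ∀ a b : ZMod ℓ, (rot ℓ * rot ℓ)⁻¹ * swap a b * (rot ℓ * rot ℓ) =
      swap (a - 2) (b - 2) := by
    intro a b
    have h := Equiv.swap_apply_apply ((rot ℓ * rot ℓ)⁻¹) a b
    rw [inv_inv, hd, hd] at h
    exact h.symm
  have e1 : ∀ (c s₁ s₂ : Perm (ZMod ℓ)), c⁻¹ ^ 2 * (s₁ * s₂ * c * (s₁ * s₂)⁻¹) ^ 2 =
      ((c * c)⁻¹ * s₁ * (c * c)) * (((c * c)⁻¹ * s₂ * (c * c)) * (s₂⁻¹ * s₁⁻¹)) := by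
    intro c s₁ s₂
    simp only [pow_two]
    group
  have e3 : swap (0 : ZMod ℓ) 2 * (swap (2 : ZMod ℓ) 4 * swap (0 : ZMod ℓ) 2) = swap 0 4 := by
    have h := Equiv.swap_apply_apply (swap (0 : ZMod ℓ) 2) 2 4
    rw [swap_apply_right, swap_apply_of_ne_of_ne h04.symm h24.symm, swap_inv] at h
    rw [h, mul_assoc]
  have hθ : ((rot ℓ)⁻¹) ^ 2 * (swap (0 : ZMod ℓ) 2 * swap (2 : ZMod ℓ) 4 * rot ℓ *
      (swap (0 : ZMod ℓ) 2 * swap (2 : ZMod ℓ) 4)⁻¹) ^ 2 = swap (0 : ZMod ℓ) (-2) * swap 0 4 := by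
    have e2 : (4 : ZMod ℓ) - 2 = 2 := by norm_num
    rw [e1, hB, hB, swap_inv, swap_inv, sub_self, zero_sub, e2, e3, swap_comm (-2 : ZMod ℓ) 0]
  rw [hθ, ← hπdef]
  refine ⟨?_, ?_, ?_, ?_⟩
  · have hi : π⁻¹ 2 = 0 := by rw [Equiv.Perm.inv_eq_iff_eq, hπ0]
    rw [hf, hi, zero_add, hπe 1 h1 h12 h14, one_add_one_eq_two]
  · intro x hx
    rw [hf] at hx
    have hxx : π (π⁻¹ x) = x := π.apply_symm_apply x
    have h := key (π⁻¹ x) (by rw [hxx]; exact hx)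
    rw [hxx] at h
    exact h
  · exact Equiv.Perm.isThreeCycle_swap_mul_swap_same hm20.symm h04 hm24
  · rw [Perm.mul_apply, swap_apply_left, swap_apply_of_ne_of_ne h04.symm hm24.symm]

end Cfsg.Agent.Lib.Helper8.FP
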