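import Cfsg.Agent.Lib.Helper45.FPDefs

/-!
# S2276, leaf PL2 (helper8, for helper45)

Placement: `u` of order 3 with two 3-orbits, `w` of order 3 with one 3-orbit and three fixed
points; an embedding `ι : Fin 6 ↪ α` and a permutation `h` realising the model pair
`(0 1 2)(3 4 5)`, `(0 2 3)`.
-/

set_option autoImplicit false

namespace Cfsg.Agent.Lib.Helper8.FP

open Equiv Cfsg.Agent.Lib.Helper45.FP

/-- the orbit of a moved point under a permutation of order 3 -/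
theorem pl2_orb {α : Type*} (u : Perm α) (hu3 : u ^ 3 = 1) (x : α) (hx : u x ≠ x) :
    x ≠ u x ∧ x ≠ u (u x) ∧ u x ≠ u (u x) ∧ u (u (u x)) = x := by
  have h3 : u (u (u x)) = x := DFunLike.congr_fun hu3 x
  refine ⟨fun h => hx h.symm, fun h => hx ?_, fun h => hx (u.injective h).symm, h3⟩
  have h' := congrArg u h
  rw [h3] at h'
  exact h'

/-- points of two different orbits of a permutation of order 3 -/
theorem pl2_cross {α : Type*} (u : Perm α) (hu3 : u ^ 3 = 1) (x y : α)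
    (hxy : ∀ k : ℕ, (u ^ k) x ≠ y) (i j : Fin 3) :
    (![x, u x, u (u x)] : Fin 3 → α) i ≠ (![y, u y, u (u y)] : Fin 3 → α) j := by
  have hp : ∀ (z : α) (i : Fin 3), (![z, u z, u (u z)] : Fin 3 → α) i = (u ^ (i : ℕ)) z := by
    intro z i
    fin_cases i <;> rfl
  rw [hp, hp]
  intro h
  apply hxy (2 * (j : ℕ) + (i : ℕ))
  rw [pow_add, Perm.mul_apply, h, ← Perm.mul_apply, ← pow_add,
    show 2 * (j : ℕ) + (j : ℕ) = 3 * (j : ℕ) by ring, pow_mul, hu3, one_pow, Perm.one_apply]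

theorem pl2_inj6 {α : Type*} (f : Fin 6 → α) (hd : ∀ i j : Fin 6, i < j → f i ≠ f j) :
    Function.Injective f := by
  intro i j hij
  by_contra hne
  rcases lt_or_gt_of_ne hne with h | h
  · exact hd i j h hij
  · exact hd j i h hij.symm

theorem PL2 {α : Type*} [Fintype α] [DecidableEq α] (u w : Perm α) (hu3 : u ^ 3 = 1)
    (hw3 : w ^ 3 = 1)
    (x y : α) (hx : u x ≠ x) (hy : u y ≠ y) (hxy : ∀ k : ℕ, (u ^ k) x ≠ y)
    (x' y₁ y₂ y₃ : α) (hx' : w x' ≠ x') (h1 : w y₁ = y₁) (h2 : w y₂ = y₂) (h3 : w y₃ = y₃)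
    (h12 : y₁ ≠ y₂) (h13 : y₁ ≠ y₃) (h23 : y₂ ≠ y₃) :
    ∃ (ι : Fin 6 ↪ α) (h : Perm α),
      (∀ z, u (ι z) = ι ((cyc3 (0 : Fin 6) 1 2 * cyc3 (3 : Fin 6) 4 5) z)) ∧
      (∀ z, (h * w * h⁻¹) (ι z) = ι ((cyc3 (0 : Fin 6) 2 3) z)) := by
  obtain ⟨ox1, ox2, ox3, ox4⟩ := pl2_orb u hu3 x hx
  obtain ⟨oy1, oy2, oy3, oy4⟩ := pl2_orb u hu3 y hy
  obtain ⟨ow1, ow2, ow3, ow4⟩ := pl2_orb w hw3 x' hx'
  have hc := pl2_cross u hu3 x y hxy
  have mf : ∀ a b : α, w a ≠ a → w b = b → a ≠ b := by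
    intro a b ha hb hab
    rw [hab] at ha
    exact ha hb
  have hwx' : w (w x') ≠ w x' := fun h => hx' (w.injective h)
  have hwwx' : w (w (w x')) ≠ w (w x') := fun h => hwx' (w.injective h)
  have hιd : ∀ i j : Fin 6, i < j →
      (![x, u x, u (u x), y, u y, u (u y)] : Fin 6 → α) i ≠
        (![x, u x, u (u x), y, u y, u (u y)] : Fin 6 → α) j := by
    intro i j hlt
    fin_cases i <;> fin_cases j <;>
      first
      | exact absurd hlt (by decide)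
      | exact ox1 | exact ox2 | exact ox3 | exact oy1 | exact oy2 | exact oy3
      | exact hc 0 0 | exact hc 0 1 | exact hc 0 2 | exact hc 1 0 | exact hc 1 1 | exact hc 1 2
      | exact hc 2 0 | exact hc 2 1 | exact hc 2 2
  have hed : ∀ i j : Fin 6, i < j →
      (![x', y₁, w x', w (w x'), y₂, y₃] : Fin 6 → α) i ≠
        (![x', y₁, w x', w (w x'), y₂, y₃] : Fin 6 → α) j := by
    intro i j hlt
    fin_cases i <;> fin_cases j <;>
      first
      | exact absurd hlt (by decide)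
      | exact ow1 | exact ow2 | exact ow3 | exact h12 | exact h13 | exact h23
      | exact mf x' y₁ hx' h1 | exact mf x' y₂ hx' h2 | exact mf x' y₃ hx' h3
      | exact (mf (w x') y₁ hwx' h1).symm | exact (mf (w (w x')) y₁ hwwx' h1).symm
      | exact mf (w x') y₂ hwx' h2 | exact mf (w x') y₃ hwx' h3
      | exact mf (w (w x')) y₂ hwwx' h2 | exact mf (w (w x')) y₃ hwwx' h3
  have hιinj := pl2_inj6 _ hιd
  have heinj := pl2_inj6 _ hed
  have ha : ∀ z : Fin 6, (cyc3 (0 : Fin 6) 1 2 * cyc3 (3 : Fin 6) 4 5) z =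
      (![1, 2, 0, 4, 5, 3] : Fin 6 → Fin 6) z := by decide
  have hb : ∀ z : Fin 6, (cyc3 (0 : Fin 6) 2 3) z = (![2, 1, 3, 0, 4, 5] : Fin 6 → Fin 6) z := by
    decide
  have hucomm : ∀ z : Fin 6, u ((![x, u x, u (u x), y, u y, u (u y)] : Fin 6 → α) z) =
      (![x, u x, u (u x), y, u y, u (u y)] : Fin 6 → α)
        ((cyc3 (0 : Fin 6) 1 2 * cyc3 (3 : Fin 6) 4 5) z) := by
    intro z
    rw [ha]
    fin_cases z <;> first | rfl | exact ox4 | exact oy4
  have hwcomm : ∀ z : Fin 6, w ((![x', y₁, w x', w (w x'), y₂, y₃] : Fin 6 → α) z) =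
      (![x', y₁, w x', w (w x'), y₂, y₃] : Fin 6 → α) ((cyc3 (0 : Fin 6) 2 3) z) := by
    intro z
    rw [hb]
    fin_cases z <;> first | rfl | exact ow4 | exact h1 | exact h2 | exact h3
  obtain ⟨h, hh⟩ := Equiv.Perm.exists_extending_pair _ _ heinj hιinj
  refine ⟨⟨_, hιinj⟩, h, hucomm, fun z => ?_⟩
  show h (w (h⁻¹ ((![x, u x, u (u x), y, u y, u (u y)] : Fin 6 → α) z))) =
    (![x, u x, u (u x), y, u y, u (u y)] : Fin 6 → α) ((cyc3 (0 : Fin 6) 2 3) z)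
  have hi : h⁻¹ ((![x, u x, u (u x), y, u y, u (u y)] : Fin 6 → α) z) =
      (![x', y₁, w x', w (w x'), y₂, y₃] : Fin 6 → α) z := by
    rw [Equiv.Perm.inv_eq_iff_eq, hh]
  rw [hi, hwcomm, hh]

end Cfsg.Agent.Lib.Helper8.FP
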