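import Cfsg.Agent.Lib.Helper8.Sz30

set_option autoImplicit false

namespace Cfsg.Agent.Lib.Helper8.Sz

open Cfsg Matrix
open scoped Pointwise

variable {F : Type*} [Field F] [Fintype F] {m : ℕ}
variable (hF : Fintype.card F = 2 ^ (2 * m + 1))

include hF

theorem HS_conj_TS (s : Fˣ) (a b : F) :
    HS hF s * TS hF a b * (HS hF s)⁻¹ =
      TS hF (th m (s : F) * a) (th m (s : F) * (s : F) ^ 2 * b) := by
  rw [HS_mul_TS, mul_assoc, mul_inv_cancel, mul_one]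

theorem HS_zpow (s : Fˣ) (k : ℤ) : HS hF (s ^ k) = HS hF s ^ k := map_zpow (torusHom hF) s k

theorem TS_inj {a b a' b' : F} (h : TS hF a b = TS hF a' b') : a = a' ∧ b = b' :=
  Tg_inj (congrArg Subtype.val h)

theorem Bsub_conj_form (hm : 1 ≤ m) {n : Sz F m} (hn : n ∈ Bsub F m) (a b : F) (s : Fˣ) :
    ∃ a' b' : F, n⁻¹ * (TS hF a b * HS hF s) * n = TS hF a' b' * HS hF s := by
  obtain ⟨x, y, t, rfl⟩ := fix_inf_decomp' hF hm n hn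
  have e1 : (TS hF x y * HS hF t)⁻¹ =
      TS hF (th m ((t⁻¹ : Fˣ) : F) * x)
        (th m ((t⁻¹ : Fˣ) : F) * ((t⁻¹ : Fˣ) : F) ^ 2 * (y + th m x * x)) * HS hF t⁻¹ := by
    rw [_root_.mul_inv_rev, HS_inv, TS_inv, HS_mul_TS]
  have e2 : t⁻¹ * s * t = s := by
    rw [mul_comm t⁻¹ s, mul_assoc, inv_mul_cancel, mul_one]
  rw [e1, TH_mul, TH_mul, e2]
  exact ⟨_, _, rfl⟩

theorem exists_conj_eq_HS {s₀ : Fˣ} (hs : s₀ ≠ 1) (a₀ b₀ : F) :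
    ∃ x y : F, TS hF x y * (TS hF a₀ b₀ * HS hF s₀) * (TS hF x y)⁻¹ = HS hF s₀ := by
  have hne : th m (s₀ : F) + 1 ≠ 0 := th_add_one_ne_zero hF hs
  have hne2 : th m (s₀ : F) * (s₀ : F) ^ 2 + 1 ≠ 0 := th_mul_sq_add_one_ne_zero hF hs
  obtain ⟨x, hx⟩ : ∃ x : F, x + a₀ + th m (s₀ : F) * x = 0 := by
    refine ⟨a₀ / (th m (s₀ : F) + 1), ?_⟩
    have h1 : a₀ / (th m (s₀ : F) + 1) * (th m (s₀ : F) + 1) = a₀ := div_mul_cancel₀ _ hne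
    linear_combination h1 + add_self hF a₀
  obtain ⟨y, hy⟩ : ∃ y : F, y + b₀ + th m x * a₀ +
      th m (s₀ : F) * (s₀ : F) ^ 2 * (y + th m x * x) + th m (x + a₀) * (th m (s₀ : F) * x) = 0 := by
    obtain ⟨E, hE⟩ : ∃ E : F, E = b₀ + th m x * a₀ +
      th m (s₀ : F) * (s₀ : F) ^ 2 * (th m x * x) + th m (x + a₀) * (th m (s₀ : F) * x) := ⟨_, rfl⟩
    refine ⟨E / (th m (s₀ : F) * (s₀ : F) ^ 2 + 1), ?_⟩
    have h1 : E / (th m (s₀ : F) * (s₀ : F) ^ 2 + 1) * (th m (s₀ : F) * (s₀ : F) ^ 2 + 1) = E :=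
      div_mul_cancel₀ _ hne2
    linear_combination h1 + add_self hF E - hE
  refine ⟨x, y, ?_⟩
  have key : TS hF x y * (TS hF a₀ b₀ * HS hF s₀) * TS hF x (y + th m x * x) =
      TS hF (x + a₀ + th m (s₀ : F) * x) (y + b₀ + th m x * a₀ +
        th m (s₀ : F) * (s₀ : F) ^ 2 * (y + th m x * x) + th m (x + a₀) * (th m (s₀ : F) * x)) *
        HS hF s₀ := by
    rw [mul_assoc (TS hF x y), mul_assoc (TS hF a₀ b₀), HS_mul_TS, ← mul_assoc (TS hF a₀ b₀),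
      ← mul_assoc (TS hF x y), ← mul_assoc (TS hF x y), TS_mul, TS_mul]
  rw [TS_inv, key, hx, hy, TS_zero, one_mul]

theorem exists_chi_eq {d : F} (hd : d ≠ 0) :
    ∃ s : Fˣ, th m (s : F) * (s : F) ^ 2 = d := by
  have hθd : th m d ≠ 0 := th_ne_zero hd
  obtain ⟨r, hr⟩ := exists_sq hF (d ^ 2 / th m d)
  have hr0 : r ≠ 0 := by
    rintro rfl
    rw [zero_pow two_ne_zero] at hr
    exact (div_ne_zero (pow_ne_zero 2 hd) hθd) hr.symm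
  have hθr : th m r = th m d / d := by
    apply sq_inj hF
    rw [← th_pow, hr, th_div, th_pow, th_th hF, div_pow]
  refine ⟨Units.mk0 r hr0, ?_⟩
  rw [Units.val_mk0, hθr, hr]
  field_simp

/-- the torus parts of the elements of `M` fixing infinity -/
def torusPart (M : Subgroup (Sz F m)) : Subgroup Fˣ where
  carrier := {s | ∃ a b : F, TS hF a b * HS hF s ∈ M}
  one_mem' := ⟨0, 0, by rw [TS_zero, HS_one, one_mul]; exact M.one_mem⟩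
  mul_mem' := by
    rintro s s' ⟨a, b, h⟩ ⟨a', b', h'⟩
    have h2 := M.mul_mem h h'
    rw [TH_mul] at h2
    exact ⟨_, _, h2⟩
  inv_mem' := by
    rintro s ⟨a, b, h⟩
    have h2 := M.inv_mem h
    rw [_root_.mul_inv_rev, HS_inv, TS_inv, HS_mul_TS] at h2
    exact ⟨_, _, h2⟩

/-- the normal form of a subgroup with at least two involutions fixing infinity -/
structure NormalForm (M : Subgroup (Sz F m)) : Prop where
  one : TS hF 0 1 ∈ M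
  two : ∃ β : F, β ≠ 0 ∧ β ≠ 1 ∧ TS hF 0 β ∈ M
  tor : ∀ (a b : F) (s : Fˣ), TS hF a b * HS hF s ∈ M → HS hF s ∈ M
  out : ∃ μ ∈ M, μ ∉ Bsub F m

theorem exists_normal_form (hm : 1 ≤ m) (M : Subgroup (Sz F m)) {b₁ b₂ : F} (hb₁ : b₁ ≠ 0)
    (hb₂ : b₂ ≠ 0) (hne : b₁ ≠ b₂) (h₁ : TS hF 0 b₁ ∈ M) (h₂ : TS hF 0 b₂ ∈ M) {μ₀ : Sz F m}
    (hμ₀ : μ₀ ∈ M) (hμ₀B : μ₀ ∉ Bsub F m) :
    ∃ n : Sz F m, NormalForm hF (M.map (MulAut.conj n).toMonoidHom) := by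
  obtain ⟨⟨s₀, hs₀D⟩, hgen⟩ := exists_zpow_surjective (torusPart hF M)
  obtain ⟨a₀, b₀, hg₀⟩ := hs₀D
  have hD : ∀ (a b : F) (s : Fˣ), TS hF a b * HS hF s ∈ M → ∃ k : ℤ, s = s₀ ^ k := by
    intro a b s h
    obtain ⟨k, hk⟩ := hgen ⟨s, a, b, h⟩
    refine ⟨k, ?_⟩
    have h2 := congrArg Subtype.val hk
    exact h2.symm
  have hs₀ : s₀ ≠ 1 := by
    rintro rfl
    obtain ⟨ν, hνM, hνB, hν⟩ := exists_conj_in_Bsub hF hm M hb₁ hb₂ h₁ h₂ hμ₀ hμ₀B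
    obtain ⟨a, b, s, rfl⟩ := fix_inf_decomp' hF hm ν hνB
    obtain ⟨k, hk⟩ := hD a b s hνM
    rw [_root_.one_zpow] at hk
    subst hk
    rw [HS_one, mul_one, ← TS_center_comm hF b₁ a b, mul_assoc, mul_inv_cancel, mul_one] at hν
    exact hne (TS_inj hF hν).2
  obtain ⟨x, y, hu⟩ := exists_conj_eq_HS hF hs₀ a₀ b₀
  obtain ⟨s₂, hs₂⟩ := exists_chi_eq hF (inv_ne_zero hb₁)
  have hχ0 : th m (s₂ : F) * (s₂ : F) ^ 2 ≠ 0 := by
    rw [hs₂]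
    exact inv_ne_zero hb₁
  obtain ⟨n, hn⟩ : ∃ n : Sz F m, n = HS hF s₂ * TS hF x y := ⟨_, rfl⟩
  refine ⟨n, ?_⟩
  have hnB : n ∈ Bsub F m := by
    rw [hn]
    exact (Bsub F m).mul_mem (HS_mem_Bsub hF s₂) (TS_mem_Bsub hF x y)
  have hmem : ∀ g ∈ M, n * g * n⁻¹ ∈ M.map (MulAut.conj n).toMonoidHom := fun g hg =>
    ⟨g, hg, rfl⟩
  have hmem' : ∀ g, g ∈ M.map (MulAut.conj n).toMonoidHom → n⁻¹ * g * n ∈ M := by
    intro g hg
    rw [Subgroup.mem_map_equiv, MulAut.conj_symm_apply] at hg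
    exact hg
  have hcenter : ∀ b : F, n * TS hF 0 b * n⁻¹ =
      TS hF 0 (th m (s₂ : F) * (s₂ : F) ^ 2 * b) := by
    intro b
    have e : n * TS hF 0 b * n⁻¹ =
        HS hF s₂ * (TS hF x y * TS hF 0 b * (TS hF x y)⁻¹) * (HS hF s₂)⁻¹ := by
      rw [hn]
      group
    rw [e, ← TS_center_comm hF b x y, mul_assoc (TS hF 0 b), mul_inv_cancel, mul_one, HS_conj_TS,
      mul_zero]
  refine ⟨?_, ?_, ?_, ?_⟩
  · have h3 := hmem _ h₁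
    rw [hcenter, hs₂, inv_mul_cancel₀ hb₁] at h3
    exact h3
  · refine ⟨th m (s₂ : F) * (s₂ : F) ^ 2 * b₂, mul_ne_zero hχ0 hb₂, ?_, ?_⟩
    · intro h
      apply hne
      have h3 : th m (s₂ : F) * (s₂ : F) ^ 2 * b₁ = th m (s₂ : F) * (s₂ : F) ^ 2 * b₂ := by
        rw [h, hs₂, inv_mul_cancel₀ hb₁]
      exact mul_left_cancel₀ hχ0 h3
    · have h3 := hmem _ h₂
      rw [hcenter] at h3
      exact h3
  · intro a b s h
    have h1 := hmem' _ h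
    obtain ⟨a', b', e⟩ := Bsub_conj_form hF hm hnB a b s
    rw [e] at h1
    obtain ⟨k, rfl⟩ := hD a' b' s h1
    rw [HS_zpow]
    apply Subgroup.zpow_mem
    have h2 := hmem _ hg₀
    have e2 : n * (TS hF a₀ b₀ * HS hF s₀) * n⁻¹ = HS hF s₀ := by
      have e3 : n * (TS hF a₀ b₀ * HS hF s₀) * n⁻¹ =
          HS hF s₂ * (TS hF x y * (TS hF a₀ b₀ * HS hF s₀) * (TS hF x y)⁻¹) * (HS hF s₂)⁻¹ := by
        rw [hn]
        group
      rw [e3, hu, ← HS_mul, HS_inv, ← HS_mul, mul_comm s₂ s₀, mul_assoc, mul_inv_cancel, mul_one]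
    rw [e2] at h2
    exact h2
  · refine ⟨n * μ₀ * n⁻¹, hmem _ hμ₀, ?_⟩
    intro h
    apply hμ₀B
    have h3 : μ₀ = n⁻¹ * (n * μ₀ * n⁻¹) * n := by group
    rw [h3]
    exact (Bsub F m).mul_mem ((Bsub F m).mul_mem ((Bsub F m).inv_mem hnB) h) hnB

end Cfsg.Agent.Lib.Helper8.Sz
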