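import Cfsg.Agent.Lib.Helper8.Sz37

set_option autoImplicit false

namespace Cfsg.Agent.Lib.Helper8.Sz

open Cfsg Matrix

variable {F : Type*} [Field F] [Fintype F] {m : ℕ}

/-- the trace of an element of the Suzuki group -/
def trS (g : Sz F m) : F := Matrix.trace (g.1.1 : Matrix (Fin 4) (Fin 4) F)

omit [Fintype F] in
theorem trS_mul_comm (a b : Sz F m) : trS (a * b) = trS (b * a) := by
  show Matrix.trace (a.1.1 * b.1.1) = Matrix.trace (b.1.1 * a.1.1)
  exact Matrix.trace_mul_comm _ _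

omit [Fintype F] in
theorem trS_conj (u g : Sz F m) : trS (u * g * u⁻¹) = trS g := by
  rw [trS_mul_comm, ← mul_assoc, inv_mul_cancel, one_mul]

/-- lower triangular translation matrix -/
def Lm (m : ℕ) (c d : F) : Matrix (Fin 4) (Fin 4) F :=
  !![1, 0, 0, 0;
     c, 1, 0, 0;
     d, th m c, 1, 0;
     c * d + th m c * c ^ 2 + th m d, d + th m c * c, c, 1]

omit [Fintype F] in
theorem wm_Tm_wm (c d : F) : wm F * Tm m c d * wm F = Lm m c d := by
  ext i j
  fin_cases i <;> fin_cases j <;> simp [Lm, Tm, wm, Matrix.mul_apply, Fin.sum_univ_four]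

variable (hF : Fintype.card F = 2 ^ (2 * m + 1))

include hF

/-- the opposite translation -/
def US (c d : F) : Sz F m := wS hF * TS hF c d * wS hF

theorem US_val (c d : F) : ((US hF c d).1.1 : Matrix (Fin 4) (Fin 4) F) = Lm m c d := by
  rw [← wm_Tm_wm]
  rfl

theorem trace_Tm_Lm (c₁ d₁ c₂ d₂ : F) :
    Matrix.trace (Tm m c₂ d₂ * Lm m c₁ d₁) =
      fS m c₁ d₁ * fS m c₂ d₂ + th m (c₁ * c₂) + d₁ * c₂ * th m c₂ + d₂ * c₁ * th m c₁ := by
  have h1 := add_self hF (1 : F)
  have h2 := add_self hF (c₁ * c₂)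
  have h3 := add_self hF (d₁ * d₂)
  simp only [Matrix.trace, Matrix.diag, Fin.sum_univ_four, Matrix.mul_apply, Tm, Lm, fS, th_mul]
  simp
  linear_combination 2 * h1 + h2 + h3

theorem trS_TS_US (c₁ d₁ c₂ d₂ : F) :
    trS (TS hF c₂ d₂ * US hF c₁ d₁) =
      fS m c₁ d₁ * fS m c₂ d₂ + th m (c₁ * c₂) + d₁ * c₂ * th m c₂ + d₂ * c₁ * th m c₁ := by
  rw [← trace_Tm_Lm hF, ← US_val hF]
  rfl

theorem trS_TS (a b : F) : trS (TS hF a b) = 0 := by
  have h1 := add_self hF (1 : F)
  show Matrix.trace (Tm m a b) = 0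
  simp only [Matrix.trace, Matrix.diag, Fin.sum_univ_four, Tm]
  simp
  linear_combination 2 * h1

theorem trace_K1 (d α β : F) :
    Matrix.trace (Tm m 0 d * Lm m 0 α * Tm m 0 d * Lm m 0 β) = th m (α * β) * (th m d) ^ 2 := by
  have := charP_two hF
  simp only [Matrix.trace, Matrix.diag, Fin.sum_univ_four, Matrix.mul_apply, Tm, Lm, th_mul, th_zero]
  simp
  grind

theorem trace_B1 (a d e : F) :
    Matrix.trace (Tm m 0 1 * Lm m 0 a * (Tm m 0 d * Lm m 0 e * Tm m 0 d)) =
      th m a + th m e * (1 + th m a * (th m d) ^ 2 + th m a * th m d + a * th m d + a * d) +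
        e * th m a * (th m d + d) := by
  have := charP_two hF
  simp only [Matrix.trace, Matrix.diag, Fin.sum_univ_four, Matrix.mul_apply, Tm, Lm, th_zero,
    th_one]
  simp
  grind

theorem TS_center_inv (d : F) : (TS hF 0 d)⁻¹ = TS hF 0 d := by
  rw [TS_inv, th_zero, zero_mul, add_zero]

theorem US_mul_self (τ : F) : US hF 0 τ * US hF 0 τ = 1 := by
  have h1 : US hF 0 τ * US hF 0 τ =
      wS hF * (TS hF 0 τ * (wS hF * wS hF) * TS hF 0 τ) * wS hF := by
    simp only [US, mul_assoc]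
  rw [h1, wS_mul_wS, mul_one, TS_center_sq, mul_one, wS_mul_wS]

theorem US_zero : US hF (0 : F) 0 = 1 := by
  rw [US, TS_zero, mul_one, wS_mul_wS]

/-- the normal form of a strongly real element of odd order -/
def NS (τ : F) : Sz F m := TS hF 0 1 * US hF 0 τ

theorem trS_NS (τ : F) : trS (NS hF τ) = th m τ := by
  rw [NS, trS_TS_US]
  simp [fS, th_zero, th_one]

theorem trS_K1 (d α β : F) :
    trS (TS hF 0 d * US hF 0 α * (TS hF 0 d)⁻¹ * US hF 0 β) = th m (α * β) * (th m d) ^ 2 := by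
  rw [TS_center_inv, ← trace_K1 hF, ← US_val hF, ← US_val hF]
  rfl

theorem trS_B1 (a d e : F) :
    trS (NS hF a * (TS hF 0 d * US hF 0 e * (TS hF 0 d)⁻¹)) =
      th m a + th m e * (1 + th m a * (th m d) ^ 2 + th m a * th m d + a * th m d + a * d) +
        e * th m a * (th m d + d) := by
  rw [TS_center_inv, ← trace_B1 hF, ← US_val hF, ← US_val hF]
  rfl

theorem NS_inv (τ : F) : (NS hF τ)⁻¹ = TS hF 0 1 * NS hF τ * (TS hF 0 1)⁻¹ := by
  have h1 : (US hF 0 τ)⁻¹ = US hF 0 τ := inv_eq_of_mul_eq_one_right (US_mul_self hF τ)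
  rw [NS, _root_.mul_inv_rev, h1, TS_center_inv, ← mul_assoc, TS_center_sq, one_mul]

/-! ### strongly real elements -/

/-- every element which is not a `2`-element is inverted by an involution -/
theorem exists_inverting (hm : 1 ≤ m) {g : Sz F m} (hg : g ^ 4 ≠ 1) :
    ∃ s : Sz F m, s ≠ 1 ∧ s * s = 1 ∧ s * g * s⁻¹ = g⁻¹ := by
  have hg1 : g ≠ 1 := by
    rintro rfl
    exact hg (one_pow 4)
  rcases pow_trichotomy hF hm g with h | h | h
  · exact absurd h hg
  · have hT : g ∈ TH F m := ⟨hg1, h⟩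
    rw [TH_eq hF hm] at hT
    obtain ⟨c, a, ha, -, rfl⟩ := (mem_conjSet_iff _ _).1 hT
    obtain ⟨t, rfl⟩ := (mem_HSub_iff hF a).1 ha
    refine ⟨c * wS hF * c⁻¹, ?_, ?_, ?_⟩
    · intro h1
      exact wS_ne_one hF (eq_one_of_conj_eq_one h1)
    · rw [conj_mul_self, wS_mul_wS, mul_one, mul_inv_cancel]
    · have e : (c * wS hF * c⁻¹) * (c * HS hF t * c⁻¹) * (c * wS hF * c⁻¹)⁻¹ =
          c * (wS hF * HS hF t * (wS hF)⁻¹) * c⁻¹ := by group
      rw [e, wS_inv, wS_mul_HS_mul_wS, ← HS_inv]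
      group
  · have hT : g ∈ TX F m := ⟨hg1, h⟩
    have hcard := TX_normalizer_card_eq hF hm hT
    have h2 : 2 ∣ Nat.card (Subgroup.normalizer
        (Subgroup.centralizer ({g} : Set (Sz F m)) : Set (Sz F m))) := by
      rw [hcard]
      exact Dvd.dvd.mul_right (by norm_num) _
    have : Fact (Nat.Prime 2) := ⟨Nat.prime_two⟩
    obtain ⟨⟨s, hsN⟩, hs⟩ := exists_prime_orderOf_dvd_card' 2 h2
    have hs' : orderOf (s : Sz F m) = 2 := by
      rw [← hs]
      exact (Subgroup.orderOf_mk s hsN).symm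
    have hss : (s : Sz F m) * s = 1 := by
      have := pow_orderOf_eq_one (s : Sz F m)
      rwa [hs', pow_two] at this
    have hs1 : (s : Sz F m) ≠ 1 := by
      intro h1
      rw [h1, orderOf_one] at hs'
      exact absurd hs' (by norm_num)
    have hsinv : (s : Sz F m)⁻¹ = s := inv_eq_of_mul_eq_one_right hss
    have hsC : (s : Sz F m) ∉ Subgroup.centralizer ({g} : Set (Sz F m)) := by
      intro hmem
      have h3 := TX_pow_eq_one hF hm hT hmem
      have h4 := orderOf_dvd_of_pow_eq_one h3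
      rw [hs'] at h4
      exact odd_sq_add_one h4
    have hgC : g ∈ Subgroup.centralizer ({g} : Set (Sz F m)) := mem_centralizer_singleton_iff.2 rfl
    have hg' : (s : Sz F m) * g * (s : Sz F m)⁻¹ ∈ Subgroup.centralizer ({g} : Set (Sz F m)) :=
      (Subgroup.mem_normalizer_iff.1 hsN g).1 hgC
    have hc : (s : Sz F m) * g * (s : Sz F m)⁻¹ * g = g * ((s : Sz F m) * g * (s : Sz F m)⁻¹) :=
      mem_centralizer_singleton_iff.1 hg'
    refine ⟨s, hs1, hss, ?_⟩
    by_contra hne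
    have hu1 : g * ((s : Sz F m) * g * (s : Sz F m)⁻¹) ≠ 1 := by
      intro h1
      exact hne (eq_inv_of_mul_eq_one_right h1)
    have hug : g * ((s : Sz F m) * g * (s : Sz F m)⁻¹) * g =
        g * (g * ((s : Sz F m) * g * (s : Sz F m)⁻¹)) := by
      rw [mul_assoc, hc]
    have hCeq := TX_centralizer_eq hF hm hT hu1 hug
    apply hsC
    rw [← hCeq, mem_centralizer_singleton_iff]
    -- s commutes with u
    have e1 : (s : Sz F m) * (g * ((s : Sz F m) * g * (s : Sz F m)⁻¹)) =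
        ((s : Sz F m) * g * (s : Sz F m)⁻¹) * ((s : Sz F m) * (s : Sz F m)) * g * (s : Sz F m)⁻¹ := by
      group
    rw [e1, hss, mul_one, hc, hsinv, mul_assoc]

end Cfsg.Agent.Lib.Helper8.Sz
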