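import Cfsg.Agent.Lib.Helper4.TPDefs

/-!
# Project TP (S4033), piece RP1

For an abelian normal subgroup `B` and an element `x` of order prime to `|B|`, the centralizer of
the image of `x` in `G ⧸ B` is the image of `B · C(x)`; hence
`|G ⧸ B : C(x̄)| * |B : B ⊓ C(x)| = |G : C(x)|`.
-/

namespace Cfsg.Agent.Lib.Helper4.TP

universe u

theorem rp1_helper8_relIndex_sup {G : Type u} [Group G] [Finite G] (H N : Subgroup G)
    [N.Normal] : H.relIndex (H ⊔ N) = H.relIndex N := by
  have h1 : H.relIndex (H ⊔ N) * Nat.card H = Nat.card (H ⊔ N : Subgroup G) := by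
    rw [← Subgroup.relIndex_bot_left, mul_comm, ← Subgroup.relIndex_bot_left]
    exact Subgroup.relIndex_mul_relIndex ⊥ H (H ⊔ N) bot_le le_sup_left
  have h2 : N.relIndex (H ⊔ N) * Nat.card N = Nat.card (H ⊔ N : Subgroup G) := by
    rw [← Subgroup.relIndex_bot_left, mul_comm, ← Subgroup.relIndex_bot_left]
    exact Subgroup.relIndex_mul_relIndex ⊥ N (H ⊔ N) bot_le le_sup_right
  rw [Subgroup.relIndex_sup_right] at h2
  have h3 : H.relIndex N * Nat.card (H ⊓ N : Subgroup G) = Nat.card N := by
    rw [← Subgroup.inf_relIndex_right, ← Subgroup.relIndex_bot_left, mul_comm,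
      ← Subgroup.relIndex_bot_left]
    exact Subgroup.relIndex_mul_relIndex ⊥ (H ⊓ N) N bot_le inf_le_right
  have h4 : N.relIndex H * Nat.card (H ⊓ N : Subgroup G) = Nat.card H := by
    rw [← Subgroup.inf_relIndex_left, ← Subgroup.relIndex_bot_left, mul_comm,
      ← Subgroup.relIndex_bot_left]
    exact Subgroup.relIndex_mul_relIndex ⊥ (H ⊓ N) H bot_le inf_le_left
  have hpos : 0 < Nat.card H := Nat.card_pos
  have heq : H.relIndex (H ⊔ N) * Nat.card H = H.relIndex N * Nat.card H := by
    rw [h1, ← h2, ← h3, ← h4]; ring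
  exact Nat.eq_of_mul_eq_mul_right hpos heq

theorem rp1 : AvgStmt.{u} → RP1Stmt.{u} := by
  intro hAvg G _ _ B hBn hab x hx
  have hmemD : ∀ g : G, g ∈ (Cen (QuotientGroup.mk (s := B) x : G ⧸ B)).comap
      (QuotientGroup.mk' B) ↔ g * x * g⁻¹ * x⁻¹ ∈ B := by
    intro g
    rw [Subgroup.mem_comap, Subgroup.mem_centralizer_iff]
    simp only [Set.mem_singleton_iff, forall_eq, QuotientGroup.mk'_apply]
    rw [← QuotientGroup.eq_one_iff, QuotientGroup.mk_mul, QuotientGroup.mk_mul,
      QuotientGroup.mk_mul, QuotientGroup.mk_inv, QuotientGroup.mk_inv, mul_inv_eq_one,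
      mul_inv_eq_iff_eq_mul]
    exact eq_comm
  have hDeq : (Cen (QuotientGroup.mk (s := B) x : G ⧸ B)).comap (QuotientGroup.mk' B)
      = Cen x ⊔ B := by
    apply le_antisymm
    · intro g hg
      rw [hmemD] at hg
      obtain ⟨b, hb, hbg⟩ := hAvg G B hBn hab x g hx hg
      have hc : b⁻¹ * g ∈ Cen x := by
        rw [Subgroup.mem_centralizer_iff]
        intro h hh
        rw [Set.mem_singleton_iff] at hh
        subst hh
        have e1 : g * h = b * h * b⁻¹ * g := by rw [hbg]; group
        calc h * (b⁻¹ * g) = b⁻¹ * (b * h * b⁻¹ * g) := by group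
          _ = b⁻¹ * (g * h) := by rw [e1]
          _ = b⁻¹ * g * h := by group
      have : g = (b⁻¹ * g) * (g⁻¹ * b * g) := by group
      rw [this]
      refine Subgroup.mul_mem_sup hc ?_
      have := hBn.conj_mem b hb g⁻¹
      simpa using this
    · apply sup_le
      · intro c hc
        rw [hmemD]
        rw [Subgroup.mem_centralizer_iff] at hc
        have h1 := hc x (Set.mem_singleton x)
        have : c * x * c⁻¹ * x⁻¹ = 1 := by
          rw [← h1]; group
        rw [this]; exact B.one_mem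
      · intro b hb
        rw [hmemD]
        have h1 : x * b⁻¹ * x⁻¹ ∈ B := hBn.conj_mem b⁻¹ (B.inv_mem hb) x
        have : b * x * b⁻¹ * x⁻¹ = b * (x * b⁻¹ * x⁻¹) := by group
        rw [this]; exact B.mul_mem hb h1
  have hDidx : ((Cen (QuotientGroup.mk (s := B) x : G ⧸ B)).comap (QuotientGroup.mk' B)).index
      = (Cen (QuotientGroup.mk (s := B) x : G ⧸ B)).index :=
    Subgroup.index_comap_of_surjective _ (QuotientGroup.mk'_surjective B)
  rw [← hDidx, hDeq, ← rp1_helper8_relIndex_sup (Cen x) B, mul_comm]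
  exact Subgroup.relIndex_mul_index le_sup_left

end Cfsg.Agent.Lib.Helper4.TP
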