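import Mathlib

set_option autoImplicit false

namespace Cfsg.Agent.Lib.Helper8.OutAS

open Polynomial

/-- J-AS : additive Hilbert 90 for F_{2^f}/F_2. -/
theorem artin_schreier {F : Type*} [Field F] [Fintype F] {f : ℕ} (hf : 1 ≤ f)
    (hF : Fintype.card F = 2 ^ f) (t : F) (ht : ∑ i ∈ Finset.range f, t ^ (2 ^ i) = 0) :
    ∃ x : F, x ^ 2 + x = t := by
  classical
  have h2 : (2 : F) = 0 := by
    have h1 : ((Fintype.card F : ℕ) : F) = 0 := FiniteField.cast_card_eq_zero F
    rw [hF] at h1
    push_cast at h1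
    exact pow_eq_zero_iff (by omega) |>.1 h1
  have hsq : ∀ a b : F, (a + b) ^ 2 = a ^ 2 + b ^ 2 := by
    intro a b
    linear_combination (a * b) * h2
  have hpow : ∀ (i : ℕ) (a b : F), (a + b) ^ (2 ^ i) = a ^ (2 ^ i) + b ^ (2 ^ i) := by
    intro i
    induction i with
    | zero => intro a b; simp
    | succ i ih =>
      intro a b
      rw [pow_succ, pow_mul, pow_mul, pow_mul, ih, hsq]
  have hneg : ∀ a : F, -a = a := by
    intro a
    linear_combination (-a) * h2
  -- the trace of ℘(x) vanishes
  have htr : ∀ x : F, ∑ i ∈ Finset.range f, (x ^ 2 + x) ^ (2 ^ i) = 0 := by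
    intro x
    have e : ∀ i ∈ Finset.range f, (x ^ 2 + x) ^ (2 ^ i) = x ^ (2 ^ (i + 1)) - x ^ (2 ^ i) := by
      intro i _
      rw [hpow, ← pow_mul, sub_eq_add_neg, hneg]
      congr 2
      rw [pow_succ]; ring
    rw [Finset.sum_congr rfl e, Finset.sum_range_sub (fun i => x ^ (2 ^ i))]
    have h3 : x ^ (2 ^ f) = x := by rw [← hF]; exact FiniteField.pow_card x
    rw [h3]; simp
  -- the polynomial
  set P : F[X] := ∑ i ∈ Finset.range f, (X : F[X]) ^ (2 ^ i) with hP
  have hPeval : ∀ y : F, P.eval y = ∑ i ∈ Finset.range f, y ^ (2 ^ i) := by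
    intro y
    rw [hP, Polynomial.eval_finset_sum]
    apply Finset.sum_congr rfl
    intro i _
    rw [Polynomial.eval_pow, Polynomial.eval_X]
  have hP0 : P ≠ 0 := by
    intro h
    have h1 : P.coeff 1 = 1 := by
      rw [hP, Polynomial.finset_sum_coeff]
      rw [Finset.sum_eq_single 0]
      · simp
      · intro i _ hi
        rw [Polynomial.coeff_X_pow, if_neg]
        intro h'
        have : 1 < 2 ^ i := Nat.one_lt_two_pow hi
        omega
      · intro h'
        exact absurd (Finset.mem_range.2 (by omega)) h'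
    rw [h] at h1
    simp at h1
  have hPdeg : P.natDegree ≤ 2 ^ (f - 1) := by
    rw [hP]
    apply Polynomial.natDegree_sum_le_of_forall_le
    intro i hi
    rw [Polynomial.natDegree_X_pow]
    apply Nat.pow_le_pow_right (by norm_num)
    have := Finset.mem_range.1 hi
    omega
  set S : Finset F := Finset.univ.image (fun x : F => x ^ 2 + x) with hS
  set K : Finset F := Finset.univ.filter (fun y : F => ∑ i ∈ Finset.range f, y ^ (2 ^ i) = 0)
    with hK
  have hSK : S ⊆ K := by
    intro y hy
    rw [hS, Finset.mem_image] at hy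
    obtain ⟨x, _, rfl⟩ := hy
    rw [hK, Finset.mem_filter]
    exact ⟨Finset.mem_univ _, htr x⟩
  have hKcard : K.card ≤ 2 ^ (f - 1) := by
    have h1 : K ⊆ P.roots.toFinset := by
      intro y hy
      rw [hK, Finset.mem_filter] at hy
      rw [Multiset.mem_toFinset, Polynomial.mem_roots hP0, Polynomial.IsRoot, hPeval]
      exact hy.2
    calc K.card ≤ P.roots.toFinset.card := Finset.card_le_card h1
      _ ≤ Multiset.card P.roots := Multiset.toFinset_card_le _
      _ ≤ P.natDegree := Polynomial.card_roots' P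
      _ ≤ 2 ^ (f - 1) := hPdeg
  have hScard : 2 ^ (f - 1) ≤ S.card := by
    have h1 : (Finset.univ : Finset F).card ≤ 2 * S.card := by
      rw [hS]
      apply Finset.card_le_mul_card_image
      intro y hy
      rw [Finset.mem_image] at hy
      obtain ⟨x0, _, rfl⟩ := hy
      have h3 : (Finset.univ.filter (fun x : F => x ^ 2 + x = x0 ^ 2 + x0)) ⊆ {x0, -x0 - 1} := by
        intro x hx'
        rw [Finset.mem_filter] at hx'
        have h4 : (x - x0) * (x + x0 + 1) = 0 := by linear_combination hx'.2
        rcases mul_eq_zero.1 h4 with h5 | h5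
        · rw [Finset.mem_insert]; left; linear_combination h5
        · rw [Finset.mem_insert, Finset.mem_singleton]; right; linear_combination h5
      calc (Finset.univ.filter (fun x : F => x ^ 2 + x = x0 ^ 2 + x0)).card
          ≤ ({x0, -x0 - 1} : Finset F).card := Finset.card_le_card h3
        _ ≤ 2 := Finset.card_le_two
    rw [Finset.card_univ, hF] at h1
    have h5 : 2 ^ f = 2 * 2 ^ (f - 1) := by
      rw [← pow_succ']; congr 1; omega
    omega
  have hEq : S = K := Finset.eq_of_subset_of_card_le hSK (le_trans hKcard hScard)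
  have htK : t ∈ K := by
    rw [hK, Finset.mem_filter]; exact ⟨Finset.mem_univ _, ht⟩
  rw [← hEq, hS, Finset.mem_image] at htK
  obtain ⟨x, _, hx⟩ := htK
  exact ⟨x, hx⟩

end Cfsg.Agent.Lib.Helper8.OutAS
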