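import Mathlib

set_option autoImplicit false

namespace Cfsg.Agent.Lib.Helper8.OutCYC

/-- J-CYC -/
theorem cyclic_of_index_two {G : Type*} [Group G] (A : Subgroup G) (x : G) {f : ℕ} (hf : 1 ≤ f)
    (hA : ∀ a ∈ A, ∀ b ∈ A, a = 1 ∨ b = 1 ∨ a = b)
    (hgen : ∀ y : G, ∃ k : ℕ, ∃ a ∈ A, y = a * x ^ k)
    (hx : ∀ k : ℕ, x ^ k ∈ A ↔ f ∣ k) (hxf : x ^ f ≠ 1) :
    IsCyclic G ∧ Nat.card G = 2 * f := by
  have hxfA : x ^ f ∈ A := (hx f).2 dvd_rfl
  have hA' : ∀ a ∈ A, a = 1 ∨ a = x ^ f := by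
    intro a ha
    rcases hA a ha (x ^ f) hxfA with h | h | h
    · exact Or.inl h
    · exact absurd h hxf
    · exact Or.inr h
  have hall : ∀ y : G, y ∈ Subgroup.zpowers x := by
    intro y
    obtain ⟨k, a, ha, rfl⟩ := hgen y
    rcases hA' a ha with h | h
    · rw [h, one_mul]
      exact Subgroup.npow_mem_zpowers x k
    · rw [h, ← pow_add]
      exact Subgroup.npow_mem_zpowers x (f + k)
  have hx2f : x ^ (2 * f) = 1 := by
    have h1 : x ^ (2 * f) ∈ A := (hx (2 * f)).2 (dvd_mul_left f 2)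
    have e : x ^ (2 * f) = x ^ f * x ^ f := by rw [← pow_add]; congr 1; omega
    rcases hA (x ^ f) hxfA (x ^ (2 * f)) h1 with h | h | h
    · exact absurd h hxf
    · exact h
    · exfalso
      rw [e] at h
      exact hxf (by simpa using h.symm)
  have hord : orderOf x = 2 * f := by
    apply Nat.dvd_antisymm (orderOf_dvd_of_pow_eq_one hx2f)
    have h1 : x ^ orderOf x ∈ A := by rw [pow_orderOf_eq_one]; exact A.one_mem
    obtain ⟨j, hj⟩ := (hx _).1 h1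
    have h2 : (x ^ f) ^ j = 1 := by rw [← pow_mul, ← hj, pow_orderOf_eq_one]
    have hsq : (x ^ f) ^ 2 = 1 := by rw [← pow_mul, mul_comm]; exact hx2f
    rcases Nat.even_or_odd j with ⟨i, hi⟩ | ⟨i, hi⟩
    · rw [hj, hi]
      exact ⟨i, by ring⟩
    · exfalso
      rw [hi, pow_succ, pow_mul, hsq, one_pow, one_mul] at h2
      exact hxf h2
  refine ⟨⟨⟨x, fun y => ?_⟩⟩, ?_⟩
  · obtain ⟨n, hn⟩ := Subgroup.mem_zpowers_iff.1 (hall y)
    exact ⟨n, hn⟩
  · rw [← hord]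
    exact (orderOf_eq_card_of_forall_mem_zpowers hall).symm

end Cfsg.Agent.Lib.Helper8.OutCYC
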