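import Mathlib

set_option autoImplicit false

namespace Cfsg.Agent.Lib.Helper8.OutKLEIN

/-- the homomorphism `ZMod n →+ Additive G` attached to `g` with `g ^ n = 1`. -/
noncomputable def zl {G : Type*} [Group G] (n : ℕ) (g : G) (hg : g ^ n = 1) :
    ZMod n →+ Additive G :=
  ZMod.lift n ⟨zmultiplesHom (Additive G) (Additive.ofMul g), by
    change ((n : ℤ) • Additive.ofMul g) = 0
    rw [natCast_zsmul, ← ofMul_pow, hg]; rfl⟩

theorem zl_coe {G : Type*} [Group G] (n : ℕ) (g : G) (hg : g ^ n = 1) (a : ℕ) :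
    (zl n g hg ((a : ℕ) : ZMod n)).toMul = g ^ a := by
  have h : ((a : ℕ) : ZMod n) = ((a : ℤ) : ZMod n) := by push_cast; rfl
  rw [h]
  unfold zl
  rw [ZMod.lift_coe]
  change ((a : ℤ) • Additive.ofMul g).toMul = g ^ a
  rw [natCast_zsmul, ← ofMul_pow]; rfl

theorem klein_sq (w : Multiplicative (ZMod 2 × ZMod 2)) : w * w = 1 := by
  revert w; decide

theorem klein_third (w2 : Multiplicative (ZMod 2 × ZMod 2)) :
    ∃ w : Multiplicative (ZMod 2 × ZMod 2), w ≠ 1 ∧ w ≠ w2 := by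
  revert w2; decide

theorem klein_all (w2 w v : Multiplicative (ZMod 2 × ZMod 2)) (h2 : w2 ≠ 1) (h1 : w ≠ 1)
    (h12 : w ≠ w2) : v = 1 ∨ v = w ∨ v = w2 ∨ v = w * w2 := by
  revert w2 w v; decide

/-- J-KLEIN -/
theorem klein_times_cyclic {G : Type*} [Group G] (A : Subgroup G)
    (eA : ↥A ≃* Multiplicative (ZMod 2 × ZMod 2)) (x : G) {f : ℕ} (hf : 1 ≤ f)
    (hgen : ∀ y : G, ∃ k : ℕ, ∃ a ∈ A, y = a * x ^ k)
    (hx : ∀ k : ℕ, x ^ k ∈ A ↔ f ∣ k) (hxf : x ^ f ≠ 1) (hcomm : ∀ a ∈ A, a * x = x * a) :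
    Nonempty (G ≃* Multiplicative (ZMod 2 × ZMod (2 * f))) := by
  classical
  have hzA : x ^ f ∈ A := (hx f).2 dvd_rfl
  have hsqA : ∀ a ∈ A, a * a = 1 := by
    intro a ha
    have h1 : eA (⟨a, ha⟩ * ⟨a, ha⟩) = 1 := by rw [map_mul]; exact klein_sq _
    have h2 : (⟨a, ha⟩ * ⟨a, ha⟩ : ↥A) = 1 := by
      apply eA.injective; rw [h1, map_one]
    exact congrArg Subtype.val h2
  have hz2 : x ^ f * x ^ f = 1 := hsqA _ hzA
  have hx2f : x ^ (2 * f) = 1 := by
    have e : x ^ (2 * f) = x ^ f * x ^ f := by rw [← pow_add]; congr 1; omega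
    rw [e, hz2]
  -- a third element
  have hw2 : eA ⟨x ^ f, hzA⟩ ≠ 1 := by
    intro h
    have h1 : (⟨x ^ f, hzA⟩ : ↥A) = 1 := by apply eA.injective; rw [h, map_one]
    exact hxf (congrArg Subtype.val h1)
  obtain ⟨w, hw1, hw12⟩ := klein_third (eA ⟨x ^ f, hzA⟩)
  obtain ⟨⟨s, hsA⟩, hs⟩ : ∃ s : ↥A, eA s = w := ⟨eA.symm w, eA.apply_symm_apply w⟩
  have hs1 : s ≠ 1 := by
    intro h
    apply hw1
    rw [← hs]
    have : (⟨s, hsA⟩ : ↥A) = 1 := Subtype.ext h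
    rw [this, map_one]
  have hsz : s ≠ x ^ f := by
    intro h
    apply hw12
    rw [← hs]
    congr 1
    exact Subtype.ext h
  have hs2 : s ^ 2 = 1 := by rw [pow_two]; exact hsqA s hsA
  have hAall : ∀ a ∈ A, a = 1 ∨ a = s ∨ a = x ^ f ∨ a = s * x ^ f := by
    intro a ha
    rcases klein_all (eA ⟨x ^ f, hzA⟩) w (eA ⟨a, ha⟩) hw2 hw1 hw12 with h | h | h | h
    · left
      have : (⟨a, ha⟩ : ↥A) = 1 := by apply eA.injective; rw [h, map_one]
      exact congrArg Subtype.val this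
    · right; left
      have : (⟨a, ha⟩ : ↥A) = ⟨s, hsA⟩ := by apply eA.injective; rw [h, hs]
      exact congrArg Subtype.val this
    · right; right; left
      have : (⟨a, ha⟩ : ↥A) = ⟨x ^ f, hzA⟩ := eA.injective h
      exact congrArg Subtype.val this
    · right; right; right
      have : (⟨a, ha⟩ : ↥A) = ⟨s, hsA⟩ * ⟨x ^ f, hzA⟩ := by
        apply eA.injective; rw [h, map_mul, hs]
      exact congrArg Subtype.val this
  have hcs : Commute s x := hcomm s hsA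
  have hcomm' : ∀ (m : ZMod 2) (n : ZMod (2 * f)),
      AddCommute (zl 2 s hs2 m) (zl (2 * f) x hx2f n) := by
    intro m n
    haveI : NeZero (2 * f) := ⟨by omega⟩
    obtain ⟨a, rfl⟩ := ZMod.natCast_zmod_surjective m
    obtain ⟨b, rfl⟩ := ZMod.natCast_zmod_surjective n
    have h2 : Commute (s ^ a) (x ^ b) := Commute.pow_pow hcs a b
    have e1 := zl_coe 2 s hs2 a
    have e2 := zl_coe (2 * f) x hx2f b
    change Additive.ofMul ((zl 2 s hs2 ((a : ℕ) : ZMod 2)).toMul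
        * (zl (2 * f) x hx2f ((b : ℕ) : ZMod (2 * f))).toMul)
      = Additive.ofMul ((zl (2 * f) x hx2f ((b : ℕ) : ZMod (2 * f))).toMul
        * (zl 2 s hs2 ((a : ℕ) : ZMod 2)).toMul)
    rw [e1, e2, h2.eq]
  let Φ0 : ZMod 2 × ZMod (2 * f) →+ Additive G :=
    AddMonoidHom.noncommCoprod (zl 2 s hs2) (zl (2 * f) x hx2f) hcomm'
  have hΦ0 : ∀ (a b : ℕ), (Φ0 (((a : ℕ) : ZMod 2), ((b : ℕ) : ZMod (2 * f)))).toMul
      = s ^ a * x ^ b := by
    intro a b
    change ((zl 2 s hs2 ((a : ℕ) : ZMod 2)).toMul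
      * (zl (2 * f) x hx2f ((b : ℕ) : ZMod (2 * f))).toMul) = _
    rw [zl_coe, zl_coe]
  haveI : NeZero (2 * f) := ⟨by omega⟩
  have hinj0 : Function.Injective Φ0 := by
    rw [injective_iff_map_eq_zero]
    rintro ⟨m, n⟩ hmn
    obtain ⟨a, rfl⟩ := ZMod.natCast_zmod_surjective m
    obtain ⟨b, rfl⟩ := ZMod.natCast_zmod_surjective n
    have h1 : s ^ a * x ^ b = 1 := by
      rw [← hΦ0, hmn]; rfl
    have h2 : x ^ b ∈ A := by
      have h3 : x ^ b = (s ^ a)⁻¹ := eq_inv_of_mul_eq_one_right h1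
      rw [h3]
      exact A.inv_mem (A.pow_mem hsA a)
    obtain ⟨c, rfl⟩ := (hx b).1 h2
    rw [pow_mul] at h1
    have hsa : s ^ a = s ^ (a % 2) := by
      conv_lhs => rw [← Nat.mod_add_div a 2]
      rw [pow_add, pow_mul, hs2, one_pow, mul_one]
    have hzc : (x ^ f) ^ c = (x ^ f) ^ (c % 2) := by
      conv_lhs => rw [← Nat.mod_add_div c 2]
      rw [pow_add, pow_mul, pow_two, hz2, one_pow, mul_one]
    rw [hsa, hzc] at h1
    have ha2 : a % 2 = 0 ∨ a % 2 = 1 := by omega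
    have hc2 : c % 2 = 0 ∨ c % 2 = 1 := by omega
    have key : a % 2 = 0 ∧ c % 2 = 0 := by
      rcases ha2 with ha | ha <;> rcases hc2 with hc | hc
      · exact ⟨ha, hc⟩
      · exfalso; rw [ha, hc] at h1; simp at h1; exact hxf h1
      · exfalso; rw [ha, hc] at h1; simp at h1; exact hs1 h1
      · exfalso; rw [ha, hc] at h1; simp at h1
        apply hsz
        have hzi : (x ^ f)⁻¹ = x ^ f := by
          rw [inv_eq_iff_mul_eq_one]; exact hz2
        rw [← hzi]; exact eq_inv_of_mul_eq_one_left h1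
    rw [Prod.mk_eq_zero]
    refine ⟨?_, ?_⟩
    · rw [ZMod.natCast_eq_zero_iff]
      exact Nat.dvd_of_mod_eq_zero key.1
    · rw [ZMod.natCast_eq_zero_iff]
      obtain ⟨d, hd⟩ := Nat.dvd_of_mod_eq_zero key.2
      exact ⟨d, by rw [hd]; ring⟩
  have hsurj0 : Function.Surjective Φ0 := by
    intro y
    obtain ⟨k, a, ha, hy⟩ := hgen y.toMul
    have key : ∃ i j : ℕ, a = s ^ i * x ^ j := by
      rcases hAall a ha with h | h | h | h
      · exact ⟨0, 0, by simp [h]⟩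
      · exact ⟨1, 0, by simp [h]⟩
      · exact ⟨0, f, by simp [h]⟩
      · exact ⟨1, f, by simp [h]⟩
    obtain ⟨i, j, hij⟩ := key
    refine ⟨(((i : ℕ) : ZMod 2), ((j + k : ℕ) : ZMod (2 * f))), ?_⟩
    have h1 := hΦ0 i (j + k)
    have h2 : y.toMul = s ^ i * x ^ (j + k) := by
      rw [hy, hij, pow_add, mul_assoc]
    apply Additive.toMul.injective
    rw [h1, h2]
  let e : ZMod 2 × ZMod (2 * f) ≃+ Additive G := AddEquiv.ofBijective Φ0 ⟨hinj0, hsurj0⟩
  exact ⟨(AddEquiv.toMultiplicativeLeft e).symm⟩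

end Cfsg.Agent.Lib.Helper8.OutKLEIN
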