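import Mathlib
import Cfsg.Agent.Lib.Helper44.PU3Defs

/-!
# PU3 piece CH (helper8 for helper44): Cayley–Hamilton for `SU_3(q)`:
`Y^3 = tr(Y) Y^2 - tr(Y)^q Y + 1`.
-/

set_option autoImplicit false

namespace Cfsg.Agent.Lib.Helper44.PU3

open Matrix Cfsg.Agent.Lib.Helper7 Cfsg.Agent.Lib.Helper18

/-- Cayley–Hamilton for a `3 × 3` matrix over a commutative ring, with the linear coefficient
written as the trace of the adjugate -/
theorem pu3ch_gen {R : Type*} [CommRing R] (Y : Matrix (Fin 3) (Fin 3) R) :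
    Y * Y * Y = Y.trace • (Y * Y) - (Matrix.adjugate Y).trace • Y +
      Y.det • (1 : Matrix (Fin 3) (Fin 3) R) := by
  ext i j
  fin_cases i <;> fin_cases j <;>
    simp [Matrix.mul_apply, Fin.sum_univ_three, Matrix.det_fin_three, Matrix.adjugate_fin_three,
      Matrix.trace_fin_three] <;> ring

theorem pu3_ch {F : Type*} [Field F] [Fintype F] (q : ℕ) : CHStmt F q := by
  intro hF Y hY
  obtain ⟨hdet, hpres⟩ := hY
  have h1 : Yᵀ * Y.map (· ^ q) = 1 := by
    ext i j
    have h := hpres (Pi.single i 1) (Pi.single j 1)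
    rw [hf_single_right hF] at h
    unfold Cfsg.hermForm at h
    rw [Matrix.mul_apply]
    simp only [Matrix.transpose_apply, Matrix.map_apply]
    have h6 : ∀ (c k : Fin 3), (Y *ᵥ Pi.single c 1) k = Y k c := by
      intro c k
      rw [Matrix.mulVec_single_one]
      rfl
    simp only [h6] at h
    rw [h, Matrix.one_apply, Pi.single_apply]
    by_cases hij : i = j
    · rw [if_pos hij, if_pos hij.symm]
    · rw [if_neg hij, if_neg (fun h' => hij h'.symm)]
  have h2 : Y.map (· ^ q) * Yᵀ = 1 := mul_eq_one_comm.mp h1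
  have h3 : Yᵀ * Matrix.adjugate Yᵀ = 1 := by
    rw [Matrix.mul_adjugate, Matrix.det_transpose, hdet, one_smul]
  have h4 : Y.map (· ^ q) = Matrix.adjugate Yᵀ := by
    calc Y.map (· ^ q) = Y.map (· ^ q) * (Yᵀ * Matrix.adjugate Yᵀ) := by
          rw [h3, Matrix.mul_one]
      _ = (Y.map (· ^ q) * Yᵀ) * Matrix.adjugate Yᵀ := by rw [Matrix.mul_assoc]
      _ = Matrix.adjugate Yᵀ := by rw [h2, Matrix.one_mul]
  have h5 : (Matrix.adjugate Y).trace = Y.trace ^ q := by
    rw [← Matrix.trace_transpose, Matrix.adjugate_transpose, ← h4, Matrix.trace_fin_three,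
      Matrix.trace_fin_three]
    simp only [Matrix.map_apply]
    rw [herm_add_pow hF, herm_add_pow hF]
  rw [pu3ch_gen Y, h5, hdet, one_smul]

end Cfsg.Agent.Lib.Helper44.PU3
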