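import Mathlib
import Cfsg.Agent.Lib.Helper11.S983Tools

set_option autoImplicit false

/-! S0983 (helper11), piece N5460: there is no simple group of order 5460. -/

namespace Cfsg.Agent.S983

open Subgroup

set_option maxRecDepth 100000 in
theorem n5460_c13 : cands 5460 13 = [(105, 2, 2), (105, 1, 4)] := by decide +kernel

set_option maxRecDepth 100000 in
theorem n5460_c7 : cands 5460 7 = [(78, 5, 2), (260, 1, 3)] := by decide +kernel

set_option maxRecDepth 100000 in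
theorem n5460_c3 :
    cands 5460 3 = [(70, 13, 2), (91, 10, 2), (130, 7, 2), (910, 1, 2)] := by decide +kernel

theorem ns5460 {G : Type*} [Group G] [Finite G] [IsSimpleGroup G] (h : Nat.card G = 5460) : False := by
  have hG : ¬ IsMulCommutative G :=
    Cfsg.Agent.Lib.Helper23.not_comm_of_simple_of_not_prime (by rw [h]; norm_num)
  haveI : Fact (Nat.Prime 13) := ⟨by norm_num⟩
  haveI : Fact (Nat.Prime 7) := ⟨by norm_num⟩
  haveI : Fact (Nat.Prime 3) := ⟨by norm_num⟩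
  have hexp : ∀ g : G, g ^ 4 = 1 → g ^ 2 = 1 := fun g hg =>
    klein_exp hG (by rw [h]; norm_num) (by rw [h]; norm_num) g hg
  -- p = 13
  obtain ⟨d13, c13, r13, hn13, hP13, hC13, hN13, hmem13⟩ :=
    mem_cands hG (p := 13) h (by norm_num) (by norm_num)
  rw [n5460_c13] at hmem13
  simp only [List.mem_cons, Prod.mk.injEq, List.mem_nil_iff, or_false] at hmem13
  obtain ⟨P13⟩ : Nonempty (Sylow 13 G) := inferInstance
  have h13 : d13 = 105 ∧ c13 = 2 := by
    rcases hmem13 with ⟨rfl, rfl, rfl⟩ | ⟨rfl, rfl, rfl⟩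
    · exact ⟨rfl, rfl⟩
    · exfalso
      have h2 := klein_two_dvd_centralizer 13 (by norm_num) hP13 P13 hexp
        (by rw [hN13 P13]; norm_num)
      rw [hC13 P13] at h2
      norm_num at h2
  obtain ⟨rfl, rfl⟩ := h13
  -- p = 7
  obtain ⟨d7, c7, r7, hn7, hP7, hC7, hN7, hmem7⟩ :=
    mem_cands hG (p := 7) h (by norm_num) (by norm_num)
  rw [n5460_c7] at hmem7
  simp only [List.mem_cons, Prod.mk.injEq, List.mem_nil_iff, or_false] at hmem7
  obtain ⟨P7⟩ : Nonempty (Sylow 7 G) := inferInstance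
  -- p = 3
  obtain ⟨d3, c3, r3, hn3, hP3, hC3, hN3, hmem3⟩ :=
    mem_cands hG (p := 3) h (by norm_num) (by norm_num)
  rw [n5460_c3] at hmem3
  simp only [List.mem_cons, Prod.mk.injEq, List.mem_nil_iff, or_false] at hmem3
  obtain ⟨P3⟩ : Nonempty (Sylow 3 G) := inferInstance
  have hA13 := Cfsg.Agent.S4274T.card_dvd_orderOf 13 hP13 P13 2 (hC13 P13)
  have hA7 := Cfsg.Agent.S4274T.card_dvd_orderOf 7 hP7 P7 c7 (hC7 P7)
  have hA3 := Cfsg.Agent.S4274T.card_dvd_orderOf 3 hP3 P3 c3 (hC3 P3)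
  rw [hn13] at hA13
  rw [hn7] at hA7
  rw [hn3] at hA3
  have hd1 : ∀ g : G, ¬ (3 ∣ orderOf g ∧ 7 ∣ orderOf g) := by
    rintro g ⟨h3, h7⟩
    have h1 := Cfsg.Agent.S4274T.orderOf_dvd_card_centralizer 7 hP7 P7 g h7
    rw [hC7 P7] at h1
    have h3' := h3.trans h1
    rcases hmem7 with ⟨-, rfl, -⟩ | ⟨-, rfl, -⟩ <;> norm_num at h3'
  have hd2 : ∀ g : G, ¬ (3 ∣ orderOf g ∧ 13 ∣ orderOf g) := by
    rintro g ⟨h3, h13⟩
    have h1 := Cfsg.Agent.S4274T.orderOf_dvd_card_centralizer 13 hP13 P13 g h13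
    rw [hC13 P13] at h1
    have h3' := h3.trans h1
    norm_num at h3'
  have hd3 : ∀ g : G, ¬ (7 ∣ orderOf g ∧ 13 ∣ orderOf g) := by
    rintro g ⟨h7, h13⟩
    have h1 := Cfsg.Agent.S4274T.orderOf_dvd_card_centralizer 13 hP13 P13 g h13
    rw [hC13 P13] at h1
    have h7' := h7.trans h1
    norm_num at h7'
  have hlt := Cfsg.Agent.S4274T.three_card_dvd_orderOf_lt (G := G) 3 7 13 (by norm_num)
    (by norm_num) (by norm_num) hd1 hd2 hd3
  rw [hA3, hA7, hA13, h] at hlt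
  rcases hmem7 with ⟨rfl, rfl, -⟩ | ⟨rfl, rfl, -⟩ <;>
    rcases hmem3 with ⟨rfl, rfl, -⟩ | ⟨rfl, rfl, -⟩ | ⟨rfl, rfl, -⟩ | ⟨rfl, rfl, -⟩ <;>
    norm_num at hlt

end Cfsg.Agent.S983
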