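import Mathlib
import Cfsg.Agent.Lib.Helper72.SCDefs
import Cfsg.Agent.Lib.Helper41.Cores

set_option autoImplicit false

/-! S4394 project SC (helper72), piece ENDB: the card bookkeeping of the endgame,
`|Q : Z| = p ^ 2` and `|Q : O_p(G)| = p`. -/

namespace Cfsg.Agent.Lib.Helper8.SC

open Cfsg.Agent.Lib.Helper72.SC

universe u

theorem endb (h1 : KerStmt.{u}) (h2 : BasStmt.{u}) : EndbStmt.{u} := by
  intro G _ _ p _ Q hG hO hSE hQR W U x hFFC hZ hU
  obtain ⟨hxA, hWcard, -, hWUtop, -, -, ⟨w0, -, hxw0⟩, hpow⟩ := hFFC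
  obtain ⟨hZR, hfrZ, -⟩ := h2 G p Q hG hO hSE hQR
  have hker := h1 G p hG hO
  have hRQ : Cfsg.pCore p G ≤ (Q : Subgroup G) := Cfsg.Agent.Lib.Helper41.pCore_le_sylow Q
  have hp := (Fact.out : p.Prime)
  have hWtop : W = ⊤ := by
    rw [hU, sup_bot_eq] at hWUtop
    exact hWUtop
  have hVV : Nat.card (VV p G) = p ^ 2 := by
    rw [← hWcard, hWtop]
    exact (Subgroup.card_top).symm
  have hfrR : (fr p G).relIndex (Cfsg.pCore p G) = p ^ 2 := by
    rw [← hVV]
    unfold fr
    rw [Subgroup.relIndex, ← Subgroup.comap_subtype,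
      Subgroup.comap_map_eq_self_of_injective (Subgroup.subtype_injective _),
      Subgroup.index_eq_card]
  have hZRidx : (zc (Q : Subgroup G)).relIndex (Cfsg.pCore p G) = p := by
    have hmul := Subgroup.relIndex_mul_relIndex (fr p G) (zc (Q : Subgroup G))
      (Cfsg.pCore p G) hfrZ hZR
    rw [hZ, hfrR] at hmul
    exact Nat.eq_of_mul_eq_mul_left hp.pos (by rw [hmul]; ring)
  obtain ⟨g0, hg0Q, rfl⟩ := hxA
  have hx1 : rho p G g0 ≠ 1 := by
    intro h
    apply hxw0
    rw [h]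
    rfl
  have hxp : (rho p G g0) ^ p = 1 := by
    rw [← map_pow]
    have hmem : g0 ^ p ∈ (rho p G).ker := by
      rw [hker]
      exact hZR (hSE.2.2.2.1 g0 hg0Q)
    exact hmem
  have hord : orderOf (rho p G g0) = p := orderOf_eq_prime hxp hx1
  have hAQ : AQ p (Q : Subgroup G) = Subgroup.zpowers (rho p G g0) := by
    apply le_antisymm
    · intro a ha
      obtain ⟨i, hi⟩ := hpow a ha
      have hai : a = (rho p G g0) ^ i := by
        ext v
        exact hi v (by rw [hWtop]; trivial)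
      rw [hai]
      exact Subgroup.pow_mem _ (Subgroup.mem_zpowers _) i
    · rw [Subgroup.zpowers_le]
      exact ⟨g0, hg0Q, rfl⟩
  have hAQcard : Nat.card ↥(AQ p (Q : Subgroup G)) = p := by
    rw [hAQ, Nat.card_zpowers, hord]
  have hQRidx : (Cfsg.pCore p G).relIndex (Q : Subgroup G) = p := by
    rw [← hker, Subgroup.relIndex_ker]
    exact hAQcard
  refine ⟨?_, hQRidx⟩
  rw [← Subgroup.relIndex_mul_relIndex (zc (Q : Subgroup G)) (Cfsg.pCore p G)
    (Q : Subgroup G) hZR hRQ, hZRidx, hQRidx]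
  ring

end Cfsg.Agent.Lib.Helper8.SC
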