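import Mathlib

set_option autoImplicit false

namespace Cfsg.Agent.Lib.Helper8.Sz

/-- index at most two: squares lie in the subgroup -/
theorem mul_self_mem_of_card_le {G : Type*} [Group G] [Finite G] (X M : Subgroup G)
    (h : Nat.card X ≤ 2 * Nat.card (X ⊓ M : Subgroup G)) {x : G} (hx : x ∈ X) : x * x ∈ M := by
  have hle : X ⊓ M ≤ X := inf_le_left
  have e := Subgroup.subgroupOfEquivOfLe hle
  have hcard : Nat.card ((X ⊓ M).subgroupOf X) = Nat.card (X ⊓ M : Subgroup G) :=
    Nat.card_congr e.toEquiv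
  have hidx := Subgroup.index_mul_card ((X ⊓ M).subgroupOf X)
  rw [hcard] at hidx
  have hpos : 0 < Nat.card (X ⊓ M : Subgroup G) := Nat.card_pos
  have hi2 : ((X ⊓ M).subgroupOf X).index ≤ 2 := by
    by_contra hcon
    push Not at hcon
    nlinarith
  have hi0 : ((X ⊓ M).subgroupOf X).index ≠ 0 := by
    intro h0
    rw [h0, zero_mul] at hidx
    have : 0 < Nat.card X := Nat.card_pos
    omega
  have hcases : ((X ⊓ M).subgroupOf X).index = 1 ∨ ((X ⊓ M).subgroupOf X).index = 2 := by omega
  rcases hcases with h1 | h2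
  · have htop := Subgroup.index_eq_one.1 h1
    have hmem : (⟨x, hx⟩ : X) ∈ (X ⊓ M).subgroupOf X := by
      rw [htop]
      exact Subgroup.mem_top _
    have h3 : x ∈ X ⊓ M := hmem
    exact M.mul_mem h3.2 h3.2
  · have hmem := Subgroup.mul_self_mem_of_index_two h2 (⟨x, hx⟩ : X)
    have h3 : x * x ∈ X ⊓ M := hmem
    exact h3.2

/-- index at most two and odd order: containment -/
theorem le_of_card_le_of_odd {G : Type*} [Group G] [Finite G] (X M : Subgroup G)
    (h : Nat.card X ≤ 2 * Nat.card (X ⊓ M : Subgroup G)) (hodd : ¬ 2 ∣ Nat.card X) : X ≤ M := by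
  have hle : X ⊓ M ≤ X := inf_le_left
  obtain ⟨j, hj⟩ := Subgroup.card_dvd_of_le hle
  have hpos : 0 < Nat.card (X ⊓ M : Subgroup G) := Nat.card_pos
  have hXpos : 0 < Nat.card X := Nat.card_pos
  have hj2 : j ≤ 2 := by
    by_contra hcon
    push Not at hcon
    nlinarith
  have hj0 : j ≠ 0 := by
    rintro rfl
    omega
  have hj2' : j ≠ 2 := by
    rintro rfl
    exact hodd ⟨_, by rw [hj]; ring⟩
  have hj1 : j = 1 := by omega
  rw [hj1, mul_one] at hj
  have heq : X ⊓ M = X := Subgroup.eq_of_le_of_card_ge hle (by rw [hj])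
  rw [← heq]
  exact inf_le_right

theorem eq_or_eq_of_ncard_le_two {α : Type*} {s : Set α} (hs : s.Finite) (h : s.ncard ≤ 2)
    {a b c : α} (ha : a ∈ s) (hb : b ∈ s) (hab : a ≠ b) (hc : c ∈ s) : c = a ∨ c = b := by
  by_contra hcon
  push Not at hcon
  have hsub : ({c, a, b} : Set α) ⊆ s := by
    intro x hx
    rcases hx with rfl | rfl | rfl
    · exact hc
    · exact ha
    · exact hb
  have h3 : ({c, a, b} : Set α).ncard = 3 := by
    rw [Set.ncard_insert_of_notMem, Set.ncard_insert_of_notMem, Set.ncard_singleton]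
    · simpa using hab
    · simp only [Set.mem_insert_iff, Set.mem_singleton_iff, not_or]
      exact hcon
  have := Set.ncard_le_ncard hsub hs
  omega

/-- the coset lemma for actions in which non-identity elements fix at most two points -/
theorem card_le_two_mul_card_inf {S : Type*} [Group S] [Finite S] {Ω : Type*} [Finite Ω]
    [MulAction S Ω] (hfix : ∀ g : S, g ≠ 1 → (MulAction.fixedBy Ω g).ncard ≤ 2)
    (α : Ω) (X : Subgroup S) (g : S) (hg : g ≠ 1)
    (hX : ∀ x ∈ X, x⁻¹ * g * x ∈ MulAction.stabilizer S α) :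
    Nat.card X ≤ 2 * Nat.card (X ⊓ MulAction.stabilizer S α : Subgroup S) := by
  classical
  have hfin := Fintype.ofFinite S
  set s : Finset S := Finset.univ.filter (fun x => x ∈ X) with hs
  set t : Finset S := Finset.univ.filter (fun x => x ∈ X ⊓ MulAction.stabilizer S α) with ht
  have hscard : Nat.card X = s.card := by
    rw [Nat.card_eq_fintype_card]
    exact Fintype.card_of_subtype s (by simp [hs])
  have htcard : Nat.card (X ⊓ MulAction.stabilizer S α : Subgroup S) = t.card := by
    rw [Nat.card_eq_fintype_card]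
    exact Fintype.card_of_subtype t (by simp [ht])
  have hfib : ∀ b ∈ s.image (fun x : S => x • α),
      (s.filter (fun x => x • α = b)).card ≤ t.card := by
    intro b hb
    obtain ⟨x₀, hx₀, rfl⟩ := Finset.mem_image.1 hb
    have hx₀X : x₀ ∈ X := (Finset.mem_filter.1 hx₀).2
    apply Finset.card_le_card_of_injOn (fun x => x₀⁻¹ * x)
    · intro x hx
      obtain ⟨hx1, hx2⟩ := Finset.mem_filter.1 (Finset.mem_coe.1 hx)
      have hxX : x ∈ X := (Finset.mem_filter.1 hx1).2
      rw [Finset.mem_coe, ht, Finset.mem_filter]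
      refine ⟨Finset.mem_univ _, X.mul_mem (X.inv_mem hx₀X) hxX, ?_⟩
      show (x₀⁻¹ * x) • α = α
      rw [mul_smul, hx2, inv_smul_smul]
    · intro x _ x' _ h
      exact mul_left_cancel h
  have h1 := Finset.card_le_mul_card_image s t.card hfib
  have h2 : (s.image (fun x : S => x • α)).card ≤ 2 := by
    have hsub : ((s.image (fun x : S => x • α) : Finset Ω) : Set Ω) ⊆ MulAction.fixedBy Ω g := by
      intro ω hω
      obtain ⟨x, hx, rfl⟩ := Finset.mem_image.1 (Finset.mem_coe.1 hω)
      have hxX : x ∈ X := (Finset.mem_filter.1 hx).2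
      have h3 := hX x hxX
      rw [MulAction.mem_stabilizer_iff] at h3
      rw [MulAction.mem_fixedBy]
      have h4 : g • x • α = x • (x⁻¹ * g * x) • α := by
        rw [← mul_smul, ← mul_smul]
        congr 1
        group
      rw [h4, h3]
    have h3 := Set.ncard_le_ncard hsub (Set.toFinite _)
    rw [Set.ncard_coe_finset] at h3
    exact h3.trans (hfix g hg)
  rw [hscard, htcard]
  calc s.card ≤ t.card * (s.image (fun x : S => x • α)).card := h1
    _ ≤ t.card * 2 := Nat.mul_le_mul_left _ h2
    _ = 2 * t.card := mul_comm _ _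

theorem mem_stabilizer_inv_smul {G Ω : Type*} [Group G] [MulAction G Ω] (c x : G) (α : Ω) :
    x ∈ MulAction.stabilizer G (c⁻¹ • α) ↔ c * x * c⁻¹ ∈ MulAction.stabilizer G α := by
  rw [MulAction.mem_stabilizer_iff, MulAction.mem_stabilizer_iff, mul_smul, mul_smul]
  constructor
  · intro h
    rw [h, smul_inv_smul]
  · intro h
    have h2 := congrArg (fun ω => c⁻¹ • ω) h
    simpa only [inv_smul_smul] using h2

theorem conj_mul_self {G : Type*} [Group G] (c z : G) :
    (c * z * c⁻¹) * (c * z * c⁻¹) = c * (z * z) * c⁻¹ := by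
  group

theorem eq_one_of_conj_eq_one {G : Type*} [Group G] {c z : G} (h : c * z * c⁻¹ = 1) : z = 1 := by
  have h2 : z = c⁻¹ * (c * z * c⁻¹) * c := by group
  rw [h2, h]
  group

end Cfsg.Agent.Lib.Helper8.Sz
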