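import Cfsg.Agent.Lib.Helper8.Sz21
import Cfsg.Agent.Lib.Helper8.Sz22

set_option autoImplicit false

namespace Cfsg.Agent.Lib.Helper8.Sz

open Cfsg Matrix
open scoped Pointwise

variable {F : Type*} [Field F] [Fintype F] {m : ℕ}
variable (hF : Fintype.card F = 2 ^ (2 * m + 1))

include hF

theorem TS_mem_Bsub (a b : F) : TS hF a b ∈ Bsub F m := Tg_smul_Pinf a b

theorem HS_mem_Bsub (s : Fˣ) : HS hF s ∈ Bsub F m := Hg_smul_Pinf s

theorem TS_center_comm (b a' b' : F) :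
    TS hF 0 b * TS hF a' b' = TS hF a' b' * TS hF 0 b := by
  rw [TS_mul, TS_mul, th_zero]
  congr 1 <;> ring

theorem center_conj (hm : 1 ≤ m) {n : Sz F m} (hn : n ∈ Bsub F m) (b : F) :
    ∃ b' : F, n⁻¹ * TS hF 0 b * n = TS hF 0 b' := by
  obtain ⟨a₁, b₁, s, rfl⟩ := fix_inf_decomp' hF hm n hn
  refine ⟨th m ((s⁻¹ : Fˣ) : F) * ((s⁻¹ : Fˣ) : F) ^ 2 * b, ?_⟩
  have h1 : TS hF 0 b * TS hF a₁ b₁ = TS hF a₁ b₁ * TS hF 0 b := TS_center_comm hF b a₁ b₁
  have h2 := HS_mul_TS hF s⁻¹ 0 b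
  rw [mul_zero] at h2
  calc (TS hF a₁ b₁ * HS hF s)⁻¹ * TS hF 0 b * (TS hF a₁ b₁ * HS hF s)
      = (HS hF s)⁻¹ * ((TS hF a₁ b₁)⁻¹ * (TS hF 0 b * TS hF a₁ b₁)) * HS hF s := by group
    _ = (HS hF s)⁻¹ * TS hF 0 b * HS hF s := by rw [h1, inv_mul_cancel_left]
    _ = _ := by rw [HS_inv, h2, mul_assoc, ← HS_mul, inv_mul_cancel, HS_one, mul_one]

theorem wS_ne_one : wS hF ≠ 1 := by
  intro h
  have h1 : wg F = 1 := congrArg Subtype.val h
  have h2 := wg_smul_Pinf (F := F) (m := m)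
  rw [h1, one_smul] at h2
  exact Paff_ne_Pinf (m := m) 0 0 h2.symm

theorem bruhat_decomp (x : Sz F m) (hx : x ∉ Bsub F m) :
    ∃ (a b : F) (n : Sz F m), n ∈ Bsub F m ∧ x = TS hF a b * wS hF * n := by
  have h1 : x.1 • Pinf F ∈ suzukiOvoid F m := smul_mem_of_mem_Sz x.2 Pinf_mem
  rcases (mem_ovoid_iff _).1 h1 with h | ⟨a, b, h⟩
  · exact absurd h hx
  · have h2 : ((wS hF)⁻¹ * (TS hF a b)⁻¹ * x).1 • Pinf F = Pinf F := by
      show ((wg F)⁻¹ * (Tg m a b)⁻¹ * x.1) • Pinf F = Pinf F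
      rw [mul_smul, mul_smul, h, wg_inv]
      have : (Tg m a b)⁻¹ • Paff m a b = Paff m 0 0 := by
        rw [inv_smul_eq_iff, Tg_smul_zero hF]
      rw [this, wg_smul_zero]
    exact ⟨a, b, _, h2, by group⟩

theorem borel_max (hm : 1 ≤ m) (M : Subgroup (Sz F m)) (hB : Bsub F m ≤ M) (hM : M ≠ ⊤) :
    M = Bsub F m := by
  refine le_antisymm ?_ hB
  intro x hx
  by_contra hcon
  apply hM
  apply eq_top_of_mem hF hm M (fun a b => hB (TS_mem_Bsub hF a b)) (fun s => hB (HS_mem_Bsub hF s))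
  obtain ⟨a, b, n, hn, rfl⟩ := bruhat_decomp hF x hcon
  have h4 : wS hF = (TS hF a b)⁻¹ * (TS hF a b * wS hF * n) * n⁻¹ := by group
  rw [h4]
  exact M.mul_mem (M.mul_mem (M.inv_mem (hB (TS_mem_Bsub hF a b))) hx) (M.inv_mem (hB hn))

theorem even_core (hm : 1 ≤ m) {Ω : Type*} [Finite Ω] [MulAction (Sz F m) Ω]
    (hfix : ∀ g : Sz F m, g ≠ 1 → (MulAction.fixedBy Ω g).ncard ≤ 2) (α : Ω) {b : F} (hb : b ≠ 0)
    (hz : TS hF 0 b ∈ MulAction.stabilizer (Sz F m) α) :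
    Bsub F m ≤ MulAction.stabilizer (Sz F m) α := by
  have hz1 : TS hF 0 b ≠ 1 := TS_ne_one' hF (by rintro ⟨-, h⟩; exact hb h)
  have h1 : ∀ d : F, TS hF 0 d ∈ MulAction.stabilizer (Sz F m) α := by
    intro d
    obtain ⟨c, hc⟩ := exists_th_mul hF d
    have hcos := card_le_two_mul_card_inf hfix α (QS hF) (TS hF 0 b) hz1 (by
      rintro x ⟨a', b', rfl⟩
      have : (TS hF a' b')⁻¹ * TS hF 0 b * TS hF a' b' = TS hF 0 b := by
        rw [mul_assoc, TS_center_comm hF b a' b', inv_mul_cancel_left]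
      rw [this]
      exact hz)
    have h := mul_self_mem_of_card_le (QS hF) _ hcos (x := TS hF c 0) ⟨c, 0, rfl⟩
    rwa [TS_sq, hc] at h
  have h2 : ∀ n ∈ Bsub F m, n * n ∈ MulAction.stabilizer (Sz F m) α := by
    have hcos := card_le_two_mul_card_inf hfix α (Bsub F m) (TS hF 0 b) hz1 (by
      intro x hx
      obtain ⟨b', hb'⟩ := center_conj hF hm hx b
      rw [hb']
      exact h1 b')
    intro n hn
    exact mul_self_mem_of_card_le (Bsub F m) _ hcos hn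
  have h3 : ∀ s : Fˣ, HS hF s ∈ MulAction.stabilizer (Sz F m) α := by
    intro s
    obtain ⟨r, hr⟩ := exists_sq hF (s : F)
    have hr0 : r ≠ 0 := by
      rintro rfl
      rw [zero_pow two_ne_zero] at hr
      exact s.ne_zero hr.symm
    have h : HS hF s = HS hF (Units.mk0 r hr0) * HS hF (Units.mk0 r hr0) := by
      rw [← HS_mul]
      congr 1
      ext
      rw [Units.val_mul, Units.val_mk0, ← hr, sq]
    rw [h]
    exact h2 _ (HS_mem_Bsub hF _)
  have h4 : ∀ a b' : F, TS hF a b' ∈ MulAction.stabilizer (Sz F m) α := by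
    intro a b'
    obtain ⟨s, hs⟩ := exists_ne_one hF hm
    have hne : th m (s : F) + 1 ≠ 0 := th_add_one_ne_zero hF hs
    have hth : th m (s : F) ≠ 0 := th_ne_zero s.ne_zero
    obtain ⟨a', ha'⟩ : ∃ a' : F, th m (s : F) * a' + th m (s : F) * (th m (s : F) * a') = a := by
      refine ⟨a / (th m (s : F) * (th m (s : F) + 1)), ?_⟩
      field_simp
      ring
    have hsq := h2 (HS hF s * TS hF a' 0)
      ((Bsub F m).mul_mem (HS_mem_Bsub hF s) (TS_mem_Bsub hF a' 0))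
    obtain ⟨B0, hB0⟩ : ∃ B0 : F, HS hF s * TS hF a' 0 * (HS hF s * TS hF a' 0) =
        TS hF a B0 * HS hF (s * s) := by
      refine ⟨th m (s : F) * (s : F) ^ 2 * 0 + th m (s : F) * (s : F) ^ 2 *
        (th m (s : F) * (s : F) ^ 2 * 0) +
        th m (th m (s : F) * a') * (th m (s : F) * (th m (s : F) * a')), ?_⟩
      rw [HS_mul_TS, TH_mul, ha']
    rw [hB0] at hsq
    have h5 : TS hF a B0 ∈ MulAction.stabilizer (Sz F m) α := by
      have h6 : TS hF a B0 = TS hF a B0 * HS hF (s * s) * (HS hF (s * s))⁻¹ := by group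
      rw [h6]
      exact Subgroup.mul_mem _ hsq (Subgroup.inv_mem _ (h3 _))
    have h7 : TS hF a b' = TS hF a B0 * TS hF 0 (b' + B0) := by
      rw [TS_mul]
      have hc := add_self hF B0
      congr 1
      · ring
      · linear_combination -hc
    rw [h7]
    exact Subgroup.mul_mem _ h5 (h1 _)
  intro g hg
  exact mem_of_fix_inf hF hm _ h4 h3 g hg

end Cfsg.Agent.Lib.Helper8.Sz
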