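import Cfsg.Agent.Lib.Helper8.Sz23

set_option autoImplicit false

namespace Cfsg.Agent.Lib.Helper8.Sz

open Cfsg Matrix
open scoped Pointwise

variable {F : Type*} [Field F] [Fintype F] {m : ℕ}
variable (hF : Fintype.card F = 2 ^ (2 * m + 1))

include hF

theorem even_conclusion (hm : 1 ≤ m) {Ω : Type*} [Finite Ω] [MulAction (Sz F m) Ω]
    (htr : MulAction.IsPretransitive (Sz F m) Ω) (α : Ω)
    (hM : MulAction.stabilizer (Sz F m) α = Bsub F m) :
    Nat.card Ω = (2 ^ (2 * m + 1)) ^ 2 + 1 ∧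
      ∀ a b c d : Ω, a ≠ b → c ≠ d → ∃ g : Sz F m, g • a = c ∧ g • b = d := by
  constructor
  · have h1 := Subgroup.card_mul_index (MulAction.stabilizer (Sz F m) α)
    rw [MulAction.index_stabilizer_of_transitive, hM, card_stab_inf hm hF, card_Sz hm hF] at h1
    have hq := q_ge (m := m) hm
    have hpos : 0 < (2 ^ (2 * m + 1)) ^ 2 * (2 ^ (2 * m + 1) - 1) := by
      apply Nat.mul_pos
      · positivity
      · omega
    apply Nat.eq_of_mul_eq_mul_left hpos
    rw [h1]
    ring
  · have key : ∀ β : Ω, β ≠ α → ∃ μ : Sz F m, μ • α = α ∧ μ • (wS hF • α) = β := by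
      intro β hβ
      obtain ⟨x, rfl⟩ := MulAction.exists_smul_eq (Sz F m) α β
      have hx : x ∉ Bsub F m := by
        rw [← hM]
        exact hβ
      obtain ⟨a, b, n, hn, rfl⟩ := bruhat_decomp hF x hx
      refine ⟨TS hF a b, ?_, ?_⟩
      · have h : TS hF a b ∈ MulAction.stabilizer (Sz F m) α := by
          rw [hM]
          exact TS_mem_Bsub hF a b
        exact h
      · have hnα : n • α = α := by
          have h : n ∈ MulAction.stabilizer (Sz F m) α := by
            rw [hM]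
            exact hn
          exact h
        rw [mul_smul, mul_smul, hnα]
    intro a b c d hab hcd
    obtain ⟨g₁, hg₁⟩ := MulAction.exists_smul_eq (Sz F m) a α
    obtain ⟨g₂, hg₂⟩ := MulAction.exists_smul_eq (Sz F m) c α
    have hb : g₁ • b ≠ α := by
      rw [← hg₁]
      intro h
      exact hab (smul_left_cancel g₁ h).symm
    have hd : g₂ • d ≠ α := by
      rw [← hg₂]
      intro h
      exact hcd (smul_left_cancel g₂ h).symm
    obtain ⟨μ₁, hμ₁, hμ₁'⟩ := key _ hb
    obtain ⟨μ₂, hμ₂, hμ₂'⟩ := key _ hd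
    refine ⟨g₂⁻¹ * μ₂ * μ₁⁻¹ * g₁, ?_, ?_⟩
    · rw [mul_smul, mul_smul, mul_smul, hg₁, inv_smul_eq_iff.2 hμ₁.symm, hμ₂, inv_smul_eq_iff, hg₂]
    · rw [mul_smul, mul_smul, mul_smul, ← hμ₁', inv_smul_smul, hμ₂', inv_smul_smul]

theorem TX_normalizer_card_eq (hm : 1 ≤ m) {g : Sz F m} (hg : g ∈ TX F m) :
    Nat.card (Subgroup.normalizer (Subgroup.centralizer ({g} : Set (Sz F m)) : Set (Sz F m))) =
      4 * Nat.card (Subgroup.centralizer ({g} : Set (Sz F m))) := by
  obtain ⟨g₁, g₂, hg₁, hg₂, -, -, hn₁, hn₂, hTX⟩ := exists_tori hF hm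
  have key : ∀ g' : Sz F m, g' ∈ TX F m →
      Nat.card (Subgroup.normalizer (Subgroup.centralizer ({g'} : Set (Sz F m)) : Set (Sz F m))) =
        4 * Nat.card (Subgroup.centralizer ({g'} : Set (Sz F m))) →
      g ∈ conjSet (Subgroup.centralizer ({g'} : Set (Sz F m))) →
      Nat.card (Subgroup.normalizer (Subgroup.centralizer ({g} : Set (Sz F m)) : Set (Sz F m))) =
        4 * Nat.card (Subgroup.centralizer ({g} : Set (Sz F m))) := by
    intro g' hg' hn' hmem
    obtain ⟨c, a, ha, ha1, rfl⟩ := (mem_conjSet_iff _ _).1 hmem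
    have hcomm : a * g' = g' * a := by
      rw [Subgroup.mem_centralizer_iff] at ha
      simp only [Set.mem_singleton_iff, forall_eq] at ha
      exact ha.symm
    have hC := TX_centralizer_eq hF hm hg' ha1 hcomm
    rw [centralizer_conj, hC, ← Subgroup.map_equiv_normalizer_eq,
      Subgroup.card_map_of_injective (MulEquiv.injective _),
      Subgroup.card_map_of_injective (MulEquiv.injective _)]
    exact hn'
  rw [hTX] at hg
  rcases hg with h | h
  · exact key g₁ hg₁ hn₁ h
  · exact key g₂ hg₂ hn₂ h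

theorem no_TX (hm : 1 ≤ m) {Ω : Type*} [Finite Ω] [MulAction (Sz F m) Ω]
    (hfix : ∀ g : Sz F m, g ≠ 1 → (MulAction.fixedBy Ω g).ncard ≤ 2) (α : Ω)
    (hinv : ∀ z ∈ MulAction.stabilizer (Sz F m) α, z * z = 1 → z = 1)
    {y : Sz F m} (hy : y ∈ TX F m) (hyM : y ∈ MulAction.stabilizer (Sz F m) α) : False := by
  have hy1 : y ≠ 1 := hy.1
  have hyV : y ∈ Subgroup.centralizer ({y} : Set (Sz F m)) := by
    rw [Subgroup.mem_centralizer_iff]
    simp only [Set.mem_singleton_iff, forall_eq]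
  have hVodd : ¬ 2 ∣ Nat.card (Subgroup.centralizer ({y} : Set (Sz F m))) := by
    intro h
    exact odd_sq_add_one (m := m) (h.trans (TX_card_dvd hF hm hy))
  have hV : Subgroup.centralizer ({y} : Set (Sz F m)) ≤ MulAction.stabilizer (Sz F m) α := by
    apply le_of_card_le_of_odd _ _ _ hVodd
    apply card_le_two_mul_card_inf hfix α _ y hy1
    intro x hx
    rw [Subgroup.mem_centralizer_iff] at hx
    simp only [Set.mem_singleton_iff, forall_eq] at hx
    rw [mul_assoc, hx, inv_mul_cancel_left]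
    exact hyM
  have hN := card_le_two_mul_card_inf hfix α
    (Subgroup.normalizer (Subgroup.centralizer ({y} : Set (Sz F m)) : Set (Sz F m))) y hy1 (by
      intro x hx
      apply hV
      have hx' := Subgroup.inv_mem _ hx
      rw [Subgroup.mem_normalizer_iff] at hx'
      have h := (hx' y).1 hyV
      rwa [inv_inv] at h)
  rw [TX_normalizer_card_eq hF hm hy] at hN
  have hdvd : Nat.card ((Subgroup.normalizer
      (Subgroup.centralizer ({y} : Set (Sz F m)) : Set (Sz F m))) ⊓
        MulAction.stabilizer (Sz F m) α : Subgroup (Sz F m)) ∣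
      4 * Nat.card (Subgroup.centralizer ({y} : Set (Sz F m))) := by
    rw [← TX_normalizer_card_eq hF hm hy]
    exact Subgroup.card_dvd_of_le inf_le_left
  have h2 : 2 ∣ Nat.card ((Subgroup.normalizer
      (Subgroup.centralizer ({y} : Set (Sz F m)) : Set (Sz F m))) ⊓
        MulAction.stabilizer (Sz F m) α : Subgroup (Sz F m)) := by
    obtain ⟨j, hj⟩ := hdvd
    have hpos : 0 < Nat.card (Subgroup.centralizer ({y} : Set (Sz F m))) := Nat.card_pos
    have hj2 : j ≤ 2 := by
      by_contra hcon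
      push Not at hcon
      nlinarith
    have hj0 : j ≠ 0 := by
      rintro rfl
      omega
    have hj12 : j = 1 ∨ j = 2 := by omega
    rcases hj12 with rfl | rfl
    · rw [mul_one] at hj
      rw [← hj]
      exact ⟨2 * Nat.card (Subgroup.centralizer ({y} : Set (Sz F m))), by ring⟩
    · have h3 : Nat.card ((Subgroup.normalizer
          (Subgroup.centralizer ({y} : Set (Sz F m)) : Set (Sz F m))) ⊓
            MulAction.stabilizer (Sz F m) α : Subgroup (Sz F m)) =
          2 * Nat.card (Subgroup.centralizer ({y} : Set (Sz F m))) := by omega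
      rw [h3]
      exact ⟨_, rfl⟩
  have : Fact (Nat.Prime 2) := ⟨Nat.prime_two⟩
  obtain ⟨x, hx⟩ := exists_prime_orderOf_dvd_card' 2 h2
  have hx1 : x ≠ 1 := by
    rintro rfl
    rw [orderOf_one] at hx
    omega
  have hxx : x * x = 1 := by
    rw [← pow_two, ← hx]
    exact pow_orderOf_eq_one x
  apply hx1
  apply Subtype.ext
  exact hinv x.1 x.2.2 (congrArg Subtype.val hxx)

theorem mem_TH_of_odd (hm : 1 ≤ m) {Ω : Type*} [Finite Ω] [MulAction (Sz F m) Ω]
    (hfix : ∀ g : Sz F m, g ≠ 1 → (MulAction.fixedBy Ω g).ncard ≤ 2) (α : Ω)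
    (hinv : ∀ z ∈ MulAction.stabilizer (Sz F m) α, z * z = 1 → z = 1)
    {y : Sz F m} (hyM : y ∈ MulAction.stabilizer (Sz F m) α) (hy1 : y ≠ 1) : y ∈ TH F m := by
  rcases pow_trichotomy hF hm y with h | h | h
  · exfalso
    apply hy1
    apply hinv y hyM
    apply hinv (y * y) (Subgroup.mul_mem _ hyM hyM)
    have h4 : y * y * (y * y) = y ^ 4 := by
      simp only [pow_succ, pow_zero, one_mul, mul_assoc]
    rw [h4, h]
  · exact ⟨hy1, h⟩
  · exact (no_TX hF hm hfix α hinv ⟨hy1, h⟩ hyM).elim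

end Cfsg.Agent.Lib.Helper8.Sz
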