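import Cfsg.Agent.Lib.Helper8.Sz24

set_option autoImplicit false

namespace Cfsg.Agent.Lib.Helper8.Sz

open Cfsg Matrix
open scoped Pointwise

variable {F : Type*} [Field F] [Fintype F] {m : ℕ}
variable (hF : Fintype.card F = 2 ^ (2 * m + 1))

include hF

theorem odd_core (hm : 1 ≤ m) {Ω : Type*} [Finite Ω] [MulAction (Sz F m) Ω]
    (hfix : ∀ g : Sz F m, g ≠ 1 → (MulAction.fixedBy Ω g).ncard ≤ 2) (α : Ω)
    (hinv : ∀ z ∈ MulAction.stabilizer (Sz F m) α, z * z = 1 → z = 1)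
    {t₀ : Fˣ} (ht₀ : t₀ ≠ 1) (hz : HS hF t₀ ∈ MulAction.stabilizer (Sz F m) α) :
    Nat.card (MulAction.stabilizer (Sz F m) α) = 2 ^ (2 * m + 1) - 1 := by
  have hg1 : HS hF t₀ ≠ 1 := HS_ne_one hF ht₀
  have hH : HSub hF ≤ MulAction.stabilizer (Sz F m) α := by
    apply le_of_card_le_of_odd
    · apply card_le_two_mul_card_inf hfix α (HSub hF) (HS hF t₀) hg1
      intro x hx
      obtain ⟨t, rfl⟩ := (mem_HSub_iff hF x).1 hx
      rw [HS_inv, ← HS_mul, ← HS_mul, mul_comm, mul_inv_cancel_left]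
      exact hz
    · rw [card_HSub]
      exact odd_sub_one
  have hHS : ∀ t : Fˣ, HS hF t ∈ MulAction.stabilizer (Sz F m) α := fun t =>
    hH ((mem_HSub_iff hF _).2 ⟨t, rfl⟩)
  have hw : wS hF ∉ MulAction.stabilizer (Sz F m) α := fun h =>
    wS_ne_one hF (hinv _ h (wS_mul_wS hF))
  have hwα : wS hF • α ≠ α := hw
  have hfixH : ∀ t : Fˣ, t ≠ 1 → ∀ ω : Ω, HS hF t • ω = ω → ω = α ∨ ω = wS hF • α := by
    intro t ht ω hω
    have hα : α ∈ MulAction.fixedBy Ω (HS hF t) := hHS t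
    have hwα' : wS hF • α ∈ MulAction.fixedBy Ω (HS hF t) := by
      rw [MulAction.mem_fixedBy, ← mul_smul, HS_mul_wS, mul_smul]
      congr 1
      exact hHS t⁻¹
    exact eq_or_eq_of_ncard_le_two (Set.toFinite _) (hfix _ (HS_ne_one hF ht)) hα hwα'
      (Ne.symm hwα) hω
  have hconj : ∀ y ∈ MulAction.stabilizer (Sz F m) α, y ∈ TH F m →
      ∃ μ ∈ MulAction.stabilizer (Sz F m) α, ∃ t : Fˣ, t ≠ 1 ∧ y = μ * HS hF t * μ⁻¹ := by
    intro y hy hyTH
    rw [TH_eq hF hm] at hyTH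
    obtain ⟨c, a, ha, ha1, rfl⟩ := (mem_conjSet_iff _ _).1 hyTH
    obtain ⟨t, rfl⟩ := (mem_HSub_iff hF a).1 ha
    have ht : t ≠ 1 := by
      rintro rfl
      exact ha1 (HS_one hF)
    have hfixc : HS hF t • (c⁻¹ • α) = c⁻¹ • α := (mem_stabilizer_inv_smul c (HS hF t) α).2 hy
    rcases hfixH t ht _ hfixc with h | h
    · refine ⟨c, ?_, t, ht, rfl⟩
      rw [MulAction.mem_stabilizer_iff]
      rw [inv_smul_eq_iff] at h
      exact h.symm
    · refine ⟨c * wS hF, ?_, t⁻¹, ?_, ?_⟩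
      · rw [MulAction.mem_stabilizer_iff, mul_smul, ← h, smul_inv_smul]
      · intro h1
        exact ht (inv_eq_one.1 h1)
      · have h2 := wS_mul_HS_mul_wS hF t⁻¹
        rw [inv_inv] at h2
        rw [← h2, _root_.mul_inv_rev, wS_inv]
        group
  have hTH : ∀ y ∈ MulAction.stabilizer (Sz F m) α, y ≠ 1 → y ∈ TH F m := fun y hy hy1 =>
    mem_TH_of_odd hF hm hfix α hinv hy hy1
  have hAcard : Nat.card ((HSub hF).subgroupOf (MulAction.stabilizer (Sz F m) α)) =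
      2 ^ (2 * m + 1) - 1 := by
    rw [← card_HSub hF]
    exact Nat.card_congr (Subgroup.subgroupOfEquivOfLe hH).toEquiv
  have hcount := card_conjSet ((HSub hF).subgroupOf (MulAction.stabilizer (Sz F m) α))
    ((HSub hF).subgroupOf (MulAction.stabilizer (Sz F m) α))
    (fun n hn a ha => Subgroup.mul_mem _ (Subgroup.mul_mem _ hn ha) (Subgroup.inv_mem _ hn)) (by
      intro c a ha ha1 hca
      obtain ⟨s, hs⟩ := (mem_HSub_iff hF a.1).1 ha
      obtain ⟨s', hs'⟩ := (mem_HSub_iff hF _).1 hca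
      have hs1 : s ≠ 1 := by
        rintro rfl
        apply ha1
        apply Subtype.ext
        rw [hs, HS_one]
        rfl
      have hc : c.1 * HS hF s * c.1⁻¹ = HS hF s' := by
        rw [← hs, ← hs']
        rfl
      obtain ⟨t, ht | ht⟩ := (mem_NSub_iff hF _).1 (mem_NSub_of_conj hF hm hs1 c.1 hc)
      · exact (mem_HSub_iff hF _).2 ⟨t, ht⟩
      · exfalso
        apply hw
        have h5 : wS hF = c.1 * (HS hF t)⁻¹ := by
          rw [ht, mul_inv_cancel_right]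
        rw [h5]
        exact Subgroup.mul_mem _ c.2 (Subgroup.inv_mem _ (hHS t)))
  have hall : conjSet ((HSub hF).subgroupOf (MulAction.stabilizer (Sz F m) α)) =
      {x : MulAction.stabilizer (Sz F m) α | x ≠ 1} := by
    ext x
    constructor
    · rintro ⟨c, a, ha, ha1, rfl⟩
      intro h
      exact ha1 (eq_one_of_conj_eq_one h)
    · intro hx
      have hx1 : x.1 ≠ 1 := fun h => hx (Subtype.ext h)
      obtain ⟨μ, hμ, t, ht, hxe⟩ := hconj x.1 x.2 (hTH x.1 x.2 hx1)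
      refine ⟨⟨μ, hμ⟩, ⟨HS hF t, hHS t⟩, (mem_HSub_iff hF _).2 ⟨t, rfl⟩, ?_, Subtype.ext hxe⟩
      intro h
      exact HS_ne_one hF ht (congrArg Subtype.val h)
  rw [hall] at hcount
  have hn : ({x : MulAction.stabilizer (Sz F m) α | x ≠ 1} : Set _).ncard =
      Nat.card (MulAction.stabilizer (Sz F m) α) - 1 := card_subtype_ne_one
  rw [hn, hAcard] at hcount
  have hMpos : 0 < Nat.card (MulAction.stabilizer (Sz F m) α) := Nat.card_pos
  have hq := q_ge (m := m) hm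
  obtain ⟨a, ha⟩ : ∃ a, Nat.card (MulAction.stabilizer (Sz F m) α) = a + 1 :=
    ⟨Nat.card (MulAction.stabilizer (Sz F m) α) - 1, by omega⟩
  obtain ⟨b, hb⟩ : ∃ b, 2 ^ (2 * m + 1) - 1 = b + 1 := ⟨2 ^ (2 * m + 1) - 2, by omega⟩
  rw [ha, hb] at hcount
  simp only [Nat.add_sub_cancel] at hcount
  rw [ha, hb]
  have : a = b := by nlinarith
  omega

theorem fixity_two (hm : 1 ≤ m) {Ω : Type*} [Finite Ω] [MulAction (Sz F m) Ω]
    (htr : MulAction.IsPretransitive (Sz F m) Ω)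
    (hfix : ∀ g : Sz F m, g ≠ 1 → (MulAction.fixedBy Ω g).ncard ≤ 2)
    (hex : ∃ g : Sz F m, g ≠ 1 ∧ (MulAction.fixedBy Ω g).ncard = 2) :
    (Nat.card Ω = (2 ^ (2 * m + 1)) ^ 2 + 1 ∧
      ∀ a b c d : Ω, a ≠ b → c ≠ d → ∃ g : Sz F m, g • a = c ∧ g • b = d) ∨
    (Nat.card Ω = (2 ^ (2 * m + 1)) ^ 2 * ((2 ^ (2 * m + 1)) ^ 2 + 1) ∧
      ∀ α : Ω, Nat.card (MulAction.stabilizer (Sz F m) α) = 2 ^ (2 * m + 1) - 1) := by
  obtain ⟨g₀, hg₀, hg₀2⟩ := hex
  have hne : (MulAction.fixedBy Ω g₀).Nonempty := by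
    rw [← Set.ncard_pos (Set.toFinite _)]
    omega
  obtain ⟨α, hα⟩ := hne
  have hgM : g₀ ∈ MulAction.stabilizer (Sz F m) α := hα
  have hMtop : ∀ β : Ω, MulAction.stabilizer (Sz F m) β ≠ ⊤ := by
    intro β htop
    have hsub : MulAction.fixedBy Ω g₀ ⊆ {β} := by
      intro ω _
      obtain ⟨x, rfl⟩ := MulAction.exists_smul_eq (Sz F m) β ω
      have h : x ∈ MulAction.stabilizer (Sz F m) β := by
        rw [htop]
        exact Subgroup.mem_top _
      exact h
    have h := Set.ncard_le_ncard hsub (Set.finite_singleton β)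
    rw [Set.ncard_singleton] at h
    omega
  by_cases hinv : ∀ z ∈ MulAction.stabilizer (Sz F m) α, z * z = 1 → z = 1
  · right
    have hTH := mem_TH_of_odd hF hm hfix α hinv hgM hg₀
    rw [TH_eq hF hm] at hTH
    obtain ⟨c, a, ha, ha1, rfl⟩ := (mem_conjSet_iff _ _).1 hTH
    obtain ⟨t, rfl⟩ := (mem_HSub_iff hF a).1 ha
    have ht : t ≠ 1 := by
      rintro rfl
      exact ha1 (HS_one hF)
    have hstab : HS hF t ∈ MulAction.stabilizer (Sz F m) (c⁻¹ • α) :=
      (mem_stabilizer_inv_smul c (HS hF t) α).2 hgM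
    have hinv' : ∀ z ∈ MulAction.stabilizer (Sz F m) (c⁻¹ • α), z * z = 1 → z = 1 := by
      intro z hz hzz
      have h1 := (mem_stabilizer_inv_smul c z α).1 hz
      have h2 : (c * z * c⁻¹) * (c * z * c⁻¹) = 1 := by
        rw [conj_mul_self, hzz, mul_one, mul_inv_cancel]
      exact eq_one_of_conj_eq_one (hinv _ h1 h2)
    have hcard := odd_core hF hm hfix (c⁻¹ • α) hinv' ht hstab
    have hall : ∀ β : Ω, Nat.card (MulAction.stabilizer (Sz F m) β) = 2 ^ (2 * m + 1) - 1 := by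
      intro β
      obtain ⟨x, rfl⟩ := MulAction.exists_smul_eq (Sz F m) (c⁻¹ • α) β
      rw [MulAction.stabilizer_smul_eq_stabilizer_map_conj,
        Subgroup.card_map_of_injective (MulEquiv.injective _)]
      exact hcard
    refine ⟨?_, hall⟩
    have h1 := Subgroup.card_mul_index (MulAction.stabilizer (Sz F m) α)
    rw [MulAction.index_stabilizer_of_transitive, hall α, card_Sz hm hF] at h1
    have hq := q_ge (m := m) hm
    have hpos : 0 < 2 ^ (2 * m + 1) - 1 := by omega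
    apply Nat.eq_of_mul_eq_mul_left hpos
    rw [h1]
    ring
  · left
    push Not at hinv
    obtain ⟨z, hzM, hzz, hz1⟩ := hinv
    have hzT2 : z ∈ T2 F m := by
      refine ⟨hz1, ?_⟩
      have h4 : z ^ 4 = z * z * (z * z) := by
        simp only [pow_succ, pow_zero, one_mul, mul_assoc]
      rw [h4, hzz, mul_one]
    rw [T2_eq hF hm] at hzT2
    obtain ⟨c, a, ha, ha1, rfl⟩ := (mem_conjSet_iff _ _).1 hzT2
    obtain ⟨a₁, b₁, rfl⟩ := ha
    have hsq : TS hF a₁ b₁ * TS hF a₁ b₁ = 1 := by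
      rw [conj_mul_self] at hzz
      exact eq_one_of_conj_eq_one hzz
    rw [TS_sq] at hsq
    have ha0 : a₁ = 0 := by
      by_contra h
      refine TS_ne_one' hF (a := 0) (b := th m a₁ * a₁) ?_ hsq
      rintro ⟨-, h'⟩
      rcases mul_eq_zero.1 h' with h'' | h''
      · exact h (th_eq_zero h'')
      · exact h h''
    subst ha0
    have hb0 : b₁ ≠ 0 := by
      rintro rfl
      exact ha1 (TS_zero hF)
    have hstab : TS hF 0 b₁ ∈ MulAction.stabilizer (Sz F m) (c⁻¹ • α) :=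
      (mem_stabilizer_inv_smul c (TS hF 0 b₁) α).2 hzM
    have hB := even_core hF hm hfix (c⁻¹ • α) hb0 hstab
    have hMB := borel_max hF hm _ hB (hMtop (c⁻¹ • α))
    exact even_conclusion hF hm htr (c⁻¹ • α) hMB

end Cfsg.Agent.Lib.Helper8.Sz
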