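import Mathlib

set_option autoImplicit false

namespace Cfsg.Agent.Lib.Helper8.Sz

/-- two involutions either commute with a common involution of the group they generate,
or are conjugate under an involution of that group -/
theorem dihedral_alt {G : Type*} [Group G] [Finite G] (t t' : G) (ht : t * t = 1)
    (ht' : t' * t' = 1) :
    (∃ j : ℕ, (t * t') ^ j ≠ 1 ∧ (t * t') ^ j * (t * t') ^ j = 1 ∧
        (t * t') ^ j * t = t * (t * t') ^ j ∧ (t * t') ^ j * t' = t' * (t * t') ^ j) ∨
    (∃ i : ℕ, (t * (t * t') ^ i) * t * (t * (t * t') ^ i)⁻¹ = t' ∧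
        (t * (t * t') ^ i) * (t * (t * t') ^ i) = 1) := by
  have htinv : t⁻¹ = t := inv_eq_of_mul_eq_one_right ht
  have ht'inv : t'⁻¹ = t' := inv_eq_of_mul_eq_one_right ht'
  have h1 : ∀ i : ℕ, t * (t * t') ^ i * t = ((t * t') ^ i)⁻¹ := by
    intro i
    induction i with
    | zero => simp [ht]
    | succ i ih =>
      have e : t * (t * t') ^ (i + 1) * t = (t * (t * t') ^ i * t) * (t' * t) := by
        rw [pow_succ]
        simp only [mul_assoc]
      rw [e, ih, pow_succ' (t * t') i, mul_inv_rev, mul_inv_rev, htinv, ht'inv]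
  have h2 : ∀ i : ℕ, t' * (t * t') ^ i * t' = ((t * t') ^ i)⁻¹ := by
    intro i
    induction i with
    | zero => simp [ht']
    | succ i ih =>
      have e : t' * (t * t') ^ (i + 1) * t' = (t' * t) * (t' * (t * t') ^ i * t') := by
        rw [pow_succ']
        simp only [mul_assoc]
      rw [e, ih, pow_succ (t * t') i, mul_inv_rev, mul_inv_rev, htinv, ht'inv]
  have hn : 0 < orderOf (t * t') := orderOf_pos _
  rcases Nat.even_or_odd (orderOf (t * t')) with ⟨j, hj⟩ | ⟨j, hj⟩
  · left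
    have hj0 : j ≠ 0 := by
      rintro rfl
      omega
    have hzz : (t * t') ^ j * (t * t') ^ j = 1 := by
      rw [← pow_add, ← hj, pow_orderOf_eq_one]
    have hzinv : ((t * t') ^ j)⁻¹ = (t * t') ^ j := inv_eq_of_mul_eq_one_right hzz
    refine ⟨j, pow_ne_one_of_lt_orderOf hj0 (by omega), hzz, ?_, ?_⟩
    · have h3 := h1 j
      rw [hzinv] at h3
      calc (t * t') ^ j * t = (t * (t * t') ^ j * t) * t := by rw [h3]
        _ = t * (t * t') ^ j := by rw [mul_assoc, ht, mul_one]
    · have h3 := h2 j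
      rw [hzinv] at h3
      calc (t * t') ^ j * t' = (t' * (t * t') ^ j * t') * t' := by rw [h3]
        _ = t' * (t * t') ^ j := by rw [mul_assoc, ht', mul_one]
  · right
    have hττ : (t * (t * t') ^ (j + 1)) * (t * (t * t') ^ (j + 1)) = 1 := by
      calc (t * (t * t') ^ (j + 1)) * (t * (t * t') ^ (j + 1))
          = (t * (t * t') ^ (j + 1) * t) * (t * t') ^ (j + 1) := by simp only [mul_assoc]
        _ = 1 := by rw [h1, inv_mul_cancel]
    refine ⟨j + 1, ?_, hττ⟩
    rw [inv_eq_of_mul_eq_one_right hττ]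
    calc t * (t * t') ^ (j + 1) * t * (t * (t * t') ^ (j + 1))
        = t * ((t * t') ^ (j + 1) * (t * t) * (t * t') ^ (j + 1)) := by simp only [mul_assoc]
      _ = t * (t * t') ^ (orderOf (t * t') + 1) := by
          rw [ht, mul_one, ← pow_add, hj]
          congr 2
          ring
      _ = t' := by rw [pow_succ, pow_orderOf_eq_one, one_mul, ← mul_assoc, ht, one_mul]

theorem mem_normalizer_of_map_eq {G : Type*} [Group G] (C : Subgroup G) (c : G)
    (h : C.map (MulAut.conj c).toMonoidHom = C) : c ∈ Subgroup.normalizer (C : Set G) := by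
  rw [Subgroup.mem_normalizer_iff]
  intro x
  constructor
  · intro hx
    rw [← h]
    exact ⟨x, hx, rfl⟩
  · intro hx
    rw [← h] at hx
    obtain ⟨x', hx', he⟩ := hx
    have he' : c * x' * c⁻¹ = c * x * c⁻¹ := he
    have h3 : x' = x := mul_left_cancel (mul_right_cancel he')
    rw [← h3]
    exact hx'

theorem mem_of_pow_four_mem {G : Type*} [Group G] [Finite G] (C : Subgroup G) {μ : G}
    (h4 : μ ^ 4 ∈ C) (hodd : ∀ j : ℕ, μ ^ j * μ ^ j = 1 → μ ^ j = 1) : μ ∈ C := by
  have ho : 0 < orderOf μ := orderOf_pos μ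
  have hodd' : ¬ 2 ∣ orderOf μ := by
    rintro ⟨j, hj⟩
    have h1 : μ ^ j * μ ^ j = 1 := by
      rw [← pow_add, ← two_mul, ← hj, pow_orderOf_eq_one]
    have h2 := hodd j h1
    have h3 := orderOf_dvd_of_pow_eq_one h2
    have h5 : orderOf μ ≤ j := Nat.le_of_dvd (by omega) h3
    omega
  have hcop2 : Nat.Coprime 2 (orderOf μ) := (Nat.Prime.coprime_iff_not_dvd Nat.prime_two).2 hodd'
  have hcop : Nat.Coprime 4 (orderOf μ) := by
    have h := Nat.Coprime.pow_left 2 hcop2
    norm_num at h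
    exact h
  by_cases h1 : orderOf μ = 1
  · rw [orderOf_eq_one_iff] at h1
    rw [h1]
    exact C.one_mem
  · obtain ⟨a, -, ha⟩ := Nat.exists_mul_mod_eq_one_of_coprime hcop (by omega)
    have h5 : μ = (μ ^ 4) ^ a := by
      rw [← pow_mul, ← pow_mod_orderOf, ha, pow_one]
    rw [h5]
    exact C.pow_mem h4 a

theorem dvd_of_two_pow_sub_one_dvd {e n : ℕ} (h : 2 ^ e - 1 ∣ 2 ^ n - 1) : e ∣ n := by
  have h1 := Nat.pow_sub_one_gcd_pow_sub_one 2 e n
  rw [Nat.gcd_eq_left h] at h1
  have h2 : 2 ^ e = 2 ^ Nat.gcd e n := by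
    have := Nat.one_le_two_pow (n := e)
    have := Nat.one_le_two_pow (n := Nat.gcd e n)
    omega
  have h3 : e = Nat.gcd e n := Nat.pow_right_injective (le_refl 2) h2
  rw [h3]
  exact Nat.gcd_dvd_right e n

end Cfsg.Agent.Lib.Helper8.Sz
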