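import Cfsg.Agent.Lib.Helper8.Sz25
import Cfsg.Agent.Lib.Helper8.Sz26

set_option autoImplicit false

namespace Cfsg.Agent.Lib.Helper8.Sz

open Cfsg Matrix
open scoped Pointwise

theorem mem_normalizer_of_centralizer_eq {G : Type*} [Group G] {y u c : G}
    (h1 : Subgroup.centralizer ({u} : Set G) = Subgroup.centralizer ({y} : Set G))
    (h2 : Subgroup.centralizer ({c * u * c⁻¹} : Set G) = Subgroup.centralizer ({y} : Set G)) :
    c ∈ Subgroup.normalizer (Subgroup.centralizer ({y} : Set G) : Set G) := by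
  apply mem_normalizer_of_map_eq
  rw [← h1, ← centralizer_conj, h2, h1]

theorem mem_centralizer_singleton_iff {G : Type*} [Group G] {y x : G} :
    x ∈ Subgroup.centralizer ({y} : Set G) ↔ x * y = y * x := by
  rw [Subgroup.mem_centralizer_iff]
  simp only [Set.mem_singleton_iff, forall_eq]
  exact eq_comm

variable {F : Type*} [Field F] [Fintype F] {m : ℕ}

/-- non-identity elements of odd order -/
def OddT (F : Type*) [Field F] (m : ℕ) (y : Sz F m) : Prop := y ∈ TH F m ∨ y ∈ TX F m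

variable (hF : Fintype.card F = 2 ^ (2 * m + 1))

include hF

theorem TH_unique {a b a' b' : F} {s s' : Fˣ}
    (h : TS hF a b * HS hF s = TS hF a' b' * HS hF s') : a = a' ∧ b = b' ∧ s = s' :=
  decomp_unique hF (congrArg Subtype.val h)

/-- involutions are conjugates of central translations -/
theorem involution_conj (hm : 1 ≤ m) {z : Sz F m} (hz1 : z ≠ 1) (hzz : z * z = 1) :
    ∃ (c : Sz F m) (b : F), b ≠ 0 ∧ z = c * TS hF 0 b * c⁻¹ := by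
  have hzT2 : z ∈ T2 F m := by
    refine ⟨hz1, ?_⟩
    have h4 : z ^ 4 = z * z * (z * z) := by
      simp only [pow_succ, pow_zero, one_mul, mul_assoc]
    rw [h4, hzz, mul_one]
  rw [T2_eq hF hm] at hzT2
  obtain ⟨c, a, ha, ha1, rfl⟩ := (mem_conjSet_iff _ _).1 hzT2
  obtain ⟨a₁, b₁, rfl⟩ := ha
  have hsq : TS hF a₁ b₁ * TS hF a₁ b₁ = 1 := by
    rw [conj_mul_self] at hzz
    exact eq_one_of_conj_eq_one hzz
  rw [TS_sq] at hsq
  have ha0 : a₁ = 0 := by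
    by_contra h
    refine TS_ne_one' hF (a := 0) (b := th m a₁ * a₁) ?_ hsq
    rintro ⟨-, h'⟩
    rcases mul_eq_zero.1 h' with h'' | h''
    · exact h (th_eq_zero h'')
    · exact h h''
  subst ha0
  have hb0 : b₁ ≠ 0 := by
    rintro rfl
    exact ha1 (TS_zero hF)
  exact ⟨c, b₁, hb0, rfl⟩

theorem TS_center_sq (b : F) : TS hF 0 b * TS hF 0 b = 1 := by
  rw [TS_sq, th_zero, zero_mul, TS_zero]

/-- an involution fixing infinity is a central translation -/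
theorem involution_Bsub (hm : 1 ≤ m) {n : Sz F m} (hn : n ∈ Bsub F m) (hn1 : n ≠ 1)
    (hnn : n * n = 1) : ∃ b : F, b ≠ 0 ∧ n = TS hF 0 b := by
  obtain ⟨a, b, s, rfl⟩ := fix_inf_decomp' hF hm n hn
  have hnn0 := hnn
  rw [TH_mul, ← TS_zero hF, ← mul_one (TS hF 0 0), ← HS_one hF] at hnn
  obtain ⟨-, -, hs⟩ := TH_unique hF hnn
  have hs1 : s = 1 := by
    apply Units.ext
    apply sq_eq_one hF
    rw [sq, ← Units.val_mul, hs, Units.val_one]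
  subst hs1
  rw [HS_one, mul_one] at hn1 ⊢
  have h2 : TS hF a b * TS hF a b = 1 := by
    rw [HS_one, mul_one] at hnn0
    exact hnn0
  rw [TS_sq] at h2
  have ha0 : a = 0 := by
    by_contra h
    refine TS_ne_one' hF (a := 0) (b := th m a * a) ?_ h2
    rintro ⟨-, h'⟩
    rcases mul_eq_zero.1 h' with h'' | h''
    · exact h (th_eq_zero h'')
    · exact h h''
  subst ha0
  refine ⟨b, ?_, rfl⟩
  rintro rfl
  exact hn1 (TS_zero hF)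

/-- two central involutions with different fixed points are conjugate under an involution -/
theorem conj_involution (hm : 1 ≤ m) (M : Subgroup (Sz F m)) {b b' : F} (hb : b ≠ 0)
    (hb' : b' ≠ 0) (h : TS hF 0 b ∈ M) (h' : TS hF 0 b' ∈ M) {μ : Sz F m} (hμ : μ ∈ M)
    (hμB : μ ∉ Bsub F m) :
    ∃ τ ∈ M, τ * TS hF 0 b * τ⁻¹ = μ * TS hF 0 b' * μ⁻¹ ∧ τ * τ = 1 := by
  have ht : TS hF 0 b * TS hF 0 b = 1 := TS_center_sq hF b
  have ht' : (μ * TS hF 0 b' * μ⁻¹) * (μ * TS hF 0 b' * μ⁻¹) = 1 := by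
    rw [conj_mul_self, TS_center_sq, mul_one, mul_inv_cancel]
  have ht'M : μ * TS hF 0 b' * μ⁻¹ ∈ M := M.mul_mem (M.mul_mem hμ h') (M.inv_mem hμ)
  rcases dihedral_alt (TS hF 0 b) (μ * TS hF 0 b' * μ⁻¹) ht ht' with
    ⟨j, hz1, -, hzt, hzt'⟩ | ⟨i, hi, hii⟩
  · exfalso
    apply hμB
    obtain ⟨a₁, b₁, hz⟩ := centralizer_unip hF hm (a := 0) (b := b)
      (by rintro ⟨-, h0⟩; exact hb h0) _ hzt
    rw [hz] at hz1 hzt'
    have hcomm : (μ⁻¹ * TS hF a₁ b₁ * μ) * TS hF 0 b' = TS hF 0 b' * (μ⁻¹ * TS hF a₁ b₁ * μ) := by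
      have e1 : (μ⁻¹ * TS hF a₁ b₁ * μ) * TS hF 0 b' =
          μ⁻¹ * (TS hF a₁ b₁ * (μ * TS hF 0 b' * μ⁻¹)) * μ := by group
      have e2 : TS hF 0 b' * (μ⁻¹ * TS hF a₁ b₁ * μ) =
          μ⁻¹ * ((μ * TS hF 0 b' * μ⁻¹) * TS hF a₁ b₁) * μ := by group
      rw [e1, e2, hzt']
    obtain ⟨a₂, b₂, hz2⟩ := centralizer_unip hF hm (a := 0) (b := b')
      (by rintro ⟨-, h0⟩; exact hb' h0) _ hcomm
    have hmem : μ⁻¹ ∈ Bsub F m := by
      apply mem_Bsub_of_conj hF (a := a₁) (b := b₁) ((TS_ne_one_iff hF).1 hz1) μ⁻¹ (a' := a₂)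
        (b' := b₂)
      rw [inv_inv]
      exact hz2
    have := (Bsub F m).inv_mem hmem
    rwa [inv_inv] at this
  · exact ⟨_, M.mul_mem h (M.pow_mem (M.mul_mem h ht'M) i), hi, hii⟩

/-- the stabiliser of infinity in `M` is transitive on the central involutions of `M` -/
theorem exists_conj_in_Bsub (hm : 1 ≤ m) (M : Subgroup (Sz F m)) {b₁ b₂ : F} (hb₁ : b₁ ≠ 0)
    (hb₂ : b₂ ≠ 0) (h₁ : TS hF 0 b₁ ∈ M) (h₂ : TS hF 0 b₂ ∈ M) {μ₀ : Sz F m} (hμ₀ : μ₀ ∈ M)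
    (hμ₀B : μ₀ ∉ Bsub F m) :
    ∃ ν ∈ M, ν ∈ Bsub F m ∧ ν * TS hF 0 b₁ * ν⁻¹ = TS hF 0 b₂ := by
  obtain ⟨τ₁, hτ₁M, hτ₁, -⟩ := conj_involution hF hm M hb₁ hb₁ h₁ h₁ hμ₀ hμ₀B
  obtain ⟨τ₂, hτ₂M, hτ₂, -⟩ := conj_involution hF hm M hb₂ hb₁ h₂ h₁ hμ₀ hμ₀B
  have hν : (τ₂⁻¹ * τ₁) * TS hF 0 b₁ * (τ₂⁻¹ * τ₁)⁻¹ = TS hF 0 b₂ := by
    have e : (τ₂⁻¹ * τ₁) * TS hF 0 b₁ * (τ₂⁻¹ * τ₁)⁻¹ = τ₂⁻¹ * (τ₁ * TS hF 0 b₁ * τ₁⁻¹) * τ₂ := by
      group
    rw [e, hτ₁, ← hτ₂]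
    group
  refine ⟨τ₂⁻¹ * τ₁, M.mul_mem (M.inv_mem hτ₂M) hτ₁M, ?_, hν⟩
  exact mem_Bsub_of_conj hF (a := 0) (b := b₁) (by rintro ⟨-, h0⟩; exact hb₁ h0) _ hν

end Cfsg.Agent.Lib.Helper8.Sz
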