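import Cfsg.Agent.Lib.Helper8.Sz27

set_option autoImplicit false

namespace Cfsg.Agent.Lib.Helper8.Sz

open Cfsg Matrix
open scoped Pointwise

theorem two_mul_ge_of_count {c a N : ℕ} (ha : 2 ≤ a) (h : c * a = N * (a - 1)) : N ≤ 2 * c := by
  obtain ⟨a', rfl⟩ : ∃ a', a = a' + 2 := ⟨a - 2, by omega⟩
  simp only [show a' + 2 - 1 = a' + 1 by omega] at h
  by_contra hcon
  push Not at hcon
  have h1 : (2 * c + 1) * (a' + 1) ≤ N * (a' + 1) := Nat.mul_le_mul_right _ (by omega)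
  nlinarith

theorem eq_of_count {a N : ℕ} (ha : 2 ≤ a) (hN : 0 < N) (h : (N - 1) * a = N * (a - 1)) :
    a = N := by
  obtain ⟨a', rfl⟩ : ∃ a', a = a' + 1 := ⟨a - 1, by omega⟩
  obtain ⟨N', rfl⟩ : ∃ N', N = N' + 1 := ⟨N - 1, by omega⟩
  simp only [Nat.add_sub_cancel] at h
  have : N' = a' := by nlinarith
  omega

variable {F : Type*} [Field F] [Fintype F] {m : ℕ}
variable (hF : Fintype.card F = 2 ^ (2 * m + 1))

include hF

theorem TH_centralizer_eq_U (hm : 1 ≤ m) {y : Sz F m} (hy : y ∈ TH F m) :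
    ∃ U : Subgroup (Sz F m), IsCyclic U ∧ Nat.card U = 2 ^ (2 * m + 1) - 1 ∧
      Subgroup.centralizer ({y} : Set (Sz F m)) = U := by
  obtain ⟨U, hUc, hUcard, hyU, hU⟩ := partition_torus hF hm hy.1 hy.2
  refine ⟨U, hUc, hUcard, le_antisymm ?_ ?_⟩
  · intro x hx
    exact hU x (mem_centralizer_singleton_iff.1 hx)
  · intro x hx
    rw [mem_centralizer_singleton_iff]
    exact commute_of_mem_cyclic U hUc hx hyU

theorem TH_cyclic (hm : 1 ≤ m) {y : Sz F m} (hy : y ∈ TH F m) :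
    IsCyclic (Subgroup.centralizer ({y} : Set (Sz F m))) := by
  obtain ⟨U, hUc, -, h⟩ := TH_centralizer_eq_U hF hm hy
  rw [h]
  exact hUc

theorem TH_card (hm : 1 ≤ m) {y : Sz F m} (hy : y ∈ TH F m) :
    Nat.card (Subgroup.centralizer ({y} : Set (Sz F m))) = 2 ^ (2 * m + 1) - 1 := by
  obtain ⟨U, -, hUcard, h⟩ := TH_centralizer_eq_U hF hm hy
  rw [h]
  exact hUcard

theorem TH_centralizer_eq (hm : 1 ≤ m) {y u : Sz F m} (hy : y ∈ TH F m) (hu1 : u ≠ 1)
    (hc : u * y = y * u) :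
    Subgroup.centralizer ({u} : Set (Sz F m)) = Subgroup.centralizer ({y} : Set (Sz F m)) := by
  obtain ⟨U, hUc, hUcard, h⟩ := TH_centralizer_eq_U hF hm hy
  have huU : u ∈ U := by
    rw [← h]
    exact mem_centralizer_singleton_iff.2 hc
  have huTH : u ∈ TH F m := ⟨hu1, by rw [← hUcard]; exact pow_card_eq_one_of_mem U huU⟩
  obtain ⟨U', hU'c, hU'card, h'⟩ := TH_centralizer_eq_U hF hm huTH
  rw [h, h']
  symm
  apply Subgroup.eq_of_le_of_card_ge
  · intro x hx
    rw [← h', mem_centralizer_singleton_iff]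
    exact commute_of_mem_cyclic U hUc hx huU
  · rw [hUcard, hU'card]

omit [Fintype F] hF in
theorem oddT_ne_one {y : Sz F m} (hy : OddT F m y) : y ≠ 1 := by
  rcases hy with h | h <;> exact h.1

theorem oddT_cyclic (hm : 1 ≤ m) {y : Sz F m} (hy : OddT F m y) :
    IsCyclic (Subgroup.centralizer ({y} : Set (Sz F m))) :=
  hy.elim (TH_cyclic hF hm) (TX_cyclic hF)

theorem oddT_card (hm : 1 ≤ m) {y : Sz F m} (hy : OddT F m y) :
    Nat.card (Subgroup.centralizer ({y} : Set (Sz F m))) ∈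
      ({2 ^ (2 * m + 1) - 1, 2 ^ (2 * m + 1) + 2 ^ (m + 1) + 1,
        2 ^ (2 * m + 1) - 2 ^ (m + 1) + 1} : Set ℕ) := by
  rcases hy with h | h
  · left
    exact TH_card hF hm h
  · rcases card_centralizer_TX hF hm h with h1 | h1
    · right
      left
      exact h1
    · right
      right
      exact h1

theorem oddT_centralizer_eq (hm : 1 ≤ m) {y u : Sz F m} (hy : OddT F m y) (hu1 : u ≠ 1)
    (hc : u * y = y * u) :
    Subgroup.centralizer ({u} : Set (Sz F m)) = Subgroup.centralizer ({y} : Set (Sz F m)) :=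
  hy.elim (fun h => TH_centralizer_eq hF hm h hu1 hc) (fun h => TX_centralizer_eq hF hm h hu1 hc)

theorem oddT_normalizer (hm : 1 ≤ m) {y u c : Sz F m} (hy : OddT F m y)
    (hu : u ∈ Subgroup.centralizer ({y} : Set (Sz F m))) (hu1 : u ≠ 1)
    (hcu : c * u * c⁻¹ ∈ Subgroup.centralizer ({y} : Set (Sz F m))) :
    c ∈ Subgroup.normalizer (Subgroup.centralizer ({y} : Set (Sz F m)) : Set (Sz F m)) := by
  have hne : c * u * c⁻¹ ≠ 1 := fun h => hu1 (eq_one_of_conj_eq_one h)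
  exact mem_normalizer_of_centralizer_eq
    (oddT_centralizer_eq hF hm hy hu1 (mem_centralizer_singleton_iff.1 hu))
    (oddT_centralizer_eq hF hm hy hne (mem_centralizer_singleton_iff.1 hcu))

theorem oddT_mem_of_normalizer (hm : 1 ≤ m) {y μ : Sz F m} (hy : OddT F m y)
    (hμ : μ ∈ Subgroup.normalizer (Subgroup.centralizer ({y} : Set (Sz F m)) : Set (Sz F m)))
    (hodd : ∀ j : ℕ, μ ^ j * μ ^ j = 1 → μ ^ j = 1) :
    μ ∈ Subgroup.centralizer ({y} : Set (Sz F m)) := by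
  rcases hy with hy | hy
  · have hyT := hy
    rw [TH_eq hF hm] at hyT
    obtain ⟨c, a, ha, ha1, rfl⟩ := (mem_conjSet_iff _ _).1 hyT
    obtain ⟨s, rfl⟩ := (mem_HSub_iff hF a).1 ha
    have hs : s ≠ 1 := by
      rintro rfl
      exact ha1 (HS_one hF)
    have h1 : μ * (c * HS hF s * c⁻¹) * μ⁻¹ ∈
        Subgroup.centralizer ({c * HS hF s * c⁻¹} : Set (Sz F m)) := by
      rw [Subgroup.mem_normalizer_iff] at hμ
      exact (hμ _).1 (mem_centralizer_singleton_iff.2 rfl)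
    rw [mem_centralizer_singleton_iff] at h1
    have h2 : ((c⁻¹ * μ * c) * HS hF s * (c⁻¹ * μ * c)⁻¹) * HS hF s =
        HS hF s * ((c⁻¹ * μ * c) * HS hF s * (c⁻¹ * μ * c)⁻¹) := by
      have e1 : ((c⁻¹ * μ * c) * HS hF s * (c⁻¹ * μ * c)⁻¹) * HS hF s =
          c⁻¹ * ((μ * (c * HS hF s * c⁻¹) * μ⁻¹) * (c * HS hF s * c⁻¹)) * c := by group
      have e2 : HS hF s * ((c⁻¹ * μ * c) * HS hF s * (c⁻¹ * μ * c)⁻¹) =
          c⁻¹ * ((c * HS hF s * c⁻¹) * (μ * (c * HS hF s * c⁻¹) * μ⁻¹)) * c := by group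
      rw [e1, e2, h1]
    obtain ⟨s', hs'⟩ := centralizer_torus hF hm hs _ h2
    obtain ⟨t, ht | ht⟩ := (mem_NSub_iff hF _).1 (mem_NSub_of_conj hF hm hs _ hs')
    · rw [mem_centralizer_singleton_iff]
      have e : μ = c * HS hF t * c⁻¹ := by
        rw [← ht]
        group
      rw [e]
      have e3 : c * HS hF t * c⁻¹ * (c * HS hF s * c⁻¹) = c * (HS hF t * HS hF s) * c⁻¹ := by
        group
      have e4 : c * HS hF s * c⁻¹ * (c * HS hF t * c⁻¹) = c * (HS hF s * HS hF t) * c⁻¹ := by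
        group
      rw [e3, e4, ← HS_mul, ← HS_mul, mul_comm]
    · exfalso
      have hsq : (c⁻¹ * μ * c) * (c⁻¹ * μ * c) = 1 := by
        rw [ht]
        have h3 := wS_mul_HS_mul_wS hF t
        calc wS hF * HS hF t * (wS hF * HS hF t)
            = (wS hF * HS hF t * wS hF) * HS hF t := by group
          _ = 1 := by rw [h3, ← HS_mul, inv_mul_cancel, HS_one]
      have hμμ : μ ^ 1 * μ ^ 1 = 1 := by
        rw [pow_one]
        have e : μ * μ = c * ((c⁻¹ * μ * c) * (c⁻¹ * μ * c)) * c⁻¹ := by group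
        rw [e, hsq]
        group
      have hμ1 := hodd 1 hμμ
      rw [pow_one] at hμ1
      rw [hμ1] at ht
      have h5 : (1 : Sz F m) = wS hF * HS hF t := by
        rw [← ht]
        group
      exact HS_ne_wS_mul hF 1 t (by rw [HS_one]; exact h5)
  · apply mem_of_pow_four_mem _ _ hodd
    have hcard := TX_normalizer_card_eq hF hm hy
    have hle : Subgroup.centralizer ({y} : Set (Sz F m)) ≤
        Subgroup.normalizer (Subgroup.centralizer ({y} : Set (Sz F m)) : Set (Sz F m)) :=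
      Subgroup.le_normalizer
    have hidx : ((Subgroup.centralizer ({y} : Set (Sz F m))).subgroupOf
        (Subgroup.normalizer (Subgroup.centralizer ({y} : Set (Sz F m)) : Set (Sz F m)))).index
          = 4 := by
      have h1 := Subgroup.card_mul_index ((Subgroup.centralizer ({y} : Set (Sz F m))).subgroupOf
        (Subgroup.normalizer (Subgroup.centralizer ({y} : Set (Sz F m)) : Set (Sz F m))))
      rw [Nat.card_congr (Subgroup.subgroupOfEquivOfLe hle).toEquiv, hcard] at h1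
      have hpos : 0 < Nat.card (Subgroup.centralizer ({y} : Set (Sz F m))) := Nat.card_pos
      exact Nat.eq_of_mul_eq_mul_left hpos (h1.trans (mul_comm _ _))
    have h4 := Subgroup.pow_index_mem ((Subgroup.centralizer ({y} : Set (Sz F m))).subgroupOf
        (Subgroup.normalizer (Subgroup.centralizer ({y} : Set (Sz F m)) : Set (Sz F m)))) ⟨μ, hμ⟩
    rw [hidx] at h4
    exact h4

theorem oddT_of_noinv (hm : 1 ≤ m) {y : Sz F m} (hy1 : y ≠ 1)
    (h : ∀ j : ℕ, y ^ j * y ^ j = 1 → y ^ j = 1) : OddT F m y := by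
  rcases pow_trichotomy hF hm y with h4 | h4 | h4
  · exfalso
    apply hy1
    have h2 : y ^ 2 = 1 := by
      apply h 2
      rw [← pow_add]
      exact h4
    have h1 := h 1 (by rw [pow_one, ← sq]; exact h2)
    rwa [pow_one] at h1
  · exact Or.inl ⟨hy1, h4⟩
  · exact Or.inr ⟨hy1, h4⟩

end Cfsg.Agent.Lib.Helper8.Sz
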