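import Cfsg.Agent.Lib.Helper8.Sz28

set_option autoImplicit false

namespace Cfsg.Agent.Lib.Helper8.Sz

open Cfsg Matrix
open scoped Pointwise

variable {F : Type*} [Field F] [Fintype F] {m : ℕ}
variable (hF : Fintype.card F = 2 ^ (2 * m + 1))

include hF

/-- a subgroup without involutions lies in a torus -/
theorem le_centralizer_of_noinv (hm : 1 ≤ m) (M : Subgroup (Sz F m))
    (hinv : ∀ z ∈ M, z * z = 1 → z = 1) (hM : M ≠ ⊥) :
    ∃ y ∈ M, OddT F m y ∧ M ≤ Subgroup.centralizer ({y} : Set (Sz F m)) := by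
  obtain ⟨y₁, hy₁M, hy₁⟩ : ∃ y ∈ M, y ≠ 1 := by
    by_contra hcon
    push Not at hcon
    exact hM ((Subgroup.eq_bot_iff_forall M).2 hcon)
  have hpow : ∀ μ ∈ M, ∀ j : ℕ, μ ^ j * μ ^ j = 1 → μ ^ j = 1 := fun μ hμ j =>
    hinv _ (M.pow_mem hμ j)
  have hoddT : ∀ y ∈ M, y ≠ 1 → OddT F m y := fun y hy hy1 =>
    oddT_of_noinv hF hm hy1 (hpow y hy)
  have hcount : ∀ y ∈ M, y ≠ 1 →
      (conjSet ((Subgroup.centralizer ({y} : Set (Sz F m))).subgroupOf M)).ncard *
        Nat.card ((Subgroup.centralizer ({y} : Set (Sz F m))).subgroupOf M) =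
      Nat.card M * (Nat.card ((Subgroup.centralizer ({y} : Set (Sz F m))).subgroupOf M) - 1) := by
    intro y hy hy1
    apply card_conjSet _ _ (fun n hn a ha =>
      Subgroup.mul_mem _ (Subgroup.mul_mem _ hn ha) (Subgroup.inv_mem _ hn))
    intro c a ha ha1 hca
    have hT := hoddT y hy hy1
    have ha1' : a.1 ≠ 1 := fun h => ha1 (Subtype.ext h)
    have hn : c.1 ∈ Subgroup.normalizer
        (Subgroup.centralizer ({y} : Set (Sz F m)) : Set (Sz F m)) :=
      oddT_normalizer hF hm hT ha ha1' hca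
    exact oddT_mem_of_normalizer hF hm hT hn (hpow c.1 c.2)
  have hge : ∀ y (hy : y ∈ M), y ≠ 1 →
      2 ≤ Nat.card ((Subgroup.centralizer ({y} : Set (Sz F m))).subgroupOf M) := by
    intro y hy hy1
    have hmem : (⟨y, hy⟩ : M) ∈ (Subgroup.centralizer ({y} : Set (Sz F m))).subgroupOf M :=
      mem_centralizer_singleton_iff.2 rfl
    have hnt : Nontrivial ((Subgroup.centralizer ({y} : Set (Sz F m))).subgroupOf M) :=
      ⟨⟨⟨⟨y, hy⟩, hmem⟩, 1, fun h => hy1 (congrArg (fun x => x.1.1) h)⟩⟩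
    exact Finite.one_lt_card
  have hsub : ∀ y : Sz F m,
      conjSet ((Subgroup.centralizer ({y} : Set (Sz F m))).subgroupOf M) ⊆ {x : M | x ≠ 1} := by
    rintro y x ⟨c, a, ha, ha1, rfl⟩ h
    exact ha1 (eq_one_of_conj_eq_one h)
  have hn : ({x : M | x ≠ 1} : Set M).ncard = Nat.card M - 1 := card_subtype_ne_one
  have hMpos : 0 < Nat.card M := Nat.card_pos
  by_cases hall : conjSet ((Subgroup.centralizer ({y₁} : Set (Sz F m))).subgroupOf M) =
      {x : M | x ≠ 1}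
  · refine ⟨y₁, hy₁M, hoddT y₁ hy₁M hy₁, ?_⟩
    have h1 := hcount y₁ hy₁M hy₁
    rw [hall, hn] at h1
    have hcard := eq_of_count (hge y₁ hy₁M hy₁) hMpos h1
    have htop := Subgroup.eq_top_of_card_eq _ hcard
    intro x hx
    have h2 : (⟨x, hx⟩ : M) ∈ (Subgroup.centralizer ({y₁} : Set (Sz F m))).subgroupOf M := by
      rw [htop]
      exact Subgroup.mem_top _
    exact h2
  · exfalso
    obtain ⟨x₂, hx₂, hx₂'⟩ : ∃ x : M, x ≠ 1 ∧
        x ∉ conjSet ((Subgroup.centralizer ({y₁} : Set (Sz F m))).subgroupOf M) := by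
      by_contra hcon
      push Not at hcon
      exact hall (Set.Subset.antisymm (hsub y₁) (fun x hx => hcon x hx))
    have hy₂ : x₂.1 ≠ 1 := fun h => hx₂ (Subtype.ext h)
    have hT₁ := hoddT y₁ hy₁M hy₁
    have hT₂ := hoddT x₂.1 x₂.2 hy₂
    have hdisj : Disjoint (conjSet ((Subgroup.centralizer ({y₁} : Set (Sz F m))).subgroupOf M))
        (conjSet ((Subgroup.centralizer ({x₂.1} : Set (Sz F m))).subgroupOf M)) := by
      rw [Set.disjoint_left]
      rintro x ⟨c₁, a₁, ha₁, ha₁1, rfl⟩ ⟨c₂, a₂, ha₂, ha₂1, he⟩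
      apply hx₂'
      have hν : a₂ = (c₂⁻¹ * c₁) * a₁ * (c₂⁻¹ * c₁)⁻¹ := by
        have h3 : a₂ = c₂⁻¹ * (c₂ * a₂ * c₂⁻¹) * c₂ := by group
        rw [h3, ← he]
        group
      have e1 : Subgroup.centralizer ({a₁.1} : Set (Sz F m)) =
          Subgroup.centralizer ({y₁} : Set (Sz F m)) :=
        oddT_centralizer_eq hF hm hT₁ (fun h => ha₁1 (Subtype.ext h))
          (mem_centralizer_singleton_iff.1 ha₁)
      have e2 : Subgroup.centralizer ({a₂.1} : Set (Sz F m)) =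
          Subgroup.centralizer ({x₂.1} : Set (Sz F m)) :=
        oddT_centralizer_eq hF hm hT₂ (fun h => ha₂1 (Subtype.ext h))
          (mem_centralizer_singleton_iff.1 ha₂)
      have hν' : a₂.1 = (c₂⁻¹ * c₁).1 * a₁.1 * ((c₂⁻¹ * c₁).1)⁻¹ := by
        rw [hν]
        rfl
      rw [hν', centralizer_conj, e1] at e2
      have hx₂C : x₂.1 ∈ (Subgroup.centralizer ({y₁} : Set (Sz F m))).map
          (MulAut.conj (c₂⁻¹ * c₁).1).toMonoidHom := by
        rw [e2]
        exact mem_centralizer_singleton_iff.2 rfl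
      obtain ⟨w, hw, hwe⟩ := hx₂C
      have hwe' : (c₂⁻¹ * c₁).1 * w * ((c₂⁻¹ * c₁).1)⁻¹ = x₂.1 := hwe
      have hwM : w ∈ M := by
        have h3 : w = ((c₂⁻¹ * c₁).1)⁻¹ * x₂.1 * (c₂⁻¹ * c₁).1 := by
          rw [← hwe']
          group
        rw [h3]
        exact M.mul_mem (M.mul_mem (M.inv_mem (c₂⁻¹ * c₁).2) x₂.2) (c₂⁻¹ * c₁).2
      refine ⟨c₂⁻¹ * c₁, ⟨w, hwM⟩, hw, ?_, ?_⟩
      · intro h
        have hw1 : w = 1 := congrArg Subtype.val h
        rw [hw1] at hwe'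
        apply hy₂
        rw [← hwe']
        group
      · exact Subtype.ext hwe'.symm
    have h1 := hcount y₁ hy₁M hy₁
    have h2 := hcount x₂.1 x₂.2 hy₂
    have hu : (conjSet ((Subgroup.centralizer ({y₁} : Set (Sz F m))).subgroupOf M) ∪
        conjSet ((Subgroup.centralizer ({x₂.1} : Set (Sz F m))).subgroupOf M)).ncard ≤
        Nat.card M - 1 := by
      rw [← hn]
      exact Set.ncard_le_ncard (Set.union_subset (hsub y₁) (hsub x₂.1)) (Set.toFinite _)
    rw [Set.ncard_union_eq hdisj (Set.toFinite _) (Set.toFinite _)] at hu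
    have h3 := two_mul_ge_of_count (hge y₁ hy₁M hy₁) h1
    have h4 := two_mul_ge_of_count (hge x₂.1 x₂.2 hy₂) h2
    omega

end Cfsg.Agent.Lib.Helper8.Sz
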