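import Cfsg.Agent.Lib.Helper8.Sz29

set_option autoImplicit false

namespace Cfsg.Agent.Lib.Helper8.Sz

open Cfsg Matrix
open scoped Pointwise

variable {F : Type*} [Field F] [Fintype F] {m : ℕ}
variable (hF : Fintype.card F = 2 ^ (2 * m + 1))

include hF

/-- the case of a unique involution fixing infinity: Burnside's transfer theorem applies -/
theorem le_normalizer_of_unique_inv (hm : 1 ≤ m) (M : Subgroup (Sz F m)) {b₀ : F} (hb₀ : b₀ ≠ 0)
    (h₀ : TS hF 0 b₀ ∈ M) (huniq : ∀ b : F, TS hF 0 b ∈ M → b = 0 ∨ b = b₀)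
    {μ₀ : Sz F m} (hμ₀ : μ₀ ∈ M) (hμ₀B : μ₀ ∉ Bsub F m) :
    ∃ y : Sz F m, OddT F m y ∧
      M ≤ Subgroup.normalizer (Subgroup.centralizer ({y} : Set (Sz F m)) : Set (Sz F m)) := by
  have hab0 : ¬ ((0 : F) = 0 ∧ b₀ = 0) := by
    rintro ⟨-, h⟩
    exact hb₀ h
  have ht₀1 : TS hF 0 b₀ ≠ 1 := TS_ne_one' hF hab0
  -- (a)
  have hBQ : ∀ ν ∈ M, ν ∈ Bsub F m → ∃ a b : F, ν = TS hF a b := by
    intro ν hν hνB
    obtain ⟨b', hb'⟩ := center_conj hF hm ((Bsub F m).inv_mem hνB) b₀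
    rw [inv_inv] at hb'
    have hmem : TS hF 0 b' ∈ M := by
      rw [← hb']
      exact M.mul_mem (M.mul_mem hν h₀) (M.inv_mem hν)
    rcases huniq b' hmem with rfl | rfl
    · exfalso
      rw [TS_zero] at hb'
      exact ht₀1 (eq_one_of_conj_eq_one hb')
    · apply centralizer_unip hF hm hab0
      calc ν * TS hF 0 b' = (ν * TS hF 0 b' * ν⁻¹) * ν := by group
        _ = TS hF 0 b' * ν := by rw [hb']
  -- (b)
  have hsq : ∀ a b : F, TS hF a b ∈ M → a = 0 ∨ th m a * a = b₀ := by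
    intro a b h
    have h2 : TS hF 0 (th m a * a) ∈ M := by
      rw [← TS_sq hF a b]
      exact M.mul_mem h h
    rcases huniq _ h2 with h3 | h3
    · left
      rcases mul_eq_zero.1 h3 with h4 | h4
      · exact th_eq_zero h4
      · exact h4
    · right
      exact h3
  have hcomm : ∀ a b a' b' : F, TS hF a b ∈ M → TS hF a' b' ∈ M →
      TS hF a b * TS hF a' b' = TS hF a' b' * TS hF a b := by
    intro a b a' b' h h'
    rcases hsq a b h with rfl | ha
    · exact TS_center_comm hF b a' b'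
    · rcases hsq a' b' h' with rfl | ha'
      · exact (TS_center_comm hF b' a b).symm
      · have haa : a = a' := by
          have h1 := congrArg (th m) ha
          have h2 := congrArg (th m) ha'
          rw [th_mul, th_th hF] at h1 h2
          have h3 : a * b₀ = a' * b₀ := by
            calc a * b₀ = a ^ 2 * th m a := by rw [← ha]; ring
              _ = a' ^ 2 * th m a' := by rw [h1, h2]
              _ = a' * b₀ := by rw [← ha']; ring
          exact mul_right_cancel₀ hb₀ h3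
        subst haa
        rw [TS_mul, TS_mul, add_comm b b']
  -- (c)
  have hfact : Fact (Nat.Prime 2) := ⟨Nat.prime_two⟩
  have hord : orderOf (⟨TS hF 0 b₀, h₀⟩ : M) = 2 := by
    apply orderOf_eq_prime
    · apply Subtype.ext
      rw [pow_two]
      exact TS_center_sq hF b₀
    · intro h
      exact ht₀1 (congrArg Subtype.val h)
  have hpg : IsPGroup 2 (Subgroup.zpowers (⟨TS hF 0 b₀, h₀⟩ : M)) := by
    apply IsPGroup.of_card (n := 1)
    rw [Nat.card_zpowers, hord, pow_one]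
  obtain ⟨P, hPle⟩ := hpg.exists_le_sylow
  have ht₀P : (⟨TS hF 0 b₀, h₀⟩ : M) ∈ P := hPle (Subgroup.mem_zpowers _)
  -- (d)
  have hPQ : ∀ x : M, x ∈ P → ∃ a b : F, x.1 = TS hF a b := by
    have hnt : Nontrivial (P : Subgroup M) :=
      ⟨⟨⟨⟨TS hF 0 b₀, h₀⟩, ht₀P⟩, 1, fun h => ht₀1 (congrArg (fun x => x.1.1) h)⟩⟩
    have hcn := IsPGroup.center_nontrivial P.2
    obtain ⟨z, hz⟩ := exists_ne (1 : Subgroup.center (P : Subgroup M))
    have hz1 : z.1.1.1 ≠ 1 := fun h => hz (Subtype.ext (Subtype.ext (Subtype.ext h)))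
    have hzc : ∀ x : (P : Subgroup M), x * z.1 = z.1 * x := fun x =>
      Subgroup.mem_center_iff.1 z.2 x
    have hzt : z.1.1.1 * TS hF 0 b₀ = TS hF 0 b₀ * z.1.1.1 := by
      have h1 := hzc ⟨⟨TS hF 0 b₀, h₀⟩, ht₀P⟩
      exact (congrArg (fun x => x.1.1) h1).symm
    obtain ⟨a₂, b₂, hζ⟩ := centralizer_unip hF hm hab0 _ hzt
    have hab2 : ¬ (a₂ = 0 ∧ b₂ = 0) := (TS_ne_one_iff hF).1 (hζ ▸ hz1)
    intro x hx
    apply centralizer_unip hF hm hab2
    rw [← hζ]
    exact congrArg (fun x => x.1.1) (hzc ⟨x, hx⟩)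
  -- (e)
  have hP : Subgroup.normalizer ((P : Subgroup M) : Set M) ≤
      Subgroup.centralizer ((P : Subgroup M) : Set M) := by
    intro μ hμ
    have h1 : μ * ⟨TS hF 0 b₀, h₀⟩ * μ⁻¹ ∈ (P : Subgroup M) :=
      ((Subgroup.mem_normalizer_iff.1 hμ) _).1 ht₀P
    obtain ⟨a, b, hab⟩ := hPQ _ h1
    have h2 : μ.1 * TS hF 0 b₀ * μ.1⁻¹ = TS hF a b := hab
    have hμB : μ.1 ∈ Bsub F m := mem_Bsub_of_conj hF hab0 _ h2
    obtain ⟨a', b', hμ'⟩ := hBQ μ.1 μ.2 hμB
    rw [Subgroup.mem_centralizer_iff]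
    intro x hx
    obtain ⟨a'', b'', hx'⟩ := hPQ x hx
    apply Subtype.ext
    show x.1 * μ.1 = μ.1 * x.1
    have hxM := x.2
    have hμM := μ.2
    rw [hx'] at hxM ⊢
    rw [hμ'] at hμM ⊢
    exact hcomm _ _ _ _ hxM hμM
  -- (f)
  have hcompl := MonoidHom.ker_transferSylow_isComplement' P hP
  -- (g)
  have hKodd : ¬ 2 ∣ Nat.card (MonoidHom.transferSylow P hP).ker := by
    rw [← hcompl.index_eq_card]
    exact P.not_dvd_index
  have hKinv : ∀ κ ∈ (MonoidHom.transferSylow P hP).ker, κ * κ = 1 → κ = 1 := by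
    intro κ hκ hκκ
    have h1 : orderOf (⟨κ, hκ⟩ : (MonoidHom.transferSylow P hP).ker) ∣ 2 := by
      apply orderOf_dvd_of_pow_eq_one
      apply Subtype.ext
      rw [pow_two]
      exact hκκ
    have h2 : orderOf (⟨κ, hκ⟩ : (MonoidHom.transferSylow P hP).ker) ∣
        Nat.card (MonoidHom.transferSylow P hP).ker := orderOf_dvd_natCard _
    have h3 : orderOf (⟨κ, hκ⟩ : (MonoidHom.transferSylow P hP).ker) = 1 := by
      rcases (Nat.dvd_prime Nat.prime_two).1 h1 with h | h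
      · exact h
      · rw [h] at h2
        exact absurd h2 hKodd
    rw [orderOf_eq_one_iff] at h3
    exact congrArg Subtype.val h3
  -- (h)
  have hinv' : ∀ z ∈ (MonoidHom.transferSylow P hP).ker.map M.subtype, z * z = 1 → z = 1 := by
    rintro z ⟨κ, hκ, rfl⟩ hzz
    have h1 : κ * κ = 1 := Subtype.ext hzz
    rw [hKinv κ hκ h1]
    rfl
  have hK' : (MonoidHom.transferSylow P hP).ker.map M.subtype ≠ ⊥ := by
    intro h
    have hbot : (MonoidHom.transferSylow P hP).ker = ⊥ := by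
      rw [Subgroup.eq_bot_iff_forall]
      intro κ hκ
      have h1 : M.subtype κ ∈ (MonoidHom.transferSylow P hP).ker.map M.subtype := ⟨κ, hκ, rfl⟩
      rw [h, Subgroup.mem_bot] at h1
      exact Subtype.ext h1
    rw [hbot, Subgroup.isComplement'_bot_left] at hcompl
    have h2 : (⟨μ₀, hμ₀⟩ : M) ∈ (P : Subgroup M) := by
      rw [hcompl]
      exact Subgroup.mem_top _
    obtain ⟨a, b, hab⟩ := hPQ _ h2
    apply hμ₀B
    have h3 : μ₀ = TS hF a b := hab
    rw [h3]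
    exact TS_mem_Bsub hF a b
  -- (i)
  obtain ⟨y, hyK', hyT, hle⟩ := le_centralizer_of_noinv hF hm _ hinv' hK'
  refine ⟨y, hyT, ?_⟩
  intro μ hμ
  obtain ⟨κ, hκ, rfl⟩ := hyK'
  have hnorm : (⟨μ, hμ⟩ : M) * κ * (⟨μ, hμ⟩ : M)⁻¹ ∈ (MonoidHom.transferSylow P hP).ker :=
    (MonoidHom.normal_ker _).conj_mem κ hκ _
  have h1 : μ * M.subtype κ * μ⁻¹ ∈ (MonoidHom.transferSylow P hP).ker.map M.subtype :=
    ⟨_, hnorm, rfl⟩
  exact oddT_normalizer hF hm hyT (mem_centralizer_singleton_iff.2 rfl) (oddT_ne_one hyT)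
    (hle h1)

end Cfsg.Agent.Lib.Helper8.Sz
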