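import Cfsg.Agent.Lib.Helper8.Sz31

set_option autoImplicit false

namespace Cfsg.Agent.Lib.Helper8.Sz

open Cfsg Matrix
open scoped Pointwise

variable {F : Type*} [Field F] [Fintype F] {m : ℕ}
variable (hF : Fintype.card F = 2 ^ (2 * m + 1))

include hF

/-- the parameters of the central translations in `M` -/
def Vset (M : Subgroup (Sz F m)) : Set F := {b | TS hF 0 b ∈ M}

variable {M : Subgroup (Sz F m)}

theorem V_zero : (0 : F) ∈ Vset hF M := by
  show TS hF 0 0 ∈ M
  rw [TS_zero]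
  exact M.one_mem

theorem V_one (hN : NormalForm hF M) : (1 : F) ∈ Vset hF M := hN.one

theorem V_add {b b' : F} (h : b ∈ Vset hF M) (h' : b' ∈ Vset hF M) : b + b' ∈ Vset hF M := by
  show TS hF 0 (b + b') ∈ M
  have h2 := M.mul_mem h h'
  rw [TS_mul, th_zero, zero_mul, add_zero, add_zero] at h2
  exact h2

theorem V_smul {s : Fˣ} (hs : HS hF s ∈ M) {b : F} (hb : b ∈ Vset hF M) :
    th m (s : F) * (s : F) ^ 2 * b ∈ Vset hF M := by
  show TS hF 0 _ ∈ M
  have h2 := M.mul_mem (M.mul_mem hs hb) (M.inv_mem hs)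
  rw [HS_conj_TS, mul_zero] at h2
  exact h2

theorem V_tor (hm : 1 ≤ m) (hN : NormalForm hF M) {b : F} (hb : b ∈ Vset hF M) (hb0 : b ≠ 0) :
    ∃ s : Fˣ, HS hF s ∈ M ∧ b = th m (s : F) * (s : F) ^ 2 := by
  obtain ⟨μ₀, hμ₀, hμ₀B⟩ := hN.out
  obtain ⟨ν, hνM, hνB, hν⟩ := exists_conj_in_Bsub hF hm M one_ne_zero hb0 hN.one hb hμ₀ hμ₀B
  obtain ⟨a', b', s, rfl⟩ := fix_inf_decomp' hF hm ν hνB
  refine ⟨s, hN.tor a' b' s hνM, ?_⟩
  have e : (TS hF a' b' * HS hF s) * TS hF 0 1 * (TS hF a' b' * HS hF s)⁻¹ =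
      TS hF a' b' * (HS hF s * TS hF 0 1 * (HS hF s)⁻¹) * (TS hF a' b')⁻¹ := by group
  rw [e, HS_conj_TS, mul_zero, mul_one, ← TS_center_comm hF _ a' b', mul_assoc, mul_inv_cancel,
    mul_one] at hν
  exact (TS_inj hF hν).2.symm

theorem V_mul (hm : 1 ≤ m) (hN : NormalForm hF M) {b b' : F} (hb : b ∈ Vset hF M)
    (hb' : b' ∈ Vset hF M) : b * b' ∈ Vset hF M := by
  by_cases hb0 : b = 0
  · rw [hb0, zero_mul]
    exact V_zero hF
  · obtain ⟨s, hs, rfl⟩ := V_tor hF hm hN hb hb0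
    exact V_smul hF hs hb'

theorem V_pow (hm : 1 ≤ m) (hN : NormalForm hF M) {b : F} (hb : b ∈ Vset hF M) (n : ℕ) :
    b ^ n ∈ Vset hF M := by
  induction n with
  | zero =>
    rw [pow_zero]
    exact V_one hF hN
  | succ n ih =>
    rw [pow_succ]
    exact V_mul hF hm hN ih hb

theorem V_th (hm : 1 ≤ m) (hN : NormalForm hF M) {b : F} (hb : b ∈ Vset hF M) :
    th m b ∈ Vset hF M := V_pow hF hm hN hb _

theorem V_inv (hm : 1 ≤ m) (hN : NormalForm hF M) {b : F} (hb : b ∈ Vset hF M) :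
    b⁻¹ ∈ Vset hF M := by
  by_cases hb0 : b = 0
  · rw [hb0, _root_.inv_zero]
    exact V_zero hF
  · obtain ⟨s, hs, rfl⟩ := V_tor hF hm hN hb hb0
    have hs' : HS hF s⁻¹ ∈ M := by
      rw [← HS_inv]
      exact M.inv_mem hs
    have h2 := V_smul hF hs' (V_one hF hN)
    rw [mul_one, Units.val_inv_eq_inv_val, th_inv, _root_.inv_pow, ← _root_.mul_inv] at h2
    exact h2

theorem V_div (hm : 1 ≤ m) (hN : NormalForm hF M) {b b' : F} (hb : b ∈ Vset hF M)
    (hb' : b' ∈ Vset hF M) : b / b' ∈ Vset hF M := by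
  rw [div_eq_mul_inv]
  exact V_mul hF hm hN hb (V_inv hF hm hN hb')

theorem V_unit_of_chi (hm : 1 ≤ m) (hN : NormalForm hF M) {s : Fˣ}
    (h : th m (s : F) * (s : F) ^ 2 ∈ Vset hF M) : (s : F) ∈ Vset hF M := by
  have hs0 : (s : F) ≠ 0 := s.ne_zero
  have hθ : th m (s : F) ≠ 0 := th_ne_zero hs0
  have h1 : th m (s : F) = th m (th m (s : F) * (s : F) ^ 2) / (th m (s : F) * (s : F) ^ 2) := by
    rw [th_mul, th_th hF, th_pow]
    field_simp
  have h2 : th m (s : F) ∈ Vset hF M := by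
    rw [h1]
    exact V_div hF hm hN (V_th hF hm hN h) h
  have h3 : (s : F) ^ 2 ∈ Vset hF M := by
    rw [← th_th hF]
    exact V_th hF hm hN h2
  have h4 : (s : F) = ((s : F) ^ 2) ^ (2 ^ (2 * m)) := by
    rw [← pow_mul, ← pow_succ', ← hF, FiniteField.pow_card]
  rw [h4]
  exact V_pow hF hm hN h3 _

theorem V_of_tor (hm : 1 ≤ m) (hN : NormalForm hF M) {s : Fˣ} (hs : HS hF s ∈ M) :
    (s : F) ∈ Vset hF M := by
  apply V_unit_of_chi hF hm hN
  have h2 := V_smul hF hs (V_one hF hN)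
  rw [mul_one] at h2
  exact h2

theorem tor_of_V (hm : 1 ≤ m) (hN : NormalForm hF M) {x : F} (hx : x ∈ Vset hF M)
    (hx0 : x ≠ 0) : HS hF (Units.mk0 x hx0) ∈ M := by
  obtain ⟨s, hs, rfl⟩ := V_tor hF hm hN hx hx0
  have e : Units.mk0 (th m (s : F) * (s : F) ^ 2) hx0 = s ^ (2 ^ (m + 1) + 2) := by
    apply Units.ext
    rw [Units.val_mk0, Units.val_pow_eq_pow_val, pow_add, th_def]
  rw [e, ← HS_pow]
  exact M.pow_mem hs _

theorem V_coords (hm : 1 ≤ m) (hN : NormalForm hF M) {a b : F} (h : TS hF a b ∈ M) :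
    a ∈ Vset hF M ∧ b ∈ Vset hF M := by
  have hc : th m a * a ∈ Vset hF M := by
    show TS hF 0 (th m a * a) ∈ M
    rw [← TS_sq hF a b]
    exact M.mul_mem h h
  have ha : a ∈ Vset hF M := by
    by_cases ha0 : a = 0
    · rw [ha0]
      exact V_zero hF
    · have e : a = th m (th m a * a) / (th m a * a) := by
        rw [th_mul, th_th hF]
        have h3 := th_ne_zero (m := m) ha0
        field_simp
      rw [e]
      exact V_div hF hm hN (V_th hF hm hN hc) hc
  refine ⟨ha, ?_⟩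
  by_cases ha0 : a = 0
  · subst ha0
    exact h
  · obtain ⟨t, ht0, ht1, ht⟩ := hN.two
    have ht' : 1 + t ∈ Vset hF M := V_add hF (V_one hF hN) ht
    have ht'0 : 1 + t ≠ 0 := by
      intro h0
      apply ht1
      have h3 := add_self hF t
      linear_combination h3 - h0
    have hHt := tor_of_V hF hm hN ht ht0
    have hHt' := tor_of_V hF hm hN ht' ht'0
    have h1 : TS hF (th m t * a) (th m t * t ^ 2 * b) ∈ M := by
      have h3 := M.mul_mem (M.mul_mem hHt h) (M.inv_mem hHt)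
      rw [HS_conj_TS, Units.val_mk0] at h3
      exact h3
    have h2 : TS hF (th m (1 + t) * a) (th m (1 + t) * (1 + t) ^ 2 * b) ∈ M := by
      have h3 := M.mul_mem (M.mul_mem hHt' h) (M.inv_mem hHt')
      rw [HS_conj_TS, Units.val_mk0] at h3
      exact h3
    have h3 := M.mul_mem (M.mul_mem (M.inv_mem h) h1) h2
    rw [TS_inv, TS_mul, TS_mul] at h3
    have hθ1 : th m (1 + t) = 1 + th m t := by rw [th_add hF, th_one]
    have hθ2 : th m (a + th m t * a) = th m a + t ^ 2 * th m a := by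
      rw [th_add hF, th_mul, th_th hF]
    have e1 : a + th m t * a + th m (1 + t) * a = 0 := by
      rw [hθ1]
      have h4 := add_self hF a
      have h5 := add_self hF (th m t * a)
      linear_combination h4 + h5
    rw [e1, hθ1, hθ2] at h3
    have hB : b + th m a * a + th m t * t ^ 2 * b + th m a * (th m t * a) +
        (1 + th m t) * (1 + t) ^ 2 * b + (th m a + t ^ 2 * th m a) * ((1 + th m t) * a) ∈
        Vset hF M := h3
    have hκ : t ^ 2 + th m t ≠ 0 := by
      intro h0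
      have h4 : th m (th m t) = th m t := by
        rw [th_th hF]
        have h5 := add_self hF (th m t)
        linear_combination h0 - h5
      have h5 : th m t = t := th_inj hF h4
      rw [h5] at h0
      have h6 : t * (t + 1) = 0 := by linear_combination h0
      rcases mul_eq_zero.1 h6 with h7 | h7
      · exact ht0 h7
      · apply ht1
        have h8 := add_self hF (1 : F)
        linear_combination h7 - h8
    have hstuff : th m a * a * t ^ 2 * (1 + th m t) ∈ Vset hF M :=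
      V_mul hF hm hN (V_mul hF hm hN (V_mul hF hm hN (V_th hF hm hN ha) ha)
        (V_pow hF hm hN ht 2)) (V_add hF (V_one hF hN) (V_th hF hm hN ht))
    have h2F := two_eq_zero hF
    have e2 : b = (b + th m a * a + th m t * t ^ 2 * b + th m a * (th m t * a) +
        (1 + th m t) * (1 + t) ^ 2 * b + (th m a + t ^ 2 * th m a) * ((1 + th m t) * a) +
        th m a * a * t ^ 2 * (1 + th m t)) / (t ^ 2 + th m t) := by
      rw [eq_div_iff hκ]
      linear_combination (-(th m a * a * t ^ 2 * (1 + th m t)) -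
        (b * (1 + t + t * th m t + th m t * t ^ 2) + a * th m a * (1 + th m t))) * h2F
    rw [e2]
    exact V_div hF hm hN (V_add hF hB hstuff) (V_add hF (V_pow hF hm hN ht 2) (V_th hF hm hN ht))

end Cfsg.Agent.Lib.Helper8.Sz
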