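import Cfsg.Agent.Lib.Helper8.Sz32

set_option autoImplicit false

namespace Cfsg.Agent.Lib.Helper8.Sz

open Cfsg Matrix
open scoped Pointwise

variable {F : Type*} [Field F] [Fintype F] {m : ℕ}
variable (hF : Fintype.card F = 2 ^ (2 * m + 1))

include hF

/-- elements with all parameters in `V` -/
def RatV (V : Set F) (μ : Sz F m) : Prop :=
  (∃ (a b : F) (s : Fˣ), a ∈ V ∧ b ∈ V ∧ (s : F) ∈ V ∧ μ = TS hF a b * HS hF s) ∨
  (∃ (x y c d : F) (s : Fˣ), x ∈ V ∧ y ∈ V ∧ c ∈ V ∧ d ∈ V ∧ (s : F) ∈ V ∧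
    μ = TS hF x y * wS hF * (TS hF c d * HS hF s))

variable {M : Subgroup (Sz F m)}

/-- a non-identity element of `M` fixing infinity and the image of infinity under `μ` -/
theorem exists_fix (hm : 1 ≤ m) (hN : NormalForm hF M) {μ : Sz F m} (hμ : μ ∈ M)
    (hμB : μ ∉ Bsub F m) {x y : F} (hxy : μ.1 • Pinf F = Paff m x y) :
    ∃ (a b : F) (s : Fˣ), s ≠ 1 ∧ TS hF a b ∈ M ∧ HS hF s ∈ M ∧ th m (s : F) * x + a = x ∧
      th m (s : F) * (s : F) ^ 2 * y + b + th m a * (th m (s : F) * x) = y := by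
  obtain ⟨β, hβ0, hβ1, hβ⟩ := hN.two
  obtain ⟨τa, hτaM, hτa, hτaa⟩ :=
    conj_involution hF hm M one_ne_zero one_ne_zero hN.one hN.one hμ hμB
  obtain ⟨τb, hτbM, hτb, hτbb⟩ :=
    conj_involution hF hm M hβ0 one_ne_zero hβ hN.one hμ hμB
  have hτaI : τa.1 • Pinf F = Paff m x y := by
    have hc : (μ⁻¹ * τa) * TS hF 0 1 = TS hF 0 1 * (μ⁻¹ * τa) := by
      have h1 : τa * TS hF 0 1 = μ * TS hF 0 1 * μ⁻¹ * τa := by
        rw [← hτa]
        group
      calc (μ⁻¹ * τa) * TS hF 0 1 = μ⁻¹ * (τa * TS hF 0 1) := by group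
        _ = μ⁻¹ * (μ * TS hF 0 1 * μ⁻¹ * τa) := by rw [h1]
        _ = TS hF 0 1 * (μ⁻¹ * τa) := by group
    obtain ⟨a', b', h⟩ := centralizer_unip hF hm (a := 0) (b := 1)
      (by rintro ⟨-, h⟩; exact one_ne_zero h) _ hc
    have e : τa = μ * TS hF a' b' := by
      rw [← h]
      group
    rw [e]
    show (μ.1 * Tg m a' b') • Pinf F = _
    rw [mul_smul, Tg_smul_Pinf, hxy]
  have hτbI : τb.1 • Pinf F = Paff m x y := by
    have hc : (μ⁻¹ * τb) * TS hF 0 β * (μ⁻¹ * τb)⁻¹ = TS hF 0 1 := by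
      have h1 : (μ⁻¹ * τb) * TS hF 0 β * (μ⁻¹ * τb)⁻¹ = μ⁻¹ * (τb * TS hF 0 β * τb⁻¹) * μ := by
        group
      rw [h1, hτb]
      group
    have hB := mem_Bsub_of_conj hF (a := 0) (b := β) (by rintro ⟨-, h⟩; exact hβ0 h) _ hc
    have hB' : (μ⁻¹ * τb).1 • Pinf F = Pinf F := hB
    have e : τb = μ * (μ⁻¹ * τb) := by group
    rw [e]
    show (μ.1 * (μ⁻¹ * τb).1) • Pinf F = _
    rw [mul_smul, hB', hxy]
  have hνI : (τa * τb).1 • Pinf F = Pinf F := by
    show (τa.1 * τb.1) • Pinf F = Pinf F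
    rw [mul_smul, hτbI, ← hτaI, ← mul_smul]
    show (τa * τa).1 • Pinf F = Pinf F
    rw [hτaa]
    exact one_smul _ _
  have hνp : (τa * τb).1 • Paff m x y = Paff m x y := by
    have h1 : τb.1 • Paff m x y = Pinf F := by
      rw [← hτbI, ← mul_smul]
      show (τb * τb).1 • Pinf F = Pinf F
      rw [hτbb]
      exact one_smul _ _
    show (τa.1 * τb.1) • Paff m x y = Paff m x y
    rw [mul_smul, h1, hτaI]
  have hν1 : τa * τb ≠ 1 := by
    intro h
    have hτ : τb = τa := by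
      have h1 : τb = τa⁻¹ := (inv_eq_of_mul_eq_one_right h).symm
      rw [h1]
      exact inv_eq_of_mul_eq_one_right hτaa
    rw [hτ, ← hτa] at hτb
    have h2 : TS hF 0 β = TS hF 0 1 := by
      have h3 : TS hF 0 β = τa⁻¹ * (τa * TS hF 0 β * τa⁻¹) * τa := by group
      rw [h3, hτb]
      group
    exact hβ1 (TS_inj hF h2).2
  obtain ⟨a, b, s, hν⟩ := fix_inf_decomp' hF hm (τa * τb) hνI
  have hνM : TS hF a b * HS hF s ∈ M := hν ▸ M.mul_mem hτaM hτbM
  have hs := hN.tor a b s hνM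
  have hab : TS hF a b ∈ M := by
    have h1 := M.mul_mem hνM (M.inv_mem hs)
    rw [mul_assoc, mul_inv_cancel, mul_one] at h1
    exact h1
  rw [hν] at hνp hν1
  have hfix : Paff m (th m (s : F) * x + a)
      (th m (s : F) * (s : F) ^ 2 * y + b + th m a * (th m (s : F) * x)) = Paff m x y := by
    have h1 : (TS hF a b * HS hF s).1 • Paff m x y = Tg m a b • (Hg m s • Paff m x y) :=
      mul_smul _ _ _
    rw [h1, Hg_smul_Paff hF, Tg_smul_Paff hF] at hνp
    exact hνp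
  obtain ⟨hx, hy⟩ := Paff_inj hfix
  refine ⟨a, b, s, ?_, hab, hs, hx, hy⟩
  rintro rfl
  apply hν1
  rw [Units.val_one, th_one, one_mul] at hx hy
  have ha0 : a = 0 := by linear_combination hx
  subst ha0
  rw [th_zero, zero_mul, add_zero, one_pow, one_mul] at hy
  have hb0 : b = 0 := by linear_combination hy
  subst hb0
  rw [TS_zero, HS_one, mul_one]

theorem V_image (hm : 1 ≤ m) (hN : NormalForm hF M) {μ : Sz F m} (hμ : μ ∈ M)
    (hμB : μ ∉ Bsub F m) {x y : F} (hxy : μ.1 • Pinf F = Paff m x y) :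
    x ∈ Vset hF M ∧ y ∈ Vset hF M := by
  obtain ⟨a, b, s, hs1, hab, hs, hx, hy⟩ := exists_fix hF hm hN hμ hμB hxy
  obtain ⟨haV, hbV⟩ := V_coords hF hm hN hab
  have hsV := V_of_tor hF hm hN hs
  have hne : th m (s : F) + 1 ≠ 0 := th_add_one_ne_zero hF hs1
  have hne2 : th m (s : F) * (s : F) ^ 2 + 1 ≠ 0 := th_mul_sq_add_one_ne_zero hF hs1
  have hθs : th m (s : F) ∈ Vset hF M := V_th hF hm hN hsV
  have h1V := V_one hF hN
  have hxV : x ∈ Vset hF M := by
    have e : x = a / (th m (s : F) + 1) := by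
      rw [eq_div_iff hne]
      have h1 := add_self hF x
      have h2 := add_self hF a
      linear_combination hx + h1 - h2
    rw [e]
    exact V_div hF hm hN haV (V_add hF hθs h1V)
  refine ⟨hxV, ?_⟩
  have e : y = (b + th m a * (th m (s : F) * x)) / (th m (s : F) * (s : F) ^ 2 + 1) := by
    rw [eq_div_iff hne2]
    have h1 := add_self hF y
    have h2 := add_self hF b
    have h3 := add_self hF (th m a * (th m (s : F) * x))
    linear_combination hy + h1 - h2 - h3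
  rw [e]
  exact V_div hF hm hN (V_add hF hbV (V_mul hF hm hN (V_th hF hm hN haV) (V_mul hF hm hN hθs hxV)))
    (V_add hF (V_mul hF hm hN hθs (V_pow hF hm hN hsV 2)) h1V)

theorem bruhat_image (x y c d : F) (s : Fˣ) :
    (TS hF x y * wS hF * (TS hF c d * HS hF s)).1 • Pinf F = Paff m x y := by
  show (Tg m x y * wg F * (Tg m c d * Hg m s)) • Pinf F = _
  rw [mul_smul, mul_smul, mul_smul, Hg_smul_Pinf, Tg_smul_Pinf, wg_smul_Pinf (m := m),
    Tg_smul_zero hF]

theorem conj_center_image (x y c d : F) (s : Fˣ) :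
    ((TS hF x y * wS hF * (TS hF c d * HS hF s)) * TS hF 0 1 *
      (TS hF x y * wS hF * (TS hF c d * HS hF s))⁻¹).1 • Pinf F =
      Paff m (th m (s : F) * (s : F) ^ 2 / th m (th m (s : F) * (s : F) ^ 2) + x)
        (0 / th m (th m (s : F) * (s : F) ^ 2) + y +
          th m x * (th m (s : F) * (s : F) ^ 2 / th m (th m (s : F) * (s : F) ^ 2))) := by
  have hχ0 : th m (s : F) * (s : F) ^ 2 ≠ 0 :=
    mul_ne_zero (th_ne_zero s.ne_zero) (pow_ne_zero 2 s.ne_zero)
  have hf : fS m (0 : F) (th m (s : F) * (s : F) ^ 2) = th m (th m (s : F) * (s : F) ^ 2) := by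
    rw [fS_def, th_zero]
    ring
  have hf0 : fS m (0 : F) (th m (s : F) * (s : F) ^ 2) ≠ 0 := by
    rw [hf]
    exact th_ne_zero hχ0
  have e : (TS hF x y * wS hF * (TS hF c d * HS hF s)) * TS hF 0 1 *
      (TS hF x y * wS hF * (TS hF c d * HS hF s))⁻¹ =
      TS hF x y * wS hF * TS hF 0 (th m (s : F) * (s : F) ^ 2) * wS hF * (TS hF x y)⁻¹ := by
    have e1 : (TS hF c d * HS hF s) * TS hF 0 1 * (TS hF c d * HS hF s)⁻¹ =
        TS hF 0 (th m (s : F) * (s : F) ^ 2) := by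
      have e2 : (TS hF c d * HS hF s) * TS hF 0 1 * (TS hF c d * HS hF s)⁻¹ =
          TS hF c d * (HS hF s * TS hF 0 1 * (HS hF s)⁻¹) * (TS hF c d)⁻¹ := by group
      rw [e2, HS_conj_TS, mul_zero, mul_one, ← TS_center_comm hF _ c d, mul_assoc,
        mul_inv_cancel, mul_one]
    have e3 : (TS hF x y * wS hF * (TS hF c d * HS hF s)) * TS hF 0 1 *
        (TS hF x y * wS hF * (TS hF c d * HS hF s))⁻¹ =
        TS hF x y * wS hF * ((TS hF c d * HS hF s) * TS hF 0 1 * (TS hF c d * HS hF s)⁻¹) *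
          (wS hF)⁻¹ * (TS hF x y)⁻¹ := by group
    rw [e3, e1, wS_inv]
  rw [e, TS_inv]
  show (Tg m x y * wg F * Tg m 0 (th m (s : F) * (s : F) ^ 2) * wg F *
    Tg m x (y + th m x * x)) • Pinf F = _
  rw [mul_smul, mul_smul, mul_smul, mul_smul, Tg_smul_Pinf, wg_smul_Pinf (m := m),
    Tg_smul_zero hF, wg_smul_Paff hF _ _ hf0, Tg_smul_Paff hF, hf]

theorem V_rat (hm : 1 ≤ m) (hN : NormalForm hF M) {μ : Sz F m} (hμ : μ ∈ M) :
    RatV hF (Vset hF M) μ := by
  by_cases hμB : μ ∈ Bsub F m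
  · left
    obtain ⟨a, b, s, rfl⟩ := fix_inf_decomp' hF hm μ hμB
    have hs := hN.tor a b s hμ
    have hab : TS hF a b ∈ M := by
      have h1 := M.mul_mem hμ (M.inv_mem hs)
      rw [mul_assoc, mul_inv_cancel, mul_one] at h1
      exact h1
    obtain ⟨ha, hb⟩ := V_coords hF hm hN hab
    exact ⟨a, b, s, ha, hb, V_of_tor hF hm hN hs, rfl⟩
  · right
    obtain ⟨x, y, n, hn, rfl⟩ := bruhat_decomp hF μ hμB
    obtain ⟨c, d, s, rfl⟩ := fix_inf_decomp' hF hm n hn
    obtain ⟨hx, hy⟩ := V_image hF hm hN hμ hμB (bruhat_image hF x y c d s)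
    have hχ0 : th m (s : F) * (s : F) ^ 2 ≠ 0 :=
      mul_ne_zero (th_ne_zero s.ne_zero) (pow_ne_zero 2 s.ne_zero)
    have hθχ0 : th m (th m (s : F) * (s : F) ^ 2) ≠ 0 := th_ne_zero hχ0
    have ht'M := M.mul_mem (M.mul_mem hμ hN.one) (M.inv_mem hμ)
    have himg' := conj_center_image hF x y c d s
    have ht'B : (TS hF x y * wS hF * (TS hF c d * HS hF s)) * TS hF 0 1 *
        (TS hF x y * wS hF * (TS hF c d * HS hF s))⁻¹ ∉ Bsub F m := by
      intro h
      have h1 : ((TS hF x y * wS hF * (TS hF c d * HS hF s)) * TS hF 0 1 *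
        (TS hF x y * wS hF * (TS hF c d * HS hF s))⁻¹).1 • Pinf F = Pinf F := h
      rw [himg'] at h1
      exact Paff_ne_Pinf _ _ h1
    obtain ⟨hx', -⟩ := V_image hF hm hN ht'M ht'B himg'
    have hz : th m (s : F) * (s : F) ^ 2 / th m (th m (s : F) * (s : F) ^ 2) ∈ Vset hF M := by
      have h1 := V_add hF hx' hx
      have e : th m (s : F) * (s : F) ^ 2 / th m (th m (s : F) * (s : F) ^ 2) =
          th m (s : F) * (s : F) ^ 2 / th m (th m (s : F) * (s : F) ^ 2) + x + x := by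
        have h2 := add_self hF x
        linear_combination -h2
      rw [e]
      exact h1
    have hχ : th m (s : F) * (s : F) ^ 2 ∈ Vset hF M := by
      have e : th m (s : F) * (s : F) ^ 2 =
          (th m (s : F) * (s : F) ^ 2 / th m (th m (s : F) * (s : F) ^ 2) *
            th m (th m (s : F) * (s : F) ^ 2 / th m (th m (s : F) * (s : F) ^ 2)))⁻¹ := by
        rw [th_div, th_th hF]
        field_simp
      rw [e]
      exact V_inv hF hm hN (V_mul hF hm hN hz (V_th hF hm hN hz))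
    have hs : (s : F) ∈ Vset hF M := V_unit_of_chi hF hm hN hχ
    have hinvM := M.inv_mem hμ
    have hinvB : (TS hF x y * wS hF * (TS hF c d * HS hF s))⁻¹ ∉ Bsub F m := by
      intro h
      apply hμB
      have h1 := (Bsub F m).inv_mem h
      rw [inv_inv] at h1
      exact h1
    have himg'' : ((TS hF x y * wS hF * (TS hF c d * HS hF s))⁻¹).1 • Pinf F =
        Paff m (th m ((s⁻¹ : Fˣ) : F) * c)
          (th m ((s⁻¹ : Fˣ) : F) * ((s⁻¹ : Fˣ) : F) ^ 2 * (d + th m c * c)) := by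
      have e : (TS hF x y * wS hF * (TS hF c d * HS hF s))⁻¹ =
          HS hF s⁻¹ * TS hF c (d + th m c * c) * wS hF * TS hF x (y + th m x * x) := by
        rw [← HS_inv, ← TS_inv, ← TS_inv]
        nth_rewrite 2 [← wS_inv hF]
        group
      rw [e]
      show (Hg m s⁻¹ * Tg m c (d + th m c * c) * wg F * Tg m x (y + th m x * x)) • Pinf F = _
      rw [mul_smul, mul_smul, mul_smul, Tg_smul_Pinf, wg_smul_Pinf (m := m), Tg_smul_zero hF,
        Hg_smul_Paff hF]
    obtain ⟨hc', hd'⟩ := V_image hF hm hN hinvM hinvB himg''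
    have hθs : th m (s : F) ∈ Vset hF M := V_th hF hm hN hs
    have hs0 : (s : F) ≠ 0 := s.ne_zero
    have hθs0 : th m (s : F) ≠ 0 := th_ne_zero hs0
    have hc : c ∈ Vset hF M := by
      have e : c = th m (s : F) * (th m ((s⁻¹ : Fˣ) : F) * c) := by
        rw [Units.val_inv_eq_inv_val, th_inv]
        field_simp
      rw [e]
      exact V_mul hF hm hN hθs hc'
    have hd : d ∈ Vset hF M := by
      have h1 : d + th m c * c ∈ Vset hF M := by
        have e : d + th m c * c = (th m (s : F) * (s : F) ^ 2) *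
            (th m ((s⁻¹ : Fˣ) : F) * ((s⁻¹ : Fˣ) : F) ^ 2 * (d + th m c * c)) := by
          rw [Units.val_inv_eq_inv_val, th_inv]
          field_simp
        rw [e]
        exact V_mul hF hm hN hχ hd'
      have e : d = (d + th m c * c) + th m c * c := by
        have h2 := add_self hF (th m c * c)
        linear_combination -h2
      rw [e]
      exact V_add hF h1 (V_mul hF hm hN (V_th hF hm hN hc) hc)
    exact ⟨x, y, c, d, s, hx, hy, hc, hd, hs, rfl⟩

end Cfsg.Agent.Lib.Helper8.Sz
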