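import Cfsg.Agent.Lib.Helper8.Sz33

set_option autoImplicit false

namespace Cfsg.Agent.Lib.Helper8.Sz

open Cfsg Matrix
open scoped Pointwise

variable {F : Type*} [Field F] [Fintype F] {m : ℕ}
variable (hF : Fintype.card F = 2 ^ (2 * m + 1))

include hF

variable {M : Subgroup (Sz F m)}

theorem exists_TS_ne_aux (hm : 1 ≤ m) (hN : NormalForm hF M) {μ : Sz F m} (hμ : μ ∈ M)
    (hμB : μ ∉ Bsub F m) {x y : F} (hxy : μ.1 • Pinf F = Paff m x y) (hx0 : x ≠ 0) :
    ∃ a b : F, a ≠ 0 ∧ TS hF a b ∈ M := by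
  obtain ⟨a, b, s, hs1, hab, hs, hx, hy⟩ := exists_fix hF hm hN hμ hμB hxy
  refine ⟨a, b, ?_, hab⟩
  rintro rfl
  have hne : th m (s : F) + 1 ≠ 0 := th_add_one_ne_zero hF hs1
  have h1 : (th m (s : F) + 1) * x = 0 := by
    linear_combination hx + add_self hF x
  rcases mul_eq_zero.1 h1 with h2 | h2
  · exact hne h2
  · exact hx0 h2

theorem exists_TS_ne (hm : 1 ≤ m) (hN : NormalForm hF M) :
    ∃ a b : F, a ≠ 0 ∧ TS hF a b ∈ M := by
  obtain ⟨μ₀, hμ₀, hμ₀B⟩ := hN.out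
  obtain ⟨x, y, n, hn, rfl⟩ := bruhat_decomp hF μ₀ hμ₀B
  obtain ⟨c, d, s, rfl⟩ := fix_inf_decomp' hF hm n hn
  by_cases hx0 : x = 0
  · have hχ0 : th m (s : F) * (s : F) ^ 2 ≠ 0 :=
      mul_ne_zero (th_ne_zero s.ne_zero) (pow_ne_zero 2 s.ne_zero)
    have hθχ0 : th m (th m (s : F) * (s : F) ^ 2) ≠ 0 := th_ne_zero hχ0
    have ht'M := M.mul_mem (M.mul_mem hμ₀ hN.one) (M.inv_mem hμ₀)
    have himg' := conj_center_image hF x y c d s
    have ht'B : (TS hF x y * wS hF * (TS hF c d * HS hF s)) * TS hF 0 1 *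
        (TS hF x y * wS hF * (TS hF c d * HS hF s))⁻¹ ∉ Bsub F m := by
      intro h
      have h1 : ((TS hF x y * wS hF * (TS hF c d * HS hF s)) * TS hF 0 1 *
        (TS hF x y * wS hF * (TS hF c d * HS hF s))⁻¹).1 • Pinf F = Pinf F := h
      rw [himg'] at h1
      exact Paff_ne_Pinf _ _ h1
    refine exists_TS_ne_aux hF hm hN ht'M ht'B himg' ?_
    rw [hx0, add_zero]
    exact div_ne_zero hχ0 hθχ0
  · exact exists_TS_ne_aux hF hm hN hμ₀ hμ₀B (bruhat_image hF x y c d s) hx0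

theorem V_card (hm : 1 ≤ m) (hN : NormalForm hF M) :
    ∃ e : ℕ, 2 ≤ e ∧ e ∣ 2 * m + 1 ∧ (Vset hF M).ncard = 2 ^ e ∧
      ∀ x ∈ Vset hF M, x ^ (2 ^ e) = x := by
  obtain ⟨A, hA⟩ : ∃ A : AddSubgroup F, (A : Set F) = Vset hF M := by
    refine ⟨{ carrier := Vset hF M, zero_mem' := V_zero hF,
              add_mem' := fun h h' => V_add hF h h', neg_mem' := ?_ }, rfl⟩
    intro x hx
    have e : -x = x := neg_eq hF x
    rw [e]
    exact hx
  have hAcard : Nat.card A = (Vset hF M).ncard := by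
    rw [← hA]
    rfl
  have hdvd : Nat.card A ∣ 2 ^ (2 * m + 1) := by
    have h1 := AddSubgroup.card_addSubgroup_dvd_card A
    rw [Nat.card_eq_fintype_card (α := F), hF] at h1
    exact h1
  obtain ⟨e, he, hcard⟩ := (Nat.dvd_prime_pow Nat.prime_two).1 hdvd
  rw [hAcard] at hcard
  obtain ⟨D, hD⟩ : ∃ D : Subgroup Fˣ, D = M.comap (torusHom hF) := ⟨_, rfl⟩
  have hDmem : ∀ s : Fˣ, s ∈ D ↔ HS hF s ∈ M := by
    intro s
    rw [hD]
    exact Iff.rfl
  have himg : Units.val '' (D : Set Fˣ) = Vset hF M \ {0} := by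
    ext x
    constructor
    · rintro ⟨s, hs, rfl⟩
      exact ⟨V_of_tor hF hm hN ((hDmem s).1 hs), s.ne_zero⟩
    · rintro ⟨hx, hx0⟩
      have hx0' : x ≠ 0 := hx0
      exact ⟨Units.mk0 x hx0', (hDmem _).2 (tor_of_V hF hm hN hx hx0'), rfl⟩
  have hDcard : Nat.card D = 2 ^ e - 1 := by
    have h1 : Nat.card D = (D : Set Fˣ).ncard := rfl
    rw [h1, ← Set.ncard_image_of_injective _ Units.val_injective, himg,
      Set.ncard_sdiff_singleton_of_mem (V_zero hF), hcard]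
  have hDdvd : 2 ^ e - 1 ∣ 2 ^ (2 * m + 1) - 1 := by
    have h1 := Subgroup.card_subgroup_dvd_card D
    rw [hDcard, Nat.card_units, Nat.card_eq_fintype_card, hF] at h1
    exact h1
  have hediv : e ∣ 2 * m + 1 := dvd_of_two_pow_sub_one_dvd hDdvd
  refine ⟨e, ?_, hediv, hcard, ?_⟩
  · obtain ⟨β, hβ0, hβ1, hβ⟩ := hN.two
    by_contra hlt
    have he1 : e ≤ 1 := by omega
    have hle : (Vset hF M).ncard ≤ 2 := by
      rw [hcard]
      calc 2 ^ e ≤ 2 ^ 1 := Nat.pow_le_pow_right (by norm_num) he1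
        _ = 2 := by norm_num
    have hsub : ({0, 1, β} : Set F) ⊆ Vset hF M := by
      intro z hz
      rcases hz with rfl | rfl | rfl
      · exact V_zero hF
      · exact V_one hF hN
      · exact hβ
    have h3 : ({0, 1, β} : Set F).ncard = 3 := by
      rw [Set.ncard_eq_three]
      exact ⟨0, 1, β, zero_ne_one, hβ0.symm, hβ1.symm, rfl⟩
    have h4 := Set.ncard_le_ncard hsub (Set.toFinite _)
    omega
  · intro x hx
    by_cases hx0 : x = 0
    · rw [hx0, zero_pow (by positivity)]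
    · have hs : Units.mk0 x hx0 ∈ D := (hDmem _).2 (tor_of_V hF hm hN hx hx0)
      have h1 : (⟨Units.mk0 x hx0, hs⟩ : D) ^ Nat.card D = 1 := pow_card_eq_one'
      have h2 : (Units.mk0 x hx0) ^ (2 ^ e - 1) = 1 := by
        rw [← hDcard]
        exact congrArg Subtype.val h1
      have h3 : x ^ (2 ^ e - 1) = 1 := by
        have h4 := congrArg Units.val h2
        rw [Units.val_pow_eq_pow_val, Units.val_mk0, Units.val_one] at h4
        exact h4
      have hpos : 1 ≤ 2 ^ e := Nat.one_le_two_pow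
      calc x ^ (2 ^ e) = x ^ (2 ^ e - 1 + 1) := by rw [Nat.sub_add_cancel hpos]
        _ = x := by rw [pow_succ, h3, one_mul]

theorem subfield_case (hm : 1 ≤ m) (hN : NormalForm hF M) (hM : M ≠ ⊤) :
    ∃ k : ℕ, 1 ≤ k ∧ k < m ∧ 2 * k + 1 ∣ 2 * m + 1 ∧
      ∀ x ∈ Vset hF M, x ^ (2 ^ (2 * k + 1)) = x := by
  obtain ⟨e, he2, hediv, hcard, hpow⟩ := V_card hF hm hN
  have hoddm : Odd (2 * m + 1) := odd_two_mul_add_one m
  obtain ⟨k, rfl⟩ := Odd.of_dvd_nat hoddm hediv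
  have hkm : 2 * k + 1 ≤ 2 * m + 1 := Nat.le_of_dvd (by omega) hediv
  refine ⟨k, by omega, ?_, hediv, hpow⟩
  by_contra hlt
  have hkm' : m = k := by omega
  subst hkm'
  have huniv : Vset hF M = Set.univ := by
    rw [Set.eq_univ_iff_ncard, hcard, Nat.card_eq_fintype_card, hF]
  have hV : ∀ b : F, TS hF 0 b ∈ M := by
    intro b
    have h1 : b ∈ Vset hF M := by
      rw [huniv]
      trivial
    exact h1
  have hH : ∀ s : Fˣ, HS hF s ∈ M := by
    intro s
    have h1 : (s : F) ∈ Vset hF M := by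
      rw [huniv]
      trivial
    have h2 := tor_of_V hF hm hN h1 s.ne_zero
    have e : Units.mk0 (s : F) s.ne_zero = s := Units.ext rfl
    rw [e] at h2
    exact h2
  obtain ⟨a, b, ha0, hab⟩ := exists_TS_ne hF hm hN
  have hT : ∀ a' b' : F, TS hF a' b' ∈ M := by
    intro a' b'
    by_cases ha' : a' = 0
    · rw [ha']
      exact hV b'
    · obtain ⟨y, hy⟩ := exists_th hF (m := m) (a' / a)
      have hy0 : y ≠ 0 := by
        rintro rfl
        rw [th_zero] at hy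
        exact (div_ne_zero ha' ha0) hy.symm
      have h1 := M.mul_mem (M.mul_mem (hH (Units.mk0 y hy0)) hab)
        (M.inv_mem (hH (Units.mk0 y hy0)))
      rw [HS_conj_TS, Units.val_mk0, hy, div_mul_cancel₀ _ ha0] at h1
      have h2 := M.mul_mem h1 (hV (a' / a * y ^ 2 * b + b'))
      rw [TS_mul, add_zero, mul_zero, add_zero] at h2
      have e : a' / a * y ^ 2 * b + (a' / a * y ^ 2 * b + b') = b' := by
        linear_combination add_self hF (a' / a * y ^ 2 * b)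
      rw [e] at h2
      exact h2
  have hB : Bsub F m ≤ M := fun g hg => mem_of_fix_inf hF hm M hT hH g hg
  have hMB := borel_max hF hm M hB hM
  obtain ⟨μ₀, hμ₀, hμ₀B⟩ := hN.out
  rw [hMB] at hμ₀
  exact hμ₀B hμ₀

end Cfsg.Agent.Lib.Helper8.Sz
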