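import Cfsg.Agent.Lib.Helper8.Sz34
import Cfsg.Agent.Lib.Helper45.SzSub1

set_option autoImplicit false

namespace Cfsg.Agent.Lib.Helper8.Sz

open Cfsg Matrix
open scoped Pointwise

/-- the conclusion of the theorem on the subgroups of the Suzuki groups -/
def SubConcl (F : Type*) [Field F] [Fintype F] (m : ℕ) (M : Subgroup (Sz F m)) : Prop :=
  (∃ P : Sylow 2 ↥(Cfsg.Sz F m), M ≤ Subgroup.normalizer ((P : Subgroup ↥(Cfsg.Sz F m)) : Set ↥(Cfsg.Sz F m))) ∨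
    (∃ U : Subgroup ↥(Cfsg.Sz F m), IsCyclic ↥U ∧ Nat.card ↥U ∈ ({2 ^ (2 * m + 1) - 1, 2 ^ (2 * m + 1) + 2 ^ (m + 1) + 1, 2 ^ (2 * m + 1) - 2 ^ (m + 1) + 1} : Set ℕ) ∧
      M ≤ Subgroup.normalizer (U : Set ↥(Cfsg.Sz F m))) ∨
    (∃ (K : Type) (_ : Field K) (_ : Fintype K) (k : ℕ), 1 ≤ k ∧ k < m ∧ Fintype.card K = 2 ^ (2 * k + 1) ∧ 2 * k + 1 ∣ 2 * m + 1 ∧
      ∃ S : Subgroup ↥(Cfsg.Sz F m), Nonempty (↥S ≃* ↥(Cfsg.Sz K k)) ∧ M ≤ S)

theorem le_normalizer_of_map_le {G : Type*} [Group G] (c : G) {M X : Subgroup G}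
    (h : M.map (MulAut.conj c).toMonoidHom ≤ Subgroup.normalizer (X : Set G)) :
    M ≤ Subgroup.normalizer ((X.map (MulAut.conj c⁻¹).toMonoidHom : Subgroup G) : Set G) := by
  intro g hg
  have h1 : c * g * c⁻¹ ∈ Subgroup.normalizer (X : Set G) := h ⟨g, hg, rfl⟩
  rw [Subgroup.mem_normalizer_iff] at h1 ⊢
  intro x
  have key : ∀ z : G, z ∈ X.map (MulAut.conj c⁻¹).toMonoidHom ↔ c * z * c⁻¹ ∈ X := by
    intro z
    constructor
    · rintro ⟨w, hw, rfl⟩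
      have e : c * ((MulAut.conj c⁻¹).toMonoidHom w) * c⁻¹ = w := by
        show c * (c⁻¹ * w * c⁻¹⁻¹) * c⁻¹ = w
        group
      rw [e]
      exact hw
    · intro hz
      refine ⟨c * z * c⁻¹, hz, ?_⟩
      show c⁻¹ * (c * z * c⁻¹) * c⁻¹⁻¹ = z
      group
  rw [key, key, h1 (c * x * c⁻¹)]
  have e : c * g * c⁻¹ * (c * x * c⁻¹) * (c * g * c⁻¹)⁻¹ = c * (g * x * g⁻¹) * c⁻¹ := by group
  rw [e]

theorem le_map_of_map_le {G : Type*} [Group G] (c : G) {M S : Subgroup G}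
    (h : M.map (MulAut.conj c).toMonoidHom ≤ S) :
    M ≤ S.map (MulAut.conj c⁻¹).toMonoidHom := by
  intro g hg
  have h1 : c * g * c⁻¹ ∈ S := h ⟨g, hg, rfl⟩
  refine ⟨c * g * c⁻¹, h1, ?_⟩
  show c⁻¹ * (c * g * c⁻¹) * c⁻¹⁻¹ = g
  group

theorem map_conj_ne_top {G : Type*} [Group G] (c : G) {M : Subgroup G} (hM : M ≠ ⊤) :
    M.map (MulAut.conj c).toMonoidHom ≠ ⊤ := by
  intro h
  apply hM
  rw [eq_top_iff]
  intro g _
  have h1 : c * g * c⁻¹ ∈ M.map (MulAut.conj c).toMonoidHom := by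
    rw [h]
    trivial
  obtain ⟨x, hx, he⟩ := h1
  have he' : c * x * c⁻¹ = c * g * c⁻¹ := he
  have h3 : x = g := mul_left_cancel (mul_right_cancel he')
  rw [← h3]
  exact hx

theorem subConcl_of_conj {F : Type*} [Field F] [Fintype F] {m : ℕ} (c : Sz F m)
    {M : Subgroup (Sz F m)} (h : SubConcl F m (M.map (MulAut.conj c).toMonoidHom)) :
    SubConcl F m M := by
  have hinj : Function.Injective (MulAut.conj c⁻¹).toMonoidHom := (MulAut.conj c⁻¹).injective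
  rcases h with ⟨P, hP⟩ | ⟨U, hUc, hUcard, hU⟩ | ⟨K, iK, iK', k, hk1, hkm, hK, hdiv, S, ⟨e⟩, hS⟩
  · left
    have hcard : Nat.card ((P : Subgroup (Sz F m)).map (MulAut.conj c⁻¹).toMonoidHom) =
        2 ^ (Nat.card (Sz F m)).factorization 2 := by
      rw [Subgroup.card_map_of_injective hinj]
      exact P.card_eq_multiplicity
    refine ⟨Sylow.ofCard _ hcard, ?_⟩
    rw [Sylow.coe_ofCard]
    exact le_normalizer_of_map_le c hP
  · right; left
    refine ⟨U.map (MulAut.conj c⁻¹).toMonoidHom, ?_, ?_, le_normalizer_of_map_le c hU⟩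
    · exact (Subgroup.equivMapOfInjective U _ hinj).isCyclic.1 hUc
    · rw [Subgroup.card_map_of_injective hinj]
      exact hUcard
  · right; right
    exact ⟨K, iK, iK', k, hk1, hkm, hK, hdiv, S.map (MulAut.conj c⁻¹).toMonoidHom,
      ⟨(Subgroup.equivMapOfInjective S _ hinj).symm.trans e⟩, le_map_of_map_le c hS⟩

theorem exists_field (k : ℕ) :
    ∃ (K : Type) (_ : Field K) (_ : Fintype K), Fintype.card K = 2 ^ (2 * k + 1) := by
  have hp : Fact (Nat.Prime 2) := ⟨Nat.prime_two⟩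
  refine ⟨GaloisField 2 (2 * k + 1), inferInstance, Fintype.ofFinite _, ?_⟩
  exact (@Nat.card_eq_fintype_card _ (Fintype.ofFinite _)).symm.trans
    (GaloisField.card 2 (2 * k + 1) (by omega))

theorem subfield_concl {F : Type*} [Field F] [Fintype F] {m : ℕ} (hm : 1 ≤ m)
    (hF : Fintype.card F = 2 ^ (2 * m + 1)) {M : Subgroup (Sz F m)} (hN : NormalForm hF M)
    (K : Type) [Field K] [Fintype K] {k : ℕ} (hk1 : 1 ≤ k)
    (hK : Fintype.card K = 2 ^ (2 * k + 1)) (hdiv : 2 * k + 1 ∣ 2 * m + 1)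
    (hpow : ∀ x ∈ Vset hF M, x ^ (2 ^ (2 * k + 1)) = x) :
    ∃ S : Subgroup ↥(Cfsg.Sz F m), Nonempty (↥S ≃* ↥(Cfsg.Sz K k)) ∧ M ≤ S := by
  obtain ⟨φ⟩ := Cfsg.Agent.Lib.Helper45.SzSub.exists_emb hF hK hdiv
  refine ⟨(Cfsg.Agent.Lib.Helper45.SzSub.iota hk1 hK hF hdiv φ).range,
    ⟨(MonoidHom.ofInjective (Cfsg.Agent.Lib.Helper45.SzSub.iota_inj hk1 hK hF hdiv φ)).symm⟩, ?_⟩
  intro μ hμ
  rcases V_rat hF hm hN hμ with ⟨a, b, s, ha, hb, hs, rfl⟩ |
    ⟨x, y, c, d, s, hx, hy, hc, hd, hs, rfl⟩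
  · exact Subgroup.mul_mem _
      (Cfsg.Agent.Lib.Helper45.SzSub.tg_mem_range hk1 hK hF hdiv φ a b (hpow a ha) (hpow b hb))
      (Cfsg.Agent.Lib.Helper45.SzSub.hgS_mem_range hk1 hK hF hdiv φ s (hpow _ hs))
  · exact Subgroup.mul_mem _ (Subgroup.mul_mem _
      (Cfsg.Agent.Lib.Helper45.SzSub.tg_mem_range hk1 hK hF hdiv φ x y (hpow x hx) (hpow y hy))
      (Cfsg.Agent.Lib.Helper45.SzSub.wS_mem_range hk1 hK hF hdiv φ))
      (Subgroup.mul_mem _
        (Cfsg.Agent.Lib.Helper45.SzSub.tg_mem_range hk1 hK hF hdiv φ c d (hpow c hc) (hpow d hd))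
        (Cfsg.Agent.Lib.Helper45.SzSub.hgS_mem_range hk1 hK hF hdiv φ s (hpow _ hs)))

theorem subgroups_main {F : Type*} [Field F] [Fintype F] {m : ℕ} (hm : 1 ≤ m)
    (hF : Fintype.card F = 2 ^ (2 * m + 1)) (M : Subgroup (Sz F m)) (hM : M ≠ ⊤) :
    SubConcl F m M := by
  by_cases hinv : ∀ z ∈ M, z * z = 1 → z = 1
  · by_cases hbot : M = ⊥
    · left
      refine ⟨Sylow.ofCard (QS hF) (card_QS_eq hF hm), ?_⟩
      rw [hbot]
      exact bot_le
    · right; left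
      obtain ⟨y, hyM, hy, hle⟩ := le_centralizer_of_noinv hF hm M hinv hbot
      exact ⟨Subgroup.centralizer ({y} : Set (Sz F m)), oddT_cyclic hF hm hy, oddT_card hF hm hy,
        hle.trans Subgroup.le_normalizer⟩
  · push_neg at hinv
    obtain ⟨z, hzM, hzz, hz1⟩ := hinv
    obtain ⟨c, b₀, hb₀, hz⟩ := involution_conj hF hm hz1 hzz
    apply subConcl_of_conj c⁻¹
    obtain ⟨M', hM'⟩ : ∃ M' : Subgroup (Sz F m), M' = M.map (MulAut.conj c⁻¹).toMonoidHom :=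
      ⟨_, rfl⟩
    rw [← hM']
    have hM'top : M' ≠ ⊤ := by
      rw [hM']
      exact map_conj_ne_top c⁻¹ hM
    have h₀ : TS hF 0 b₀ ∈ M' := by
      rw [hM']
      refine ⟨z, hzM, ?_⟩
      show c⁻¹ * z * c⁻¹⁻¹ = _
      rw [hz]
      group
    by_cases hB : M' ≤ Bsub F m
    · left
      refine ⟨Sylow.ofCard (QS hF) (card_QS_eq hF hm), ?_⟩
      rw [Sylow.coe_ofCard]
      intro g hg
      rw [Subgroup.mem_normalizer_iff]
      intro x
      constructor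
      · intro hx
        exact Bsub_normalizes hF hm (hB hg) hx
      · intro hx
        have h1 := Bsub_normalizes hF hm ((Bsub F m).inv_mem (hB hg)) hx
        have e : g⁻¹ * (g * x * g⁻¹) * g⁻¹⁻¹ = x := by group
        rw [e] at h1
        exact h1
    · obtain ⟨μ₀, hμ₀, hμ₀B⟩ : ∃ μ₀ ∈ M', μ₀ ∉ Bsub F m := by
        by_contra hcon
        push_neg at hcon
        exact hB hcon
      by_cases huniq : ∀ b : F, TS hF 0 b ∈ M' → b = 0 ∨ b = b₀
      · right; left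
        obtain ⟨y, hy, hle⟩ := le_normalizer_of_unique_inv hF hm M' hb₀ h₀ huniq hμ₀ hμ₀B
        exact ⟨Subgroup.centralizer ({y} : Set (Sz F m)), oddT_cyclic hF hm hy,
          oddT_card hF hm hy, hle⟩
      · push_neg at huniq
        obtain ⟨b₁, hb₁M, hb₁0, hb₁ne⟩ := huniq
        obtain ⟨n, hN⟩ := exists_normal_form hF hm M' hb₀ hb₁0 (Ne.symm hb₁ne) h₀ hb₁M hμ₀ hμ₀B
        apply subConcl_of_conj n
        obtain ⟨M'', hM''⟩ : ∃ M'' : Subgroup (Sz F m),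
          M'' = M'.map (MulAut.conj n).toMonoidHom := ⟨_, rfl⟩
        rw [← hM''] at hN ⊢
        have hM''top : M'' ≠ ⊤ := by
          rw [hM'']
          exact map_conj_ne_top n hM'top
        right; right
        obtain ⟨k, hk1, hkm, hdiv, hpow⟩ := subfield_case hF hm hN hM''top
        obtain ⟨K, iK, iK', hK⟩ := exists_field k
        exact ⟨K, iK, iK', k, hk1, hkm, hK, hdiv,
          @subfield_concl F _ _ m hm hF M'' hN K iK iK' k hk1 hK hdiv hpow⟩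

end Cfsg.Agent.Lib.Helper8.Sz
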