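import Cfsg.Agent.Lib.Helper8.Sz35
import Cfsg.Agent.Lib.Helper45.SzSol3

set_option autoImplicit false

namespace Cfsg.Agent.Lib.Helper8.Sz

open Cfsg Matrix
open scoped Pointwise
open Cfsg.Agent.Lib.Helper45.SzSol (Sol Struct IsTor)

variable {F : Type*} [Field F] [Fintype F] {m : ℕ}

theorem Sol_conj (c x : Sz F m) :
    Sol (c * x * c⁻¹) = (fun y : Sz F m => c * y * c⁻¹) '' Sol x := by
  have key : ∀ y' : Sz F m, Subgroup.closure ({c * x * c⁻¹, c * y' * c⁻¹} : Set (Sz F m)) =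
      (Subgroup.closure ({x, y'} : Set (Sz F m))).map (MulAut.conj c).toMonoidHom := by
    intro y'
    rw [MonoidHom.map_closure, Set.image_pair]
    rfl
  ext y
  constructor
  · intro hy
    refine ⟨c⁻¹ * y * c, ?_, by group⟩
    intro htop
    apply hy
    have e : y = c * (c⁻¹ * y * c) * c⁻¹ := by group
    rw [e, key, htop]
    exact Subgroup.map_top_of_surjective _ (MulAut.conj c).surjective
  · rintro ⟨y', hy', rfl⟩
    show Subgroup.closure ({c * x * c⁻¹, c * y' * c⁻¹} : Set (Sz F m)) ≠ ⊤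
    rw [key]
    exact map_conj_ne_top c hy'

theorem Sol_conj_ncard (c x : Sz F m) : (Sol (c * x * c⁻¹)).ncard = (Sol x).ncard := by
  rw [Sol_conj]
  apply Set.ncard_image_of_injective
  intro a b h
  have h' : c * a * c⁻¹ = c * b * c⁻¹ := h
  exact mul_left_cancel (mul_right_cancel h')

variable (hF : Fintype.card F = 2 ^ (2 * m + 1))

include hF

theorem not_TX_of_mem_Bsub (hm : 1 ≤ m) {g : Sz F m} (hg : g ∈ Bsub F m) : g ∉ TX F m := by
  intro hTX
  obtain ⟨a, b, s, rfl⟩ := fix_inf_decomp' hF hm g hg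
  obtain ⟨a', b', h⟩ := Cfsg.Agent.Lib.Helper45.SzSol.pow_TH hF a b s (2 ^ (2 * m + 1) - 1)
  have hs : s ^ (2 ^ (2 * m + 1) - 1) = 1 := by
    have h1 := pow_card_eq_one' (G := Fˣ) (x := s)
    rwa [Nat.card_units, Nat.card_eq_fintype_card, hF] at h1
  rw [hs, HS_one, mul_one] at h
  have h4 : (TS hF a b * HS hF s) ^ ((2 ^ (2 * m + 1) - 1) * 4) = 1 := by
    rw [pow_mul, h, TS_pow_four]
  have hcop : Nat.Coprime ((2 ^ (2 * m + 1) - 1) * 4) ((2 ^ (2 * m + 1)) ^ 2 + 1) :=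
    Nat.Coprime.mul_left coprime_sub_one_sq_add_one coprime_four_sq_add_one
  exact hTX.1 (eq_one_of_pow_coprime hcop h4 hTX.2)

omit hF in
theorem TX_conj_mem {x : Sz F m} (hx : x ∈ TX F m) (c : Sz F m) : c⁻¹ * x * c ∈ TX F m := by
  refine ⟨?_, ?_⟩
  · intro h
    apply hx.1
    have e : x = c * (c⁻¹ * x * c) * c⁻¹ := by group
    rw [e, h]
    group
  · have e : c⁻¹ * x * c = c⁻¹ * x * c⁻¹⁻¹ := by rw [inv_inv]
    rw [e, conj_pow, hx.2]
    group

theorem Sol_TX_eq (hm : 1 ≤ m) (hS : Struct F m) {x : Sz F m} (hx : x ∈ TX F m) :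
    Sol x = ((Subgroup.normalizer (Subgroup.centralizer ({x} : Set (Sz F m)) : Set (Sz F m)) :
      Subgroup (Sz F m)) : Set (Sz F m)) := by
  have hx4 : x ^ 4 ≠ 1 := Cfsg.Agent.Lib.Helper45.SzSol.TX_pow_four hx
  have hU := Cfsg.Agent.Lib.Helper45.SzSol.isTor_of_TX hF hm hx
  ext y
  constructor
  · intro hy
    have hxM : x ∈ Subgroup.closure ({x, y} : Set (Sz F m)) :=
      Subgroup.subset_closure (Set.mem_insert _ _)
    have hyM : y ∈ Subgroup.closure ({x, y} : Set (Sz F m)) :=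
      Subgroup.subset_closure (Set.mem_insert_of_mem _ rfl)
    rcases hS _ hy with ⟨c, hc⟩ | ⟨U, hUt, hMU⟩
    · exfalso
      exact not_TX_of_mem_Bsub hF hm (hc x hxM) (TX_conj_mem hx c)
    · have hxN := hMU hxM
      rcases hUt.mem_or_pow_four hF hm hxN with h | h
      · obtain ⟨-, hUC⟩ := hUt.eq_centralizer hF hm h hx.1
        show y ∈ Subgroup.normalizer (Subgroup.centralizer ({x} : Set (Sz F m)) : Set (Sz F m))
        rw [← hUC]
        exact hMU hyM
      · exact absurd h hx4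
  · intro hy htop
    have hle : Subgroup.closure ({x, y} : Set (Sz F m)) ≤
        Subgroup.normalizer (Subgroup.centralizer ({x} : Set (Sz F m)) : Set (Sz F m)) := by
      rw [Subgroup.closure_le]
      rintro z (rfl | rfl)
      · apply Subgroup.le_normalizer
        rw [mem_centralizer_singleton_iff]
      · exact hy
    rw [htop, top_le_iff] at hle
    exact Cfsg.Agent.Lib.Helper45.SzSol.normalizer_tor_ne_top hF hm hU hle

theorem card_Sol_TX (hm : 1 ≤ m) (hS : Struct F m) {x : Sz F m} (hx : x ∈ TX F m) :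
    (Sol x).ncard = 4 * Nat.card (Subgroup.centralizer ({x} : Set (Sz F m))) := by
  rw [Sol_TX_eq hF hm hS hx, ← TX_normalizer_card_eq hF hm hx]
  rfl

theorem HS_mem_TH {s : Fˣ} (hs : s ≠ 1) : HS hF s ∈ TH F m :=
  ⟨HS_ne_one hF hs, HS_pow_card hF s⟩

theorem isTor_HSub : IsTor F m (HSub hF) :=
  ⟨Cfsg.Agent.Lib.Helper45.SzSol.isCyclic_HSub hF, Or.inl (card_HSub hF)⟩

theorem wS_smul_Pinf : (wS hF).1 • Pinf F = Paff m (0 : F) 0 := by
  show wg F • Pinf F = _
  exact wg_smul_Pinf (m := m)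

theorem wS_mul_HS_not_mem_Bsub (t : Fˣ) : wS hF * HS hF t ∉ Bsub F m := by
  intro h
  have h1 : (wg F * Hg m t) • Pinf F = Pinf F := h
  rw [mul_smul, Hg_smul_Pinf, wg_smul_Pinf (m := m)] at h1
  exact Paff_ne_Pinf (m := m) (0 : F) 0 h1

/-- the stabiliser of the point zero -/
def Bopp : Subgroup (Sz F m) := (Bsub F m).map (MulAut.conj (wS hF)).toMonoidHom

theorem mem_Bopp_iff (g : Sz F m) : g ∈ Bopp hF ↔ wS hF * g * wS hF ∈ Bsub F m := by
  constructor
  · rintro ⟨b, hb, rfl⟩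
    have e : wS hF * ((MulAut.conj (wS hF)).toMonoidHom b) * wS hF = b := by
      show wS hF * (wS hF * b * (wS hF)⁻¹) * wS hF = b
      rw [wS_inv]
      calc wS hF * (wS hF * b * wS hF) * wS hF
          = (wS hF * wS hF) * b * (wS hF * wS hF) := by group
        _ = b := by rw [wS_mul_wS, one_mul, mul_one]
    rw [e]
    exact hb
  · intro h
    refine ⟨wS hF * g * wS hF, h, ?_⟩
    show wS hF * (wS hF * g * wS hF) * (wS hF)⁻¹ = g
    rw [wS_inv]
    calc wS hF * (wS hF * g * wS hF) * wS hF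
        = (wS hF * wS hF) * g * (wS hF * wS hF) := by group
      _ = g := by rw [wS_mul_wS, one_mul, mul_one]

theorem Bopp_ne_top : Bopp hF ≠ (⊤ : Subgroup (Sz F m)) :=
  map_conj_ne_top _ (Cfsg.Agent.Lib.Helper45.SzSol.Bsub_ne_top hF)

theorem HS_mem_Bopp (t : Fˣ) : HS hF t ∈ Bopp hF := by
  rw [mem_Bopp_iff, wS_mul_HS_mul_wS]
  exact HS_mem_Bsub hF _

theorem wS_mul_HS_not_mem_Bopp (t : Fˣ) : wS hF * HS hF t ∉ Bopp hF := by
  rw [mem_Bopp_iff]
  intro h
  have e : wS hF * (wS hF * HS hF t) * wS hF = HS hF t * wS hF := by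
    rw [← mul_assoc, wS_mul_wS, one_mul]
  rw [e, HS_mul_wS] at h
  exact wS_mul_HS_not_mem_Bsub hF _ h

theorem Bsub_inter_Bopp (hm : 1 ≤ m) :
    (Bsub F m : Set (Sz F m)) ∩ (Bopp hF : Set (Sz F m)) = (HSub hF : Set (Sz F m)) := by
  ext g
  constructor
  · rintro ⟨h1, h2⟩
    have h1' : g.1 • Pinf F = Pinf F := h1
    have h2' : (wS hF * g * wS hF).1 • Pinf F = Pinf F := (mem_Bopp_iff hF g).1 h2
    have h3 : g.1 • Paff m (0 : F) 0 = Paff m (0 : F) 0 := by
      have h4 : (wg F * g.1 * wg F) • Pinf F = Pinf F := h2'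
      rw [mul_smul, mul_smul, wg_smul_Pinf (m := m)] at h4
      have h5 : wg F • (wg F • (g.1 • Paff m (0 : F) 0)) = wg F • Pinf F :=
        congrArg (fun p => wg F • p) h4
      rw [← mul_smul, wg_mul_wg, one_smul, wg_smul_Pinf (m := m)] at h5
      exact h5
    obtain ⟨s, hs⟩ := stab_two hm hF g.2 h1' h3
    exact (mem_HSub_iff hF g).2 ⟨s, Subtype.ext hs⟩
  · intro h
    obtain ⟨s, rfl⟩ := (mem_HSub_iff hF g).1 h
    exact ⟨HS_mem_Bsub hF s, HS_mem_Bopp hF s⟩

theorem Sol_HS_eq (hm : 1 ≤ m) (hS : Struct F m) {s : Fˣ} (hs : s ≠ 1) :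
    Sol (HS hF s) = ((Bsub F m : Set (Sz F m)) ∪ (Bopp hF : Set (Sz F m))) ∪
      Set.range (fun t : Fˣ => wS hF * HS hF t) := by
  have hTH := HS_mem_TH hF hs
  have hx4 : HS hF s ^ 4 ≠ 1 := Cfsg.Agent.Lib.Helper45.SzSol.TH_pow_four hTH
  ext y
  constructor
  · intro hy
    have hxM : HS hF s ∈ Subgroup.closure ({HS hF s, y} : Set (Sz F m)) :=
      Subgroup.subset_closure (Set.mem_insert _ _)
    have hyM : y ∈ Subgroup.closure ({HS hF s, y} : Set (Sz F m)) :=
      Subgroup.subset_closure (Set.mem_insert_of_mem _ rfl)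
    rcases hS _ hy with ⟨c, hc⟩ | ⟨U, hUt, hMU⟩
    · have hxB := hc _ hxM
      have hyB := hc _ hyM
      have hfix : Hg m s • (c.1 • Pinf F) = c.1 • Pinf F := by
        have h1 : (c⁻¹ * HS hF s * c).1 • Pinf F = Pinf F := hxB
        have h2 : (c⁻¹.1 * Hg m s * c.1) • Pinf F = Pinf F := h1
        rw [mul_smul, mul_smul] at h2
        have h3 : c.1 • (c⁻¹.1 • (Hg m s • (c.1 • Pinf F))) = c.1 • Pinf F :=
          congrArg (fun p => c.1 • p) h2
        rw [← mul_smul c.1 c⁻¹.1] at h3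
        have h4 : c.1 * c⁻¹.1 = 1 := by
          have := congrArg Subtype.val (mul_inv_cancel c)
          exact this
        rw [h4, one_smul] at h3
        exact h3
      rcases HS_fix hF hm hs (smul_mem_of_mem_Sz c.2 Pinf_mem) hfix with h | h
      · left; left
        have hcB : c ∈ Bsub F m := h
        have e : y = c * (c⁻¹ * y * c) * c⁻¹ := by group
        rw [e]
        exact (Bsub F m).mul_mem ((Bsub F m).mul_mem hcB hyB) ((Bsub F m).inv_mem hcB)
      · left; right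
        have hnB : wS hF * c ∈ Bsub F m := by
          show (wg F * c.1) • Pinf F = Pinf F
          rw [mul_smul, h, ← wg_smul_Pinf (m := m), ← mul_smul, wg_mul_wg, one_smul]
        show y ∈ Bopp hF
        rw [mem_Bopp_iff]
        have e : wS hF * y * wS hF = (wS hF * c) * (c⁻¹ * y * c) * (wS hF * c)⁻¹ := by
          rw [_root_.mul_inv_rev, wS_inv]
          group
        rw [e]
        exact (Bsub F m).mul_mem ((Bsub F m).mul_mem hnB hyB) ((Bsub F m).inv_mem hnB)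
    · have hxN := hMU hxM
      rcases hUt.mem_or_pow_four hF hm hxN with h | h
      · obtain ⟨-, hUC⟩ := hUt.eq_centralizer hF hm h hTH.1
        rw [Cfsg.Agent.Lib.Helper45.SzSol.centralizer_HS hF hm hs] at hUC
        have hyN := hMU hyM
        rw [hUC, Cfsg.Agent.Lib.Helper45.SzSol.normalizer_HSub hF hm] at hyN
        obtain ⟨t, rfl | rfl⟩ := hyN
        · left; left
          exact HS_mem_Bsub hF t
        · right
          exact ⟨t, rfl⟩
      · exact absurd h hx4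
  · rintro ((hy | hy) | ⟨t, rfl⟩)
    · intro htop
      have hle : Subgroup.closure ({HS hF s, y} : Set (Sz F m)) ≤ Bsub F m := by
        rw [Subgroup.closure_le]
        rintro z (rfl | rfl)
        · exact HS_mem_Bsub hF s
        · exact hy
      rw [htop, top_le_iff] at hle
      exact Cfsg.Agent.Lib.Helper45.SzSol.Bsub_ne_top hF hle
    · intro htop
      have hle : Subgroup.closure ({HS hF s, y} : Set (Sz F m)) ≤ Bopp hF := by
        rw [Subgroup.closure_le]
        rintro z (rfl | rfl)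
        · exact HS_mem_Bopp hF s
        · exact hy
      rw [htop, top_le_iff] at hle
      exact Bopp_ne_top hF hle
    · intro htop
      have hle : Subgroup.closure ({HS hF s, wS hF * HS hF t} : Set (Sz F m)) ≤
          Subgroup.normalizer (HSub hF : Set (Sz F m)) := by
        rw [Cfsg.Agent.Lib.Helper45.SzSol.normalizer_HSub hF hm, Subgroup.closure_le]
        rintro z (rfl | rfl)
        · exact ⟨s, Or.inl rfl⟩
        · exact ⟨t, Or.inr rfl⟩
      rw [htop, top_le_iff] at hle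
      exact Cfsg.Agent.Lib.Helper45.SzSol.normalizer_tor_ne_top hF hm (isTor_HSub hF) hle

theorem card_Sol_HS (hm : 1 ≤ m) (hS : Struct F m) {s : Fˣ} (hs : s ≠ 1) :
    (Sol (HS hF s)).ncard = 2 * (2 ^ (2 * m + 1)) ^ 2 * (2 ^ (2 * m + 1) - 1) := by
  rw [Sol_HS_eq hF hm hS hs]
  have hB : (Bsub F m : Set (Sz F m)).ncard = (2 ^ (2 * m + 1)) ^ 2 * (2 ^ (2 * m + 1) - 1) :=
    card_stab_inf hm hF
  have hB' : (Bopp hF : Set (Sz F m)).ncard = (2 ^ (2 * m + 1)) ^ 2 * (2 ^ (2 * m + 1) - 1) := by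
    have h1 : (Bopp hF : Set (Sz F m)).ncard = Nat.card (Bopp hF) := rfl
    rw [h1, Bopp, Subgroup.card_map_of_injective (MulAut.conj (wS hF)).injective]
    exact card_stab_inf hm hF
  have hI : ((Bsub F m : Set (Sz F m)) ∩ (Bopp hF : Set (Sz F m))).ncard = 2 ^ (2 * m + 1) - 1 := by
    rw [Bsub_inter_Bopp hF hm]
    exact card_HSub hF
  have hU := Set.ncard_union_add_ncard_inter (Bsub F m : Set (Sz F m)) (Bopp hF : Set (Sz F m))
  rw [hB, hB', hI] at hU
  have hR : (Set.range (fun t : Fˣ => wS hF * HS hF t)).ncard = 2 ^ (2 * m + 1) - 1 := by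
    have hinj : Function.Injective (fun t : Fˣ => wS hF * HS hF t) := by
      intro t t' h
      have h' : wS hF * HS hF t = wS hF * HS hF t' := h
      exact torusHom_injective hF (mul_left_cancel h')
    rw [← Set.image_univ, Set.ncard_image_of_injective _ hinj, Set.ncard_univ, Nat.card_units,
      Nat.card_eq_fintype_card, hF]
  have hdisj : Disjoint ((Bsub F m : Set (Sz F m)) ∪ (Bopp hF : Set (Sz F m)))
      (Set.range (fun t : Fˣ => wS hF * HS hF t)) := by
    rw [Set.disjoint_left]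
    rintro y (hy | hy) ⟨t, rfl⟩
    · exact wS_mul_HS_not_mem_Bsub hF t hy
    · exact wS_mul_HS_not_mem_Bopp hF t hy
  rw [Set.ncard_union_eq hdisj (Set.toFinite _) (Set.toFinite _), hR]
  obtain ⟨N, hN⟩ : ∃ N, N = (2 ^ (2 * m + 1)) ^ 2 * (2 ^ (2 * m + 1) - 1) := ⟨_, rfl⟩
  obtain ⟨h, hh⟩ : ∃ h, h = 2 ^ (2 * m + 1) - 1 := ⟨_, rfl⟩
  have e : 2 * (2 ^ (2 * m + 1)) ^ 2 * (2 ^ (2 * m + 1) - 1) = 2 * N := by
    rw [hN]
    ring
  rw [e, ← hh]
  rw [← hN, ← hh] at hU
  omega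

theorem card_Sol_TH (hm : 1 ≤ m) (hS : Struct F m) {x : Sz F m} (hx : x ∈ TH F m) :
    (Sol x).ncard = 2 * (2 ^ (2 * m + 1)) ^ 2 * (2 ^ (2 * m + 1) - 1) := by
  obtain ⟨c, s, hs, rfl⟩ := Cfsg.Agent.Lib.Helper45.SzSol.TH_conj hF hm hx
  rw [Sol_conj_ncard]
  exact card_Sol_HS hF hm hS hs

end Cfsg.Agent.Lib.Helper8.Sz
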