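import Cfsg.Agent.Lib.Helper8.Sz28

set_option autoImplicit false

namespace Cfsg.Agent.Lib.Helper8.Sz

open Cfsg Matrix

variable {F : Type*} [Field F] [Fintype F] {m : ℕ}

variable (hF : Fintype.card F = 2 ^ (2 * m + 1))

include hF

/-! ### the fixed field of the twist -/

theorem th_fix {d : F} (h : th m d = d) : d = 0 ∨ d = 1 := by
  have h2 : d ^ 2 = d := by
    have := th_th hF d
    rw [h, h] at this
    exact this.symm
  have h3 : d * (d - 1) = 0 := by linear_combination h2
  rcases mul_eq_zero.1 h3 with h | h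
  · exact Or.inl h
  · exact Or.inr (by linear_combination h)

theorem th_add_ne_zero {d : F} (h0 : d ≠ 0) (h1 : d ≠ 1) : th m d + d ≠ 0 := by
  intro h
  have : th m d = d := by
    have := add_self hF d
    linear_combination h - this
  rcases th_fix hF this with h | h
  · exact h0 h
  · exact h1 h

/-- an element outside the prime field -/
theorem exists_ne_zero_one (hm : 1 ≤ m) : ∃ d : F, d ≠ 0 ∧ d ≠ 1 := by
  obtain ⟨s, hs⟩ := exists_ne_one hF hm
  refine ⟨(s : F), s.ne_zero, fun h => hs (Units.ext ?_)⟩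
  rw [h, Units.val_one]

/-! ### the hyperplane `KS` -/

/-- the image of `e ↦ θ(e) + e` -/
def KS (F : Type*) [Field F] (m : ℕ) : Set F := {v | ∃ e : F, v = th m e + e}

omit hF [Fintype F] in
theorem th_add_mem (e : F) : th m e + e ∈ KS F m := ⟨e, rfl⟩

omit hF [Fintype F] in
theorem KS_zero : (0 : F) ∈ KS F m := ⟨0, by rw [th_zero, add_zero]⟩

theorem KS_add {v w : F} (hv : v ∈ KS F m) (hw : w ∈ KS F m) : v + w ∈ KS F m := by
  obtain ⟨e, rfl⟩ := hv
  obtain ⟨e', rfl⟩ := hw
  exact ⟨e + e', by rw [th_add hF]; ring⟩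

theorem pow_two_pow_add (k : ℕ) (x : F) : ∃ y : F, x ^ (2 ^ k) + x = y ^ 2 + y := by
  induction k with
  | zero => exact ⟨0, by have := add_self hF x; simp only [pow_zero, pow_one]; linear_combination this⟩
  | succ k ih =>
    obtain ⟨y, hy⟩ := ih
    refine ⟨x ^ (2 ^ k) + y, ?_⟩
    have h2 := add_self hF (x ^ (2 ^ k))
    have h3 := add_self hF (x ^ (2 ^ k) * y)
    have e : x ^ (2 ^ (k + 1)) = (x ^ (2 ^ k)) ^ 2 := by rw [← pow_mul, pow_succ]
    rw [e]
    linear_combination hy - h2 - h3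

theorem KS_sub_sq {v : F} (hv : v ∈ KS F m) : ∃ y : F, v = y ^ 2 + y := by
  obtain ⟨e, rfl⟩ := hv
  obtain ⟨y, hy⟩ := pow_two_pow_add hF (m + 1) e
  exact ⟨y, hy⟩

theorem sq_add_ne_one (y : F) : y ^ 2 + y ≠ 1 := by
  intro h
  have h2 := add_self hF (1 : F)
  have hy0 : y ≠ 0 := by
    rintro rfl
    norm_num at h
  have h3 : y ^ 3 = 1 := by
    have h2y := add_self hF y
    linear_combination (y - 1) * h + h2y - h2
  have hq : y ^ (Fintype.card F - 1) = 1 := FiniteField.pow_card_sub_one_eq_one y hy0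
  have hmod := q_mod_three m
  obtain ⟨j, hj⟩ : ∃ j, Fintype.card F - 1 = 3 * j + 1 := by
    refine ⟨(2 ^ (2 * m + 1)) / 3, ?_⟩
    rw [hF]
    omega
  rw [hj, pow_add, pow_mul, h3, one_pow, one_mul, pow_one] at hq
  rw [hq] at h
  have : (1 : F) = 0 := by linear_combination h
  exact one_ne_zero this

theorem one_notMem_KS : (1 : F) ∉ KS F m := by
  intro h
  obtain ⟨y, hy⟩ := KS_sub_sq hF h
  exact sq_add_ne_one hF y hy.symm

/-- the additive map `e ↦ θ(e) + e` -/
def thAdd : F →+ F where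
  toFun e := th m e + e
  map_zero' := by rw [th_zero, add_zero]
  map_add' x y := by rw [th_add hF]; ring

theorem thAdd_apply (e : F) : thAdd hF e = th m e + e := rfl

theorem KS_eq_range : KS F m = ((thAdd hF).range : Set F) := by
  ext v
  constructor
  · rintro ⟨e, rfl⟩
    exact ⟨e, rfl⟩
  · rintro ⟨e, rfl⟩
    exact ⟨e, rfl⟩

theorem card_ker_thAdd : Nat.card (thAdd hF).ker = 2 := by
  rw [Nat.card_eq_two_iff]
  have h0 : (0 : F) ∈ (thAdd hF).ker := (thAdd hF).ker.zero_mem
  have h1 : (1 : F) ∈ (thAdd hF).ker := by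
    rw [AddMonoidHom.mem_ker, thAdd_apply, th_one]
    exact add_self hF 1
  refine ⟨⟨0, h0⟩, ⟨1, h1⟩, ?_, ?_⟩
  · intro h
    exact zero_ne_one (congrArg Subtype.val h)
  · ext ⟨x, hx⟩
    simp only [Set.mem_insert_iff, Set.mem_singleton_iff, Set.mem_univ, iff_true, Subtype.mk.injEq]
    rw [AddMonoidHom.mem_ker, thAdd_apply] at hx
    have : th m x = x := by
      have := add_self hF x
      linear_combination hx - this
    exact th_fix hF this

theorem index_range_thAdd : (thAdd hF).range.index = 2 := by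
  have h1 := AddSubgroup.card_mul_index (thAdd hF).ker
  have h2 := AddSubgroup.card_mul_index (thAdd hF).range
  rw [AddSubgroup.index_ker, card_ker_thAdd] at h1
  rw [← h1] at h2
  have hpos : 0 < Nat.card (thAdd hF).range := Nat.card_pos
  nlinarith

theorem KS_add_iff (v w : F) : v + w ∈ KS F m ↔ (v ∈ KS F m ↔ w ∈ KS F m) := by
  rw [KS_eq_range hF]
  exact AddSubgroup.add_mem_iff_of_index_two (index_range_thAdd hF)

theorem KS_of_notMem {v w : F} (hv : v ∉ KS F m) (hw : w ∉ KS F m) : v + w ∈ KS F m :=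
  (KS_add_iff hF v w).2 ⟨fun h => absurd h hv, fun h => absurd h hw⟩

theorem sq_add_mem (x : F) : x ^ 2 + x ∈ KS F m := by
  by_contra h
  have h1 := KS_of_notMem hF (one_notMem_KS hF) h
  obtain ⟨y, hy⟩ := KS_sub_sq hF h1
  apply sq_add_ne_one hF (x + y)
  have h2 := add_self hF (x * y)
  have h3 := add_self hF (x ^ 2 + x)
  linear_combination -hy + h2 + h3

theorem KS_iff (v : F) : v ∈ KS F m ↔ ∃ y : F, v = y ^ 2 + y :=
  ⟨KS_sub_sq hF, by rintro ⟨y, rfl⟩; exact sq_add_mem hF y⟩

/-- membership is unchanged when adding an element of `KS` -/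
theorem KS_congr {v w : F} (h : v + w ∈ KS F m) : v ∈ KS F m ↔ w ∈ KS F m :=
  (KS_add_iff hF v w).1 h

theorem KS_add_one {v : F} (hv : v ∉ KS F m) : v + 1 ∈ KS F m :=
  KS_of_notMem hF hv (one_notMem_KS hF)

/-! ### explicit roots -/

theorem th_th_mul (v : F) : th m (th m v * v) = v * (th m v * v) := by
  rw [th_mul, th_th hF]
  ring

/-- `s ↦ θ(s) s ^ 2` is onto the non-zero elements -/
theorem exists_th_mul_sq {v : F} (hv : v ≠ 0) : ∃ s : Fˣ, th m (s : F) * (s : F) ^ 2 = v := by
  obtain ⟨w, hw⟩ := exists_th hF v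
  have hw0 : w ≠ 0 := by
    rintro rfl
    rw [th_zero] at hw
    exact hv hw.symm
  have hs0 : v / w ≠ 0 := div_ne_zero hv hw0
  refine ⟨Units.mk0 (v / w) hs0, ?_⟩
  rw [Units.val_mk0, th_div, hw, ← hw, th_th hF]
  field_simp

theorem th_mul_self_eq_one {x : F} (h : th m x * x = 1) : x = 1 := by
  have e2 : x ^ 2 * th m x = 1 := by
    have := congrArg (th m) h
    rw [th_mul, th_th hF, th_one] at this
    exact this
  have : x * (th m x * x) = 1 := by linear_combination e2
  rw [h, mul_one] at this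
  exact this

/-! ### existence lemmas -/

/-- a twisted quadratic function is not `KS`-valued -/
theorem exists_notMem_KS (hm : 1 ≤ m) (b₁ b₂ : F) (hb : b₁ ≠ 0) :
    ∃ η : F, η ≠ 0 ∧ b₁ * η * th m η + b₂ * η ∉ KS F m := by
  by_contra hcon
  push_neg at hcon
  have hQ : ∀ η : F, b₁ * η * th m η + b₂ * η ∈ KS F m := by
    intro η
    by_cases h : η = 0
    · rw [h, th_zero]
      have : b₁ * 0 * (0 : F) + b₂ * 0 = 0 := by ring
      rw [this]
      exact KS_zero
    · exact hcon η h
  -- the polar form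
  have hB : ∀ x y : F, b₁ * (x * th m y + y * th m x) ∈ KS F m := by
    intro x y
    have h1 := KS_add hF (KS_add hF (hQ (x + y)) (hQ x)) (hQ y)
    have e : b₁ * (x + y) * th m (x + y) + b₂ * (x + y) + (b₁ * x * th m x + b₂ * x) +
        (b₁ * y * th m y + b₂ * y) = b₁ * (x * th m y + y * th m x) := by
      rw [th_add hF]
      have h2 := add_self hF (b₁ * x * th m x + b₂ * x)
      have h3 := add_self hF (b₁ * y * th m y + b₂ * y)
      linear_combination h2 + h3
    rwa [e] at h1
  have hC : ∀ x y : F, th m y * (b₁ * x + th m b₁ * x ^ 2) ∈ KS F m := by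
    intro x y
    have h1 := KS_add hF (hB x y) (th_add_mem (m := m) (b₁ * y * th m x))
    have e : b₁ * (x * th m y + y * th m x) + (th m (b₁ * y * th m x) + b₁ * y * th m x) =
        th m y * (b₁ * x + th m b₁ * x ^ 2) := by
      rw [th_mul, th_mul, th_th hF]
      have h2 := add_self hF (b₁ * y * th m x)
      linear_combination h2
    rwa [e] at h1
  obtain ⟨c, hc0, hc1⟩ := exists_ne_zero_one hF hm
  have htb : th m b₁ ≠ 0 := th_ne_zero hb
  set x : F := c * b₁ / th m b₁ with hx
  have hv : b₁ * x + th m b₁ * x ^ 2 ≠ 0 := by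
    have e : b₁ * x + th m b₁ * x ^ 2 = b₁ ^ 2 / th m b₁ * (c * (1 + c)) := by
      rw [hx]
      field_simp
    rw [e]
    have hc1' : 1 + c ≠ 0 := by
      intro h
      apply hc1
      have := add_self hF (1 : F)
      linear_combination h - this
    exact mul_ne_zero (div_ne_zero (pow_ne_zero 2 hb) htb) (mul_ne_zero hc0 hc1')
  obtain ⟨y, hy⟩ := exists_th hF (b₁ * x + th m b₁ * x ^ 2)⁻¹
  have := hC x y
  rw [hy, inv_mul_cancel₀ hv] at this
  exact one_notMem_KS hF this

/-- `KS` is not stable under multiplication by an element outside the prime field -/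
theorem exists_mul_notMem_KS {z : F} (hz0 : z ≠ 0) (hz1 : z ≠ 1) :
    ∃ k ∈ KS F m, z * k ∉ KS F m := by
  obtain ⟨r, hr⟩ := exists_sq hF z
  have hrz : r + z ≠ 0 := by
    intro h
    have e : r = z := by
      have := add_self hF z
      linear_combination h - this
    rw [e] at hr
    have h3 : z * (z - 1) = 0 := by linear_combination hr
    rcases mul_eq_zero.1 h3 with h | h
    · exact hz0 h
    · exact hz1 (by linear_combination h)
  set x : F := (r + z)⁻¹ with hx
  refine ⟨x ^ 2 + x, sq_add_mem hF x, ?_⟩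
  intro hmem
  have h1 := KS_add hF hmem (sq_add_mem hF (r * x))
  have e : z * (x ^ 2 + x) + ((r * x) ^ 2 + r * x) = 1 := by
    have hx1 : (r + z) * x = 1 := by rw [hx]; exact mul_inv_cancel₀ hrz
    have h2 := add_self hF (z * x ^ 2)
    linear_combination hx1 + h2 + x ^ 2 * hr
  rw [e] at h1
  exact one_notMem_KS hF h1

/-- an affine twisted function does not vanish outside the prime field -/
theorem exists_psi_ne_zero (hm : 1 ≤ m) (a : F) :
    ∃ d : F, th m d + d ≠ 0 ∧
      1 + th m a * (th m d) ^ 2 + th m a * th m d + a * th m d + a * d ≠ 0 := by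
  obtain ⟨d, hd0, hd1⟩ := exists_ne_zero_one hF hm
  have hd2_0 : d ^ 2 ≠ 0 := pow_ne_zero 2 hd0
  have hd2_1 : d ^ 2 ≠ 1 := fun h => hd1 (sq_eq_one hF h)
  have hd3_0 : d ^ 2 + d ≠ 0 := by
    intro h
    have h3 : d * (d - 1) = 0 := by
      have := add_self hF d
      linear_combination h - this
    rcases mul_eq_zero.1 h3 with h | h
    · exact hd0 h
    · exact hd1 (by linear_combination h)
  have hd3_1 : d ^ 2 + d ≠ 1 := sq_add_ne_one hF d
  by_contra hcon
  push_neg at hcon
  have h1 := hcon d (th_add_ne_zero hF hd0 hd1)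
  have h2 := hcon (d ^ 2) (th_add_ne_zero hF hd2_0 hd2_1)
  have h3 := hcon (d ^ 2 + d) (th_add_ne_zero hF hd3_0 hd3_1)
  rw [th_add hF] at h3
  have h5 := add_self hF (th m a * th m d * th m (d ^ 2))
  have : (1 : F) = 0 := by linear_combination h1 + h2 - h3 + h5
  exact one_ne_zero this

end Cfsg.Agent.Lib.Helper8.Sz
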