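import Cfsg.Agent.Lib.Helper8.Sz38

set_option autoImplicit false

namespace Cfsg.Agent.Lib.Helper8.Sz

open Cfsg Matrix

variable {F : Type*} [Field F] [Fintype F] {m : ℕ}

variable (hF : Fintype.card F = 2 ^ (2 * m + 1))

include hF

theorem conj_HS_TS (σ : Fˣ) (a b : F) :
    HS hF σ * TS hF a b * (HS hF σ)⁻¹ =
      TS hF (th m (σ : F) * a) (th m (σ : F) * (σ : F) ^ 2 * b) := by
  rw [HS_mul_TS, mul_assoc, mul_inv_cancel, mul_one]

/-- scaling a central translation to the standard one -/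
theorem exists_scale {b : F} (hb : b ≠ 0) :
    ∃ σ : Fˣ, HS hF σ * TS hF 0 b * (HS hF σ)⁻¹ = TS hF 0 1 := by
  obtain ⟨σ, hσ⟩ := exists_th_mul_sq hF (inv_ne_zero hb)
  refine ⟨σ, ?_⟩
  rw [conj_HS_TS, mul_zero, hσ, inv_mul_cancel₀ hb]

/-- the normal form of a pair of involutions with a product of odd order -/
theorem pair_normal_form (hm : 1 ≤ m) {s t : Sz F m} (hs1 : s ≠ 1) (hss : s * s = 1)
    (ht1 : t ≠ 1) (htt : t * t = 1) (hst : (s * t) ^ 4 ≠ 1) :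
    ∃ (u : Sz F m) (τ : F), u * s * u⁻¹ = TS hF 0 1 ∧ u * t * u⁻¹ = US hF 0 τ := by
  obtain ⟨c, b, hb, rfl⟩ := involution_conj hF hm hs1 hss
  obtain ⟨σ, hσ⟩ := exists_scale hF hb
  obtain ⟨u₁, hu₁⟩ : ∃ u₁ : Sz F m, u₁ = HS hF σ * c⁻¹ := ⟨_, rfl⟩
  have hs' : u₁ * (c * TS hF 0 b * c⁻¹) * u₁⁻¹ = TS hF 0 1 := by
    rw [← hσ, hu₁]
    group
  obtain ⟨t₁, ht₁⟩ : ∃ t₁ : Sz F m, t₁ = u₁ * t * u₁⁻¹ := ⟨_, rfl⟩
  have ht₁1 : t₁ ≠ 1 := by
    rw [ht₁]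
    exact fun h => ht1 (eq_one_of_conj_eq_one h)
  have ht₁t : t₁ * t₁ = 1 := by rw [ht₁, conj_mul_self, htt, mul_one, mul_inv_cancel]
  have hst₁ : (TS hF 0 1 * t₁) ^ 4 ≠ 1 := by
    intro h
    apply hst
    have e : TS hF 0 1 * t₁ = u₁ * (c * TS hF 0 b * c⁻¹ * t) * u₁⁻¹ := by
      rw [← hs', ht₁]
      group
    rw [e, conj_pow] at h
    exact eq_one_of_conj_eq_one h
  obtain ⟨k, b', -, hk⟩ := involution_conj hF hm ht₁1 ht₁t
  have hP : k.1 • Pinf F ∈ suzukiOvoid F m := smul_mem_of_mem_Sz k.2 Pinf_mem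
  rcases (mem_ovoid_iff _).1 hP with hP | ⟨x, y, hP⟩
  · exfalso
    have hkB : k⁻¹ ∈ Bsub F m := (Bsub F m).inv_mem hP
    obtain ⟨b'', hb''⟩ := center_conj hF hm hkB b'
    rw [inv_inv] at hb''
    apply hst₁
    rw [hk, hb'', TS_mul]
    exact TS_pow_four hF _ _
  · have hv : (wS hF * ((TS hF x y)⁻¹ * k)) ∈ Bsub F m := by
      show (wg F * ((Tg m x y)⁻¹ * k.1)) • Pinf F = Pinf F
      rw [mul_smul, mul_smul, hP, inv_smul_eq_iff.2 (Tg_smul_zero hF x y).symm, wg_smul_zero]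
    have hv' : (wS hF * ((TS hF x y)⁻¹ * k))⁻¹ ∈ Bsub F m := (Bsub F m).inv_mem hv
    obtain ⟨b'', hb''⟩ := center_conj hF hm hv' b'
    rw [inv_inv] at hb''
    refine ⟨(TS hF x y)⁻¹ * u₁, b'', ?_, ?_⟩
    · have e : (TS hF x y)⁻¹ * u₁ * (c * TS hF 0 b * c⁻¹) * ((TS hF x y)⁻¹ * u₁)⁻¹ =
          (TS hF x y)⁻¹ * (u₁ * (c * TS hF 0 b * c⁻¹) * u₁⁻¹) * TS hF x y := by group
      rw [e, hs', mul_assoc, TS_center_comm, ← mul_assoc, inv_mul_cancel, one_mul]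
    · have e : (TS hF x y)⁻¹ * u₁ * t * ((TS hF x y)⁻¹ * u₁)⁻¹ =
          (TS hF x y)⁻¹ * t₁ * TS hF x y := by
        rw [ht₁]
        group
      rw [e, hk, US, ← hb'']
      have e2 : wS hF * (wS hF * ((TS hF x y)⁻¹ * k) * TS hF 0 b' *
          (wS hF * ((TS hF x y)⁻¹ * k))⁻¹) * wS hF =
          (wS hF * wS hF) * ((TS hF x y)⁻¹ * k) * TS hF 0 b' * ((TS hF x y)⁻¹ * k)⁻¹ *
            ((wS hF)⁻¹ * wS hF) := by group
      rw [e2, wS_mul_wS, one_mul, inv_mul_cancel, mul_one]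
      group

/-- elements which are not `2`-elements have a normal form -/
theorem exists_conj_NS (hm : 1 ≤ m) {g : Sz F m} (hg : g ^ 4 ≠ 1) :
    ∃ (u : Sz F m) (τ : F), u * g * u⁻¹ = NS hF τ := by
  obtain ⟨s, hs1, hss, hsg⟩ := exists_inverting hF hm hg
  have hsinv : s⁻¹ = s := inv_eq_of_mul_eq_one_right hss
  have htt : (s * g) * (s * g) = 1 := by
    have e : s * g * (s * g) = (s * g * s⁻¹) * (s * s) * g := by group
    rw [e, hsg, hss, mul_one, inv_mul_cancel]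
  have ht1 : s * g ≠ 1 := by
    intro h
    have e : g = s := by
      rw [← hsinv]
      exact eq_inv_of_mul_eq_one_right h
    apply hg
    rw [e]
    have e4 : s ^ 4 = (s * s) * (s * s) := by
      simp only [pow_succ, pow_zero, one_mul, mul_assoc]
    rw [e4, hss, mul_one]
  have hst : (s * (s * g)) ^ 4 ≠ 1 := by
    rw [← mul_assoc, hss, one_mul]
    exact hg
  obtain ⟨u, τ, h1, h2⟩ := pair_normal_form hF hm hs1 hss ht1 htt hst
  refine ⟨u, τ, ?_⟩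
  have e : u * g * u⁻¹ = (u * s * u⁻¹) * (u * (s * g) * u⁻¹) := by
    have e' : (u * s * u⁻¹) * (u * (s * g) * u⁻¹) = u * ((s * s) * g) * u⁻¹ := by group
    rw [e', hss, one_mul]
  rw [e, h1, h2, NS]

/-- the trace of a `2`-element vanishes -/
theorem trS_eq_zero_of_pow_four (hm : 1 ≤ m) {g : Sz F m} (h4 : g ^ 4 = 1) : trS g = 0 := by
  by_cases h1 : g = 1
  · rw [h1, ← TS_zero hF]
    exact trS_TS hF 0 0
  · have hT : g ∈ T2 F m := ⟨h1, h4⟩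
    rw [T2_eq hF hm] at hT
    obtain ⟨c, a, ha, -, rfl⟩ := (mem_conjSet_iff _ _).1 hT
    obtain ⟨a₁, b₁, rfl⟩ := ha
    rw [trS_conj]
    exact trS_TS hF a₁ b₁

/-- an element with non-zero trace is determined up to conjugacy by its trace -/
theorem conj_NS_of_trS (hm : 1 ≤ m) {g : Sz F m} {α : F} (hα : α ≠ 0) (h : trS g = th m α) :
    ∃ u : Sz F m, u * g * u⁻¹ = NS hF α := by
  have hg : g ^ 4 ≠ 1 := by
    intro h4
    rw [trS_eq_zero_of_pow_four hF hm h4] at h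
    exact th_ne_zero hα h.symm
  obtain ⟨u, τ, hu⟩ := exists_conj_NS hF hm hg
  have h1 : trS g = th m τ := by rw [← trS_conj u g, hu, trS_NS]
  have e : τ = α := th_inj hF (h1.symm.trans h)
  exact ⟨u, by rw [hu, e]⟩

/-- involutions are conjugate to the standard one -/
theorem exists_conj_TS_center (hm : 1 ≤ m) {g : Sz F m} (h1 : g ≠ 1) (h2 : g * g = 1) :
    ∃ u : Sz F m, u * g * u⁻¹ = TS hF 0 1 := by
  obtain ⟨c, b, hb, rfl⟩ := involution_conj hF hm h1 h2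
  obtain ⟨σ, hσ⟩ := exists_scale hF hb
  refine ⟨HS hF σ * c⁻¹, ?_⟩
  rw [← hσ]
  group

/-- elements of order four are conjugate to a standard one -/
theorem exists_conj_TS_one (hm : 1 ≤ m) {g : Sz F m} (h4 : g ^ 4 = 1) (h2 : g * g ≠ 1) :
    ∃ (u : Sz F m) (t : F), u * g * u⁻¹ = TS hF 1 t := by
  have h1 : g ≠ 1 := by
    rintro rfl
    exact h2 (mul_one 1)
  have hT : g ∈ T2 F m := ⟨h1, h4⟩
  rw [T2_eq hF hm] at hT
  obtain ⟨c, a, ha, -, rfl⟩ := (mem_conjSet_iff _ _).1 hT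
  obtain ⟨a₁, b₁, rfl⟩ := ha
  have ha0 : a₁ ≠ 0 := by
    rintro rfl
    apply h2
    rw [conj_mul_self, TS_center_sq, mul_one, mul_inv_cancel]
  obtain ⟨y, hy⟩ := exists_th hF a₁⁻¹
  have hy0 : y ≠ 0 := by
    rintro rfl
    rw [th_zero] at hy
    exact inv_ne_zero ha0 hy.symm
  refine ⟨HS hF (Units.mk0 y hy0) * c⁻¹, th m y * y ^ 2 * b₁, ?_⟩
  have e : HS hF (Units.mk0 y hy0) * c⁻¹ * (c * TS hF a₁ b₁ * c⁻¹) *
      (HS hF (Units.mk0 y hy0) * c⁻¹)⁻¹ =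
      HS hF (Units.mk0 y hy0) * TS hF a₁ b₁ * (HS hF (Units.mk0 y hy0))⁻¹ := by group
  rw [e, conj_HS_TS, Units.val_mk0, hy, inv_mul_cancel₀ ha0]

theorem conj_TS_one_add (t e : F) :
    TS hF e 0 * TS hF 1 t * (TS hF e 0)⁻¹ = TS hF 1 (t + (th m e + e)) := by
  have := charP_two hF
  rw [TS_inv, TS_mul, TS_mul, th_add hF, th_one]
  congr 1 <;> grind

end Cfsg.Agent.Lib.Helper8.Sz
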