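import Cfsg.Agent.Lib.Helper8.Sz39

set_option autoImplicit false

namespace Cfsg.Agent.Lib.Helper8.Sz

open Cfsg Matrix

theorem prod_of_isConj {G : Type*} [Group G] {x x₁ x₂ g : G} (h1 : IsConj x x₁)
    (h2 : IsConj x x₂) (h3 : IsConj (x₁ * x₂) g) :
    ∃ u v : G, g = u * x * u⁻¹ * (v * x * v⁻¹) := by
  obtain ⟨a, rfl⟩ := isConj_iff.1 h1
  obtain ⟨b, rfl⟩ := isConj_iff.1 h2
  obtain ⟨c, rfl⟩ := isConj_iff.1 h3
  exact ⟨c * a, c * b, by group⟩

theorem ring_B2 {R : Type*} [Field R] [CharP R 2] (A a B κ K τ T η E : R) (h1 : κ * η = 1)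
    (h2 : K * E = 1) (h3 : B * A = a) (hT : T + τ = η * E + B * η + 1) :
    A * (κ * (κ * K * τ + 1) + K * κ ^ 2 + (K * κ ^ 2 * T + 1)) + a * κ * K = A := by
  grind

theorem ring_5 {R : Type*} [Field R] [CharP R 2] (κ K τ T ψ η B E : R)
    (hφ : 1 + τ + T = η + η * ψ) (hψ : ψ ^ 2 = B * E) (h1 : κ * η = 1) (h2 : K * E = 1) :
    (κ * (κ * K * τ) + K * κ ^ 2 + K * κ ^ 2 * T) * (τ + 1 + T) + K + κ * K * τ + τ * κ * K = B := by
  grind

variable {F : Type*} [Field F] [Fintype F] {m : ℕ}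

variable (hF : Fintype.card F = 2 ^ (2 * m + 1))

include hF

theorem US_ne_one {e : F} (he : e ≠ 0) : US hF 0 e ≠ 1 := by
  intro h
  have h1 : TS hF 0 e = 1 := by
    calc TS hF 0 e = wS hF * wS hF * TS hF 0 e * (wS hF * wS hF) := by
          rw [wS_mul_wS, one_mul, mul_one]
      _ = wS hF * (wS hF * TS hF 0 e * wS hF) * wS hF := by group
      _ = 1 := by
          have h' : wS hF * TS hF 0 e * wS hF = 1 := h
          rw [h', mul_one, wS_mul_wS]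
  exact TS_ne_one' hF (a := 0) (b := e) (fun h => he h.2) h1

theorem isConj_US (c d : F) : IsConj (TS hF c d) (US hF c d) :=
  isConj_iff.2 ⟨wS hF, by rw [wS_inv, US]⟩

/-- the class of an element of order four -/
theorem isConj_TS_one {κ τ t : F} (hκ : κ ≠ 0) (h : τ + t ∈ KS F m) :
    IsConj (TS hF κ (κ * th m κ * τ)) (TS hF 1 t) := by
  obtain ⟨e, he⟩ := h
  obtain ⟨y, hy⟩ := exists_th hF κ
  have hy0 : y ≠ 0 := by
    rintro rfl
    rw [th_zero] at hy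
    exact hκ hy.symm
  have h1 : IsConj (TS hF 1 t) (TS hF 1 τ) := by
    refine isConj_iff.2 ⟨TS hF e 0, ?_⟩
    rw [conj_TS_one_add, ← he]
    congr 1
    have := add_self hF t
    linear_combination this
  have h2 : IsConj (TS hF 1 τ) (TS hF κ (κ * th m κ * τ)) := by
    refine isConj_iff.2 ⟨HS hF (Units.mk0 y hy0), ?_⟩
    rw [conj_HS_TS, Units.val_mk0, hy, mul_one]
    congr 2
    rw [← hy, th_th hF]
  exact (h1.trans h2).symm

/-! ### the six cases -/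

theorem case_NS_NS (hm : 1 ≤ m) {α β : F} (hα : α ≠ 0) (hβ : β ≠ 0) :
    ∃ x₁ x₂ : Sz F m, IsConj (NS hF α) x₁ ∧ IsConj (NS hF α) x₂ ∧ x₁ * x₂ = NS hF β := by
  obtain ⟨d, hd⟩ := exists_sq hF β⁻¹
  refine ⟨TS hF 0 d * NS hF α * (TS hF 0 d)⁻¹,
    TS hF 0 d * US hF 0 α * (TS hF 0 d)⁻¹ * US hF 0 β, isConj_iff.2 ⟨_, rfl⟩, ?_, ?_⟩
  · have htr : trS (TS hF 0 d * US hF 0 α * (TS hF 0 d)⁻¹ * US hF 0 β) = th m α := by
      rw [trS_K1, ← th_pow, hd, ← th_mul, mul_assoc, mul_inv_cancel₀ hβ, mul_one]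
    obtain ⟨u, hu⟩ := conj_NS_of_trS hF hm hα htr
    exact (isConj_iff.2 ⟨u, hu⟩).symm
  · have hs : TS hF 0 d * US hF 0 α * (TS hF 0 d)⁻¹ * (TS hF 0 d * US hF 0 α * (TS hF 0 d)⁻¹) = 1 := by
      rw [conj_mul_self, US_mul_self, mul_one, mul_inv_cancel]
    have hx1 : TS hF 0 d * NS hF α * (TS hF 0 d)⁻¹ =
        TS hF 0 1 * (TS hF 0 d * US hF 0 α * (TS hF 0 d)⁻¹) := by
      rw [NS, ← mul_assoc (TS hF 0 d), TS_center_comm hF d 0 1]
      simp only [mul_assoc]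
    rw [hx1, NS, mul_assoc (TS hF 0 1), ← mul_assoc (TS hF 0 d * US hF 0 α * (TS hF 0 d)⁻¹), hs,
      one_mul]

theorem case_NS_inv (hm : 1 ≤ m) {a : F} (ha : a ≠ 0) :
    ∃ x₁ x₂ : Sz F m, IsConj (NS hF a) x₁ ∧ IsConj (NS hF a) x₂ ∧
      IsConj (x₁ * x₂) (TS hF 0 1) := by
  have := charP_two hF
  obtain ⟨d, hd1, hd2⟩ := exists_psi_ne_zero hF hm a
  have hta : th m a ≠ 0 := th_ne_zero ha
  obtain ⟨v, hv⟩ : ∃ v : F, v = th m a * (th m d + d) /
      (1 + th m a * (th m d) ^ 2 + th m a * th m d + a * th m d + a * d) := ⟨_, rfl⟩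
  have hv0 : v ≠ 0 := by
    rw [hv]
    exact div_ne_zero (mul_ne_zero hta hd1) hd2
  have hvP : v * (1 + th m a * (th m d) ^ 2 + th m a * th m d + a * th m d + a * d) =
      th m a * (th m d + d) := by
    rw [hv]
    exact div_mul_cancel₀ _ hd2
  obtain ⟨e, he⟩ : ∃ e : F, e = th m v * v := ⟨_, rfl⟩
  have he0 : e ≠ 0 := by
    rw [he]
    exact mul_ne_zero (th_ne_zero hv0) hv0
  have hte : th m e = v * e := by rw [he, th_th_mul hF]
  refine ⟨(NS hF a)⁻¹, NS hF a * (TS hF 0 d * US hF 0 e * (TS hF 0 d)⁻¹),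
    isConj_iff.2 ⟨TS hF 0 1, (NS_inv hF a).symm⟩, ?_, ?_⟩
  · have htr : trS (NS hF a * (TS hF 0 d * US hF 0 e * (TS hF 0 d)⁻¹)) = th m a := by
      rw [trS_B1, hte]
      have h2 := add_self hF (e * th m a * (th m d + d))
      linear_combination e * hvP + h2
    obtain ⟨u, hu⟩ := conj_NS_of_trS hF hm ha htr
    exact (isConj_iff.2 ⟨u, hu⟩).symm
  · rw [inv_mul_cancel_left]
    have h1 : TS hF 0 d * US hF 0 e * (TS hF 0 d)⁻¹ ≠ 1 :=
      fun h => US_ne_one hF he0 (eq_one_of_conj_eq_one h)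
    have h2 : TS hF 0 d * US hF 0 e * (TS hF 0 d)⁻¹ * (TS hF 0 d * US hF 0 e * (TS hF 0 d)⁻¹) = 1 := by
      rw [conj_mul_self, US_mul_self, mul_one, mul_inv_cancel]
    obtain ⟨u, hu⟩ := exists_conj_TS_center hF hm h1 h2
    exact isConj_iff.2 ⟨u, hu⟩

theorem case_NS_four (hm : 1 ≤ m) {a : F} (ha : a ≠ 0) (t : F) :
    ∃ x₁ x₂ : Sz F m, IsConj (NS hF a) x₁ ∧ IsConj (NS hF a) x₂ ∧
      IsConj (x₁ * x₂) (TS hF 1 t) := by
  have := charP_two hF
  have hta : th m a ≠ 0 := th_ne_zero ha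
  obtain ⟨η, hη0, hη⟩ := exists_notMem_KS hF hm 1 (a / th m a) one_ne_zero
  -- the translation parameter
  obtain ⟨τ₀, hτ₀⟩ := KS_add_one hF hη
  obtain ⟨τ, hτ1, hτ2⟩ : ∃ τ : F, th m τ + τ = 1 * η * th m η + a / th m a * η + 1 ∧
      τ + t ∈ KS F m := by
    by_cases h : τ₀ + t ∈ KS F m
    · exact ⟨τ₀, hτ₀.symm, h⟩
    · refine ⟨τ₀ + 1, ?_, ?_⟩
      · rw [th_add hF, th_one, hτ₀]
        grind
      · have h' := KS_add_one hF h
        have e : τ₀ + 1 + t = τ₀ + t + 1 := by ring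
        rw [e]
        exact h'
  have hκ0 : η⁻¹ ≠ 0 := inv_ne_zero hη0
  refine ⟨(NS hF a)⁻¹, NS hF a * TS hF η⁻¹ (η⁻¹ * th m η⁻¹ * τ),
    isConj_iff.2 ⟨TS hF 0 1, (NS_inv hF a).symm⟩, ?_, ?_⟩
  · have htr : trS (NS hF a * TS hF η⁻¹ (η⁻¹ * th m η⁻¹ * τ)) = th m a := by
      rw [trS_mul_comm, NS, ← mul_assoc, TS_mul, trS_TS_US]
      have h1 : η⁻¹ * η = 1 := inv_mul_cancel₀ hη0
      have h2 : th m η⁻¹ * th m η = 1 := by rw [← th_mul, h1, th_one]
      have h3 : a / th m a * th m a = a := div_mul_cancel₀ a hta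
      have h4 : th m (η⁻¹ * th m η⁻¹ * τ + 1) = th m η⁻¹ * η⁻¹ ^ 2 * th m τ + 1 := by
        rw [th_add hF, th_one, th_mul, th_mul, th_th hF]
      have key := ring_B2 (th m a) a (a / th m a) η⁻¹ (th m η⁻¹) τ (th m τ) η (th m η) h1 h2 h3
        (by rw [hτ1]; ring)
      simp only [add_zero, mul_zero, zero_mul, zero_add, th_zero, fS]
      rw [h4]
      linear_combination key
    obtain ⟨u, hu⟩ := conj_NS_of_trS hF hm ha htr
    exact (isConj_iff.2 ⟨u, hu⟩).symm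
  · rw [inv_mul_cancel_left]
    exact isConj_TS_one hF hκ0 hτ2

theorem case_four_NS (hm : 1 ≤ m) (t : F) {β : F} (hβ : β ≠ 0) :
    ∃ x₁ x₂ : Sz F m, IsConj (TS hF 1 t) x₁ ∧ IsConj (TS hF 1 t) x₂ ∧
      IsConj (x₁ * x₂) (NS hF β) := by
  have := charP_two hF
  obtain ⟨η, hη0, hη⟩ := exists_notMem_KS hF hm β 1 hβ
  obtain ⟨ψ, hψ⟩ := exists_sq hF (th m (β * η))
  have h1 : η * ψ + β * η * th m η ∈ KS F m := by
    have e2 : th m ((η * ψ) ^ 2) = (β * η * th m η) ^ 2 := by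
      rw [mul_pow, hψ, th_mul, th_pow, th_th hF]
      ring
    have e : η * ψ + β * η * th m η = ((η * ψ) ^ 2 + η * ψ) +
        (th m ((η * ψ) ^ 2) + (η * ψ) ^ 2) + ((β * η * th m η) ^ 2 + β * η * th m η) := by
      rw [e2]
      grind
    rw [e]
    exact KS_add hF (KS_add hF (sq_add_mem hF _) (th_add_mem _)) (sq_add_mem hF _)
  have h2 : η + η * ψ ∉ KS F m := by
    intro hmem
    apply hη
    have e : β * η * th m η + 1 * η = (η + η * ψ) + (η * ψ + β * η * th m η) := by grind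
    rw [e]
    exact KS_add hF hmem h1
  have h3 : η + η * ψ + 1 + (th m t + t) ∈ KS F m :=
    KS_add hF (KS_add_one hF h2) (th_add_mem t)
  obtain ⟨e, he⟩ := KS_sub_sq hF h3
  obtain ⟨τ, hτ⟩ : ∃ τ : F, τ = t + (th m e + e) := ⟨_, rfl⟩
  have hκ0 : η⁻¹ ≠ 0 := inv_ne_zero hη0
  have hτK : τ + t ∈ KS F m := by
    have e' : τ + t = th m e + e := by
      rw [hτ]
      grind
    rw [e']
    exact th_add_mem e
  refine ⟨TS hF 1 τ, US hF η⁻¹ (η⁻¹ * th m η⁻¹ * τ), ?_, ?_, ?_⟩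
  · exact isConj_iff.2 ⟨TS hF e 0, by rw [conj_TS_one_add, hτ]⟩
  · exact ((isConj_TS_one hF hκ0 hτK).symm).trans (isConj_US hF _ _)
  · have htr : trS (TS hF 1 τ * US hF η⁻¹ (η⁻¹ * th m η⁻¹ * τ)) = th m β := by
      rw [trS_TS_US]
      have hφ : 1 + τ + th m τ = η + η * ψ := by
        rw [hτ, th_add hF, th_add hF, th_th hF]
        grind
      have k1 : η⁻¹ * η = 1 := inv_mul_cancel₀ hη0
      have k2 : th m η⁻¹ * th m η = 1 := by rw [← th_mul, k1, th_one]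
      have h4 : th m (η⁻¹ * th m η⁻¹ * τ) = th m η⁻¹ * η⁻¹ ^ 2 * th m τ := by
        rw [th_mul, th_mul, th_th hF]
      have key := ring_5 η⁻¹ (th m η⁻¹) τ (th m τ) ψ η (th m β) (th m η) hφ
        (by rw [hψ, th_mul]) k1 k2
      simp only [fS, th_one, mul_one, one_mul, one_pow]
      rw [h4]
      linear_combination key
    obtain ⟨u, hu⟩ := conj_NS_of_trS hF hm hβ htr
    exact isConj_iff.2 ⟨u, hu⟩

theorem case_four_four (hm : 1 ≤ m) (t t' : F) :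
    ∃ x₁ x₂ : Sz F m, IsConj (TS hF 1 t) x₁ ∧ IsConj (TS hF 1 t) x₂ ∧
      IsConj (x₁ * x₂) (TS hF 1 t') := by
  have := charP_two hF
  obtain ⟨c, hc0, hc1⟩ := exists_ne_zero_one hF hm
  have hc1' : 1 + c ≠ 0 := by
    intro h
    apply hc1
    grind
  have hw : (1 + c) * th m (1 + c) ≠ 0 := mul_ne_zero hc1' (th_ne_zero hc1')
  obtain ⟨z, hz⟩ : ∃ z : F, z = ((1 + c) * th m (1 + c))⁻¹ := ⟨_, rfl⟩
  have hz0 : z ≠ 0 := by
    rw [hz]
    exact inv_ne_zero hw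
  have hz1 : z ≠ 1 := by
    intro h
    rw [hz, inv_eq_one] at h
    have h' := th_mul_self_eq_one hF (x := 1 + c) (by rw [mul_comm]; exact h)
    apply hc0
    linear_combination h'
  obtain ⟨k, hk, hzk⟩ := exists_mul_notMem_KS hF hz0 hz1
  obtain ⟨k₁, hk₁, hk₁'⟩ : ∃ k₁ ∈ KS F m,
      z * k₁ + (z * (t + c * th m c * t + c) + t') ∈ KS F m := by
    by_cases h : z * (t + c * th m c * t + c) + t' ∈ KS F m
    · exact ⟨0, KS_zero, by rw [mul_zero, zero_add]; exact h⟩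
    · exact ⟨k, hk, KS_of_notMem hF hzk h⟩
  obtain ⟨e, he⟩ := hk₁
  have hzw : (1 + c) * th m (1 + c) * z = 1 := by
    rw [hz]
    exact mul_inv_cancel₀ hw
  refine ⟨TS hF 1 (t + (th m e + e)), TS hF c (c * th m c * t), ?_, ?_, ?_⟩
  · exact isConj_iff.2 ⟨TS hF e 0, conj_TS_one_add hF t e⟩
  · refine (isConj_TS_one hF hc0 ?_).symm
    rw [add_self hF]
    exact KS_zero
  · rw [TS_mul, th_one, one_mul]
    have e1 : t + (th m e + e) + c * th m c * t + c =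
        (1 + c) * th m (1 + c) * (z * (t + k₁ + c * th m c * t + c)) := by
      rw [← mul_assoc, hzw, one_mul, he]
    rw [e1]
    refine isConj_TS_one hF hc1' ?_
    have e2 : z * (t + k₁ + c * th m c * t + c) + t' =
        z * k₁ + (z * (t + c * th m c * t + c) + t') := by ring
    rw [e2]
    exact hk₁'

theorem NS_param_ne_zero {g u : Sz F m} {τ : F} (hg : g ^ 4 ≠ 1)
    (hu : u * g * u⁻¹ = NS hF τ) : τ ≠ 0 := by
  rintro rfl
  apply hg
  have h1 : (u * g * u⁻¹) ^ 4 = 1 := by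
    rw [hu, NS, US_zero, mul_one]
    exact TS_pow_four hF 0 1
  rw [conj_pow] at h1
  exact eq_one_of_conj_eq_one h1

/-- in the Suzuki group the square of the class of an element of order greater than `2`
contains every non-identity element -/
theorem class_square (hm : 1 ≤ m) (x g : Sz F m) (hx : 2 < orderOf x) (hg : g ≠ 1) :
    ∃ u v : Sz F m, g = u * x * u⁻¹ * (v * x * v⁻¹) := by
  have hxx : x * x ≠ 1 := by
    intro h
    have h2 : orderOf x ∣ 2 := orderOf_dvd_of_pow_eq_one (by rw [pow_two]; exact h)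
    have := Nat.le_of_dvd (by norm_num) h2
    omega
  by_cases hx4 : x ^ 4 = 1
  · obtain ⟨ux, t, hux⟩ := exists_conj_TS_one hF hm hx4 hxx
    have cx : IsConj x (TS hF 1 t) := isConj_iff.2 ⟨ux, hux⟩
    by_cases hg4 : g ^ 4 = 1
    · by_cases hgg : g * g = 1
      · obtain ⟨ug, hug⟩ := exists_conj_TS_center hF hm hg hgg
        refine prod_of_isConj cx cx ?_
        rw [TS_sq, th_one, one_mul]
        exact (isConj_iff.2 ⟨ug, hug⟩).symm
      · obtain ⟨ug, t', hug⟩ := exists_conj_TS_one hF hm hg4 hgg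
        obtain ⟨x₁, x₂, h1, h2, h3⟩ := case_four_four hF hm t t'
        exact prod_of_isConj (cx.trans h1) (cx.trans h2)
          (h3.trans (isConj_iff.2 ⟨ug, hug⟩).symm)
    · obtain ⟨ug, β, hug⟩ := exists_conj_NS hF hm hg4
      have hβ := NS_param_ne_zero hF hg4 hug
      obtain ⟨x₁, x₂, h1, h2, h3⟩ := case_four_NS hF hm t hβ
      exact prod_of_isConj (cx.trans h1) (cx.trans h2)
        (h3.trans (isConj_iff.2 ⟨ug, hug⟩).symm)
  · obtain ⟨ux, α, hux⟩ := exists_conj_NS hF hm hx4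
    have hα := NS_param_ne_zero hF hx4 hux
    have cx : IsConj x (NS hF α) := isConj_iff.2 ⟨ux, hux⟩
    by_cases hg4 : g ^ 4 = 1
    · by_cases hgg : g * g = 1
      · obtain ⟨ug, hug⟩ := exists_conj_TS_center hF hm hg hgg
        obtain ⟨x₁, x₂, h1, h2, h3⟩ := case_NS_inv hF hm hα
        exact prod_of_isConj (cx.trans h1) (cx.trans h2)
          (h3.trans (isConj_iff.2 ⟨ug, hug⟩).symm)
      · obtain ⟨ug, t', hug⟩ := exists_conj_TS_one hF hm hg4 hgg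
        obtain ⟨x₁, x₂, h1, h2, h3⟩ := case_NS_four hF hm hα t'
        exact prod_of_isConj (cx.trans h1) (cx.trans h2)
          (h3.trans (isConj_iff.2 ⟨ug, hug⟩).symm)
    · obtain ⟨ug, β, hug⟩ := exists_conj_NS hF hm hg4
      have hβ := NS_param_ne_zero hF hg4 hug
      obtain ⟨x₁, x₂, h1, h2, h3⟩ := case_NS_NS hF hm hα hβ
      refine prod_of_isConj (cx.trans h1) (cx.trans h2) ?_
      rw [h3]
      exact (isConj_iff.2 ⟨ug, hug⟩).symm

end Cfsg.Agent.Lib.Helper8.Sz
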