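import Cfsg.Agent.Lib.Helper8.Sz41
import Cfsg.Agent.Lib.Helper8.Sz36

set_option autoImplicit false

namespace Cfsg.Agent.Lib.Helper8.Sz

open Cfsg Matrix
open scoped ComplexConjugate

theorem cf_isConj {G : Type*} [Group G] {f : G → ℂ} (hf : IsClassFunction G f) {g g' : G}
    (h : IsConj g g') : f g = f g' := by
  obtain ⟨c, rfl⟩ := isConj_iff.1 h
  exact (hf g c).symm

variable {F : Type*} [Field F] [Fintype F] {m : ℕ}

variable (hF : Fintype.card F = 2 ^ (2 * m + 1))

include hF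

/-! ### conjugacy classes of the elements of order two and four -/

theorem isConj_TS_center {b : F} (hb : b ≠ 0) : IsConj (TS hF 0 b) (TS hF 0 1) := by
  obtain ⟨σ, hσ⟩ := exists_scale hF hb
  exact isConj_iff.2 ⟨HS hF σ, hσ⟩

theorem isConj_TS_scaled {a : F} (ha : a ≠ 0) (τ : F) :
    (τ ∈ KS F m → IsConj (TS hF a (a * th m a * τ)) (TS hF 1 0)) ∧
      (τ ∉ KS F m → IsConj (TS hF a (a * th m a * τ)) (TS hF 1 1)) := by
  constructor
  · intro h
    exact isConj_TS_one hF ha (by rwa [add_zero])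
  · intro h
    exact isConj_TS_one hF ha (KS_add_one hF h)

theorem TS_one_inv : (TS hF 1 0)⁻¹ = TS hF 1 1 := by
  rw [TS_inv, th_one, mul_one, zero_add]

theorem TS_one_sq : TS hF 1 0 * TS hF 1 0 = TS hF 0 1 := by
  rw [TS_sq, th_one, mul_one]

theorem TS_center_ne_one : TS hF (0 : F) 1 ≠ 1 :=
  TS_ne_one' hF (fun h => one_ne_zero h.2)

theorem TS_rho_ne_one : TS hF (1 : F) 0 ≠ 1 :=
  TS_ne_one' hF (fun h => one_ne_zero h.1)

theorem not_isConj_rho (hm : 1 ≤ m) : ¬ IsConj (TS hF 1 0) (TS hF 1 1) := by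
  intro h
  obtain ⟨c, hc⟩ := isConj_iff.1 h
  have hcB : c ∈ Bsub F m := mem_Bsub_of_conj hF (fun h => one_ne_zero h.1) c hc
  obtain ⟨a, b, s, rfl⟩ := fix_inf_decomp' hF hm c hcB
  have h1 : TS hF a b * HS hF s * TS hF 1 0 = TS hF 1 1 * (TS hF a b * HS hF s) := by
    rw [← hc]; group
  rw [mul_assoc, HS_mul_TS, ← mul_assoc, ← mul_assoc, TS_mul, TS_mul] at h1
  obtain ⟨e1, e2, -⟩ := TH_unique hF h1
  have hs : th m (s : F) = 1 := by
    linear_combination e1
  rw [hs, th_one] at e2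
  have h2 : (1 : F) = th m a + a := by
    have := add_self hF a
    linear_combination -e2 - this
  exact one_notMem_KS hF ⟨a, h2⟩

theorem centralizer_center (hm : 1 ≤ m) :
    Subgroup.centralizer ({TS hF 0 1} : Set (Sz F m)) = QS hF := by
  ext c
  rw [mem_centralizer_singleton_iff]
  constructor
  · intro h
    exact centralizer_unip hF hm (fun h => one_ne_zero h.2) c h
  · rintro ⟨a, b, rfl⟩
    exact (TS_center_comm hF 1 a b).symm

theorem card_centralizer_center (hm : 1 ≤ m) :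
    Nat.card (Subgroup.centralizer ({TS hF 0 1} : Set (Sz F m))) = (2 ^ (2 * m + 1)) ^ 2 := by
  rw [centralizer_center hF hm, card_QS]

theorem mem_centralizer_rho_iff (hm : 1 ≤ m) (c : Sz F m) :
    c ∈ Subgroup.centralizer ({TS hF 1 0} : Set (Sz F m)) ↔
      ∃ (ε : Bool) (b : F), c = TS hF (if ε then 1 else 0) b := by
  rw [mem_centralizer_singleton_iff]
  constructor
  · intro h
    obtain ⟨a, b, rfl⟩ := centralizer_unip hF hm (fun h => one_ne_zero h.1) c h
    rw [TS_mul, TS_mul] at h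
    have h2 := (TS_inj hF h).2
    rw [th_one] at h2
    have h3 : th m a = a := by linear_combination h2
    rcases th_fix hF h3 with rfl | rfl
    · exact ⟨false, b, by simp⟩
    · exact ⟨true, b, by simp⟩
  · rintro ⟨ε, b, rfl⟩
    rw [TS_mul, TS_mul]
    cases ε
    · simp only [Bool.false_eq_true, if_false, th_zero, th_one]
      congr 1 <;> ring
    · simp only [if_true, th_one]
      congr 1
      ring

theorem card_centralizer_rho (hm : 1 ≤ m) :
    Nat.card (Subgroup.centralizer ({TS hF 1 0} : Set (Sz F m))) = 2 * 2 ^ (2 * m + 1) := by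
  let Φ : Bool × F → Subgroup.centralizer ({TS hF 1 0} : Set (Sz F m)) := fun t =>
    ⟨TS hF (if t.1 then 1 else 0) t.2, (mem_centralizer_rho_iff hF hm _).2 ⟨t.1, t.2, rfl⟩⟩
  have hinj : Function.Injective Φ := by
    rintro ⟨ε, b⟩ ⟨ε', b'⟩ h
    obtain ⟨h1, h2⟩ := TS_inj hF (congrArg Subtype.val h)
    have : ε = ε' := by
      cases ε <;> cases ε' <;> simp at h1 <;> rfl
    exact Prod.ext this h2
  have hsurj : Function.Surjective Φ := by
    rintro ⟨c, hc⟩
    obtain ⟨ε, b, rfl⟩ := (mem_centralizer_rho_iff hF hm c).1 hc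
    exact ⟨(ε, b), rfl⟩
  rw [← Nat.card_congr (Equiv.ofBijective Φ ⟨hinj, hsurj⟩), Nat.card_prod,
    Nat.card_eq_fintype_card, Nat.card_eq_fintype_card, hF, Fintype.card_bool]

/-- an element of order four has no square root -/
theorem no_sqrt_rho (hm : 1 ≤ m) (h : Sz F m) : h * h ≠ TS hF 1 0 := by
  intro hh
  have h4 : h ^ 4 = TS hF 0 1 := by
    have : h ^ 4 = (h * h) * (h * h) := by
      simp [pow_succ, mul_assoc]
    rw [this, hh, TS_one_sq]
  have h8 : h ^ 8 = 1 := by
    have : h ^ 8 = h ^ 4 * h ^ 4 := pow_add h 4 4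
    rw [this, h4, TS_center_sq]
  have hne : h ≠ 1 := by
    rintro rfl
    rw [one_pow] at h4
    exact TS_center_ne_one hF h4.symm
  rcases pow_trichotomy hF hm h with h' | h' | h'
  · rw [h4] at h'
    exact TS_center_ne_one hF h'
  · have hc : Nat.Coprime 8 (2 ^ (2 * m + 1) - 1) := by
      have : (8 : ℕ) = 2 ^ 3 := by norm_num
      rw [this]
      apply Nat.Coprime.pow_left
      exact (Nat.Prime.coprime_iff_not_dvd Nat.prime_two).2 (odd_sub_one (m := m))
    exact hne (eq_one_of_pow_coprime hc h8 h')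
  · have hc : Nat.Coprime 8 ((2 ^ (2 * m + 1)) ^ 2 + 1) := by
      have : (8 : ℕ) = 2 ^ 3 := by norm_num
      rw [this]
      apply Nat.Coprime.pow_left
      exact (Nat.Prime.coprime_iff_not_dvd Nat.prime_two).2 (odd_sq_add_one (m := m))
    exact hne (eq_one_of_pow_coprime hc h8 h')

/-! ### class functions on the translations -/

theorem sum_ite_KS (A B : ℂ) [DecidablePred (· ∈ KS F m)] :
    2 * ∑ τ : F, (if τ ∈ KS F m then A else B) = (2 : ℂ) ^ (2 * m + 1) * (A + B) := by
  have h1 : ∑ τ : F, (if τ ∈ KS F m then A else B) =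
      ∑ τ : F, (if τ + 1 ∈ KS F m then A else B) :=
    (Equiv.sum_comp (Equiv.addRight (1 : F)) (fun τ => if τ ∈ KS F m then A else B)).symm
  have h2 : ∀ τ : F, (if τ ∈ KS F m then A else B) + (if τ + 1 ∈ KS F m then A else B) = A + B := by
    intro τ
    by_cases h : τ ∈ KS F m
    · have h' : τ + 1 ∉ KS F m := by
        intro h'
        exact one_notMem_KS hF (((KS_add_iff hF τ 1).1 h').1 h)
      rw [if_pos h, if_neg h']
    · rw [if_neg h, if_pos (KS_add_one hF h), add_comm]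
  calc 2 * ∑ τ : F, (if τ ∈ KS F m then A else B)
      = ∑ τ : F, ((if τ ∈ KS F m then A else B) + (if τ + 1 ∈ KS F m then A else B)) := by
        rw [Finset.sum_add_distrib, ← h1, two_mul]
    _ = (2 : ℂ) ^ (2 * m + 1) * (A + B) := by
        simp only [h2, Finset.sum_const, Finset.card_univ, hF, nsmul_eq_mul]
        push_cast
        ring

variable {f : Sz F m → ℂ}

theorem cf_TS_center (hf : IsClassFunction (Sz F m) f) {b : F} (hb : b ≠ 0) :
    f (TS hF 0 b) = f (TS hF 0 1) :=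
  cf_isConj hf (isConj_TS_center hF hb)

theorem sum_cf_center (hf : IsClassFunction (Sz F m) f) :
    ∑ b : F, f (TS hF 0 b) = f 1 + ((2 : ℂ) ^ (2 * m + 1) - 1) * f (TS hF 0 1) := by
  classical
  rw [← Finset.add_sum_erase Finset.univ _ (Finset.mem_univ (0 : F)), TS_zero]
  congr 1
  rw [Finset.sum_congr rfl (fun b hb => cf_TS_center hF hf (Finset.ne_of_mem_erase hb)),
    Finset.sum_const, Finset.card_erase_of_mem (Finset.mem_univ _), Finset.card_univ, hF,
    nsmul_eq_mul, Nat.cast_sub Nat.one_le_two_pow]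
  push_cast
  ring

theorem sum_cf_row (hf : IsClassFunction (Sz F m) f) {a : F} (ha : a ≠ 0) :
    2 * ∑ b : F, f (TS hF a b) =
      (2 : ℂ) ^ (2 * m + 1) * (f (TS hF 1 0) + f (TS hF 1 1)) := by
  classical
  have hne : a * th m a ≠ 0 := mul_ne_zero ha (th_ne_zero ha)
  rw [← sum_ite_KS hF (f (TS hF 1 0)) (f (TS hF 1 1))]
  congr 1
  rw [← Equiv.sum_comp (Equiv.mulLeft₀ (a * th m a) hne) (fun b => f (TS hF a b))]
  refine Finset.sum_congr rfl fun τ _ => ?_
  simp only [Equiv.mulLeft₀_apply]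
  by_cases h : τ ∈ KS F m
  · rw [if_pos h]
    exact cf_isConj hf ((isConj_TS_scaled hF ha τ).1 h)
  · rw [if_neg h]
    exact cf_isConj hf ((isConj_TS_scaled hF ha τ).2 h)

theorem sum_cf_all (hf : IsClassFunction (Sz F m) f) :
    2 * ∑ p : F × F, f (TS hF p.1 p.2) =
      2 * f 1 + 2 * ((2 : ℂ) ^ (2 * m + 1) - 1) * f (TS hF 0 1) +
        ((2 : ℂ) ^ (2 * m + 1) - 1) * (2 : ℂ) ^ (2 * m + 1) * (f (TS hF 1 0) + f (TS hF 1 1)) := by
  classical
  rw [Fintype.sum_prod_type, ← Finset.add_sum_erase Finset.univ _ (Finset.mem_univ (0 : F)),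
    sum_cf_center hF hf, mul_add, Finset.mul_sum,
    Finset.sum_congr rfl (fun a ha => sum_cf_row hF hf (Finset.ne_of_mem_erase ha)),
    Finset.sum_const, Finset.card_erase_of_mem (Finset.mem_univ _), Finset.card_univ, hF,
    nsmul_eq_mul, Nat.cast_sub Nat.one_le_two_pow]
  push_cast
  ring

end Cfsg.Agent.Lib.Helper8.Sz
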