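import Cfsg.Agent.Lib.Helper8.Sz42

set_option autoImplicit false

namespace Cfsg.Agent.Lib.Helper8.Sz

open Cfsg Matrix
open scoped ComplexConjugate
open Cfsg.Agent.Lib.Helper4

theorem sum_eq_zero_of_neg_one {A : Type*} [AddCommGroup A] [Fintype A] (η : A → ℂ)
    (hadd : ∀ b b', η (b + b') = η b * η b') (b₁ : A) (h : η b₁ = -1) : ∑ b : A, η b = 0 := by
  have e := Equiv.sum_comp (Equiv.addRight b₁) η
  simp only [Equiv.coe_addRight, hadd, h] at e
  rw [← Finset.sum_mul] at e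
  linear_combination -e / 2

variable {F : Type*} [Field F] [Fintype F] {m : ℕ}

open Classical in
/-- the quadratic character with kernel `KS` -/
noncomputable def mu0 (m : ℕ) (b : F) : ℂ := if b ∈ KS F m then 1 else -1

omit [Fintype F] in
theorem mu0_of_mem {b : F} (h : b ∈ KS F m) : mu0 m b = 1 := if_pos h

omit [Fintype F] in
theorem mu0_of_notMem {b : F} (h : b ∉ KS F m) : mu0 m b = -1 := if_neg h

omit [Fintype F] in
theorem mu0_mul_self (b : F) : mu0 m b * mu0 m b = 1 := by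
  unfold mu0
  split_ifs <;> norm_num

omit [Fintype F] in
theorem mu0_cases (b : F) : mu0 m b = 1 ∨ mu0 m b = -1 := by
  unfold mu0
  split_ifs <;> simp

variable (hF : Fintype.card F = 2 ^ (2 * m + 1))

include hF

theorem mu0_add (b b' : F) : mu0 m (b + b') = mu0 m b * mu0 m b' := by
  by_cases h : b ∈ KS F m <;> by_cases h' : b' ∈ KS F m
  · rw [mu0_of_mem (KS_add hF h h'), mu0_of_mem h, mu0_of_mem h']; norm_num
  · have : b + b' ∉ KS F m := fun h2 => h' (((KS_add_iff hF b b').1 h2).1 h)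
    rw [mu0_of_notMem this, mu0_of_mem h, mu0_of_notMem h']; norm_num
  · have : b + b' ∉ KS F m := fun h2 => h (((KS_add_iff hF b b').1 h2).2 h')
    rw [mu0_of_notMem this, mu0_of_notMem h, mu0_of_mem h']; norm_num
  · rw [mu0_of_mem (KS_of_notMem hF h h'), mu0_of_notMem h, mu0_of_notMem h']; norm_num

theorem mu0_one : mu0 m (1 : F) = -1 := mu0_of_notMem (one_notMem_KS hF)

/-! ### irreducible characters of the group of translations -/

theorem qS_central (b : F) (g : QS hF) : g * qS hF 0 b = qS hF 0 b * g := by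
  obtain ⟨a', b', rfl⟩ := qS_surj hF g
  rw [qS_mul, qS_mul, th_zero]
  congr 1 <;> ring

theorem qS_center_mul (a b b' : F) : qS hF 0 b * qS hF a b' = qS hF a (b' + b) := by
  rw [qS_mul, th_zero]
  congr 1 <;> ring

theorem qS_conj (e a b : F) :
    qS hF e 0 * qS hF a b * (qS hF e 0)⁻¹ = qS hF a (b + (th m e * a + th m a * e)) := by
  have h := comm_qS hF e 0 a b
  rw [commutatorElement_def] at h
  have h2 : qS hF e 0 * qS hF a b * (qS hF e 0)⁻¹ =
      qS hF e 0 * qS hF a b * (qS hF e 0)⁻¹ * (qS hF a b)⁻¹ * qS hF a b := by group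
  rw [h2, h, qS_center_mul]

variable [Fintype (QS hF)]

/-- the central character of an irreducible character -/
noncomputable def om (φ : IrrCharacter (QS hF)) (b : F) : ℂ := φ.1 (qS hF 0 b) / φ.1 1

theorem om_mul (φ : IrrCharacter (QS hF)) (b : F) (h : QS hF) :
    φ.1 (qS hF 0 b * h) = om hF φ b * φ.1 h := by
  rw [irr_central_mul φ (qS hF 0 b) (qS_central hF b) h, om]
  ring

theorem om_zero (φ : IrrCharacter (QS hF)) : om hF φ 0 = 1 := by
  rw [om, qS_zero, div_self (irr_one_ne_zero φ)]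

theorem om_add (φ : IrrCharacter (QS hF)) (b b' : F) :
    om hF φ (b + b') = om hF φ b * om hF φ b' := by
  have h : qS hF 0 b * qS hF 0 b' = qS hF 0 (b + b') := by
    rw [qS_center_mul, add_comm]
  show φ.1 (qS hF 0 (b + b')) / φ.1 1 = om hF φ b * (φ.1 (qS hF 0 b') / φ.1 1)
  rw [← h, om_mul]
  ring

theorem om_cases (φ : IrrCharacter (QS hF)) (b : F) : om hF φ b = 1 ∨ om hF φ b = -1 := by
  have h : om hF φ b * om hF φ b = 1 := by
    rw [← om_add, add_self hF, om_zero]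
  have h2 : (om hF φ b - 1) * (om hF φ b + 1) = 0 := by linear_combination h
  rcases mul_eq_zero.1 h2 with h | h
  · left; linear_combination h
  · right; linear_combination h

theorem om_apply (φ : IrrCharacter (QS hF)) (b : F) :
    φ.1 (qS hF 0 b) = om hF φ b * φ.1 1 := by
  rw [om, div_mul_cancel₀ _ (irr_one_ne_zero φ)]

theorem om_shift (φ : IrrCharacter (QS hF)) (a b b' : F) :
    φ.1 (qS hF a (b' + b)) = om hF φ b * φ.1 (qS hF a b') := by
  rw [← qS_center_mul, om_mul]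

/-- the sum over the centre is a natural number -/
theorem irrQ_sum_center (φ : IrrCharacter (QS hF)) :
    ∃ t : ℕ, ∑ b : F, φ.1 (qS hF 0 b) = t := by
  obtain ⟨d, -, hd⟩ := irr_one_nat φ
  by_cases hall : ∀ b, om hF φ b = 1
  · refine ⟨2 ^ (2 * m + 1) * d, ?_⟩
    simp only [om_apply, hall, hd, one_mul, Finset.sum_const, Finset.card_univ, hF, nsmul_eq_mul]
    push_cast
    ring
  · push_neg at hall
    obtain ⟨b₁, hb₁⟩ := hall
    have hb₁' : om hF φ b₁ = -1 := (om_cases hF φ b₁).resolve_left hb₁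
    refine ⟨0, ?_⟩
    simp only [om_apply, ← Finset.sum_mul]
    rw [sum_eq_zero_of_neg_one _ (om_add hF φ) b₁ hb₁']
    simp

/-- an irreducible character whose central character is not the quadratic one -/
theorem irrQ_type_zero (φ : IrrCharacter (QS hF)) {b₀ : F} (hb₀ : om hF φ b₀ ≠ mu0 m b₀) :
    ∑ b : F, φ.1 (qS hF 0 b) * mu0 m b = 0 ∧ (φ.1 (qS hF 1 0)).im = 0 := by
  constructor
  · have h1 : ∀ b, φ.1 (qS hF 0 b) * mu0 m b = (om hF φ b * mu0 m b) * φ.1 1 := by
      intro b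
      rw [om_apply]
      ring
    simp only [h1, ← Finset.sum_mul]
    have hη : om hF φ b₀ * mu0 m b₀ = -1 := by
      rcases om_cases hF φ b₀ with h | h <;> rcases mu0_cases (m := m) b₀ with h' | h' <;>
        rw [h, h'] at hb₀ ⊢ <;> first | exact absurd rfl hb₀ | norm_num
    rw [sum_eq_zero_of_neg_one (fun b => om hF φ b * mu0 m b) (by
      intro b b'
      rw [om_add, mu0_add hF]
      ring) b₀ hη, zero_mul]
  · have hinv : (qS hF 1 0)⁻¹ = qS hF 1 (0 + 1) := by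
      rw [qS_inv, th_one, mul_one]
    have hconj : φ.1 (qS hF 1 (0 + 1)) = conj (φ.1 (qS hF 1 0)) := by
      rw [← hinv, irr_inv]
    rw [om_shift] at hconj
    rcases om_cases hF φ 1 with h1 | h1
    · rw [h1, one_mul] at hconj
      exact Complex.conj_eq_iff_im.1 hconj.symm
    · -- there is an element of `KS` with central value `-1`
      have hex : ∃ k ∈ KS F m, om hF φ k = -1 := by
        by_contra hcon
        push_neg at hcon
        apply hb₀
        by_cases hk : b₀ ∈ KS F m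
        · rw [mu0_of_mem hk]
          exact (om_cases hF φ b₀).resolve_right (hcon b₀ hk)
        · rw [mu0_of_notMem hk]
          have h2 := (om_cases hF φ (b₀ + 1)).resolve_right (hcon _ (KS_add_one hF hk))
          rw [om_add, h1] at h2
          linear_combination -h2
      obtain ⟨k, ⟨f, rfl⟩, hk⟩ := hex
      have hc := irr_conj_apply φ (qS hF 1 0) (qS hF f 0)
      rw [qS_conj, th_one, mul_one, one_mul, om_shift, hk] at hc
      have h0 : φ.1 (qS hF 1 0) = 0 := by linear_combination -hc / 2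
      rw [h0]
      simp

/-- an irreducible character whose central character is the quadratic one -/
theorem irrQ_type_one (φ : IrrCharacter (QS hF)) (h : ∀ b, om hF φ b = mu0 m b) :
    ∑ b : F, φ.1 (qS hF 0 b) * mu0 m b = (2 : ℂ) ^ (2 * m + 1) * (2 : ℂ) ^ m ∧
      ((φ.1 (qS hF 1 0)).im = (2 : ℝ) ^ m ∨ (φ.1 (qS hF 1 0)).im = -(2 : ℝ) ^ m) := by
  obtain ⟨d, -, hd⟩ := irr_one_nat φ
  -- vanishing
  have hvan : ∀ a b : F, a ≠ 0 → a ≠ 1 → φ.1 (qS hF a b) = 0 := by
    intro a b ha0 ha1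
    have hz0 : a * th m a ≠ 0 := mul_ne_zero ha0 (th_ne_zero ha0)
    have hz1 : a * th m a ≠ 1 := by
      intro h1
      exact ha1 (th_mul_self_eq_one hF (by rw [mul_comm]; exact h1))
    obtain ⟨k, ⟨f, rfl⟩, hk⟩ := exists_mul_notMem_KS hF hz0 hz1
    have hc := irr_conj_apply φ (qS hF a b) (qS hF (a * f) 0)
    rw [qS_conj, om_shift, h, th_mul] at hc
    have e : th m a * th m f * a + th m a * (a * f) = a * th m a * (th m f + f) := by ring
    rw [e, mu0_of_notMem hk] at hc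
    linear_combination -hc / 2
  -- the values on the coset of `ρ`
  have hrow : ∀ b : F, φ.1 (qS hF 1 b) = mu0 m b * φ.1 (qS hF 1 0) := by
    intro b
    have := om_shift hF φ 1 b 0
    rw [zero_add, h] at this
    exact this
  have hre : (φ.1 (qS hF 1 0)).re = 0 := by
    have hinv : (qS hF 1 0)⁻¹ = qS hF 1 1 := by
      rw [qS_inv, th_one, mul_one, zero_add]
    have hconj : φ.1 (qS hF 1 1) = conj (φ.1 (qS hF 1 0)) := by
      rw [← hinv, irr_inv]
    rw [hrow, mu0_one hF] at hconj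
    have := congrArg Complex.re hconj
    simp at this
    linarith
  -- the order four data
  have h4 : (qS hF 1 0) ^ 4 = 1 := by
    have : (qS hF 1 0) ^ 4 = (qS hF 1 0 * qS hF 1 0) * (qS hF 1 0 * qS hF 1 0) := by
      simp [pow_succ, mul_assoc]
    rw [this, qS_sq, qS_sq, th_zero, zero_mul, qS_zero]
  obtain ⟨n₀, n₁, n₂, n₃, e1, e2, e3⟩ :=
    char_order_four (Cfsg.Agent.Lib.Helper35.isChar_of_irr φ.2) (qS hF 1 0) h4
  rw [qS_sq, th_one, mul_one, om_apply, h, mu0_one hF] at e3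
  have e2re := congrArg Complex.re e2
  have e2im := congrArg Complex.im e2
  simp at e2re e2im
  rw [hre] at e2re
  have hn02 : (n₀ : ℝ) = n₂ := by linarith
  have e1' : (d : ℂ) = (n₀ : ℂ) + n₁ + n₂ + n₃ := by rw [← hd, e1]
  have e3' : -(d : ℂ) = (n₀ : ℂ) - n₁ + n₂ - n₃ := by rw [← hd, ← e3]; ring
  have e1r : (d : ℝ) = (n₀ : ℝ) + n₁ + n₂ + n₃ := by exact_mod_cast e1'
  have e3r : -(d : ℝ) = (n₀ : ℝ) - n₁ + n₂ - n₃ := by exact_mod_cast e3'
  have hn0 : (n₀ : ℝ) = 0 := by linarith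
  have hdn : (d : ℝ) = (n₁ : ℝ) + n₃ := by linarith
  have hφρ : φ.1 (qS hF 1 0) = (((n₁ : ℝ) - n₃ : ℝ) : ℂ) * Complex.I := by
    apply Complex.ext
    · simp [hre]
    · simp [e2im]
  -- the norm
  have hnorm := Cfsg.Agent.Lib.Helper84.irr_row_orth φ φ
  rw [if_pos rfl, card_QS] at hnorm
  have hbij : Function.Bijective (fun p : F × F => qS hF p.1 p.2) := by
    constructor
    · rintro ⟨a, b⟩ ⟨a', b'⟩ hp
      obtain ⟨rfl, rfl⟩ := qS_inj hF hp
      rfl
    · intro x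
      obtain ⟨a, b, rfl⟩ := qS_surj hF x
      exact ⟨(a, b), rfl⟩
  rw [← Fintype.sum_bijective _ hbij (fun p : F × F => φ.1 (qS hF p.1 p.2) *
    conj (φ.1 (qS hF p.1 p.2))) _ (fun _ => rfl), Fintype.sum_prod_type] at hnorm
  classical
  have h01 : (0 : F) ≠ 1 := zero_ne_one
  have hsplit : ∑ a : F, ∑ b : F, φ.1 (qS hF a b) * conj (φ.1 (qS hF a b)) =
      ∑ b : F, φ.1 (qS hF 0 b) * conj (φ.1 (qS hF 0 b)) +
        ∑ b : F, φ.1 (qS hF 1 b) * conj (φ.1 (qS hF 1 b)) := by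
    rw [← Finset.add_sum_erase Finset.univ _ (Finset.mem_univ (0 : F)),
      ← Finset.add_sum_erase _ _ (Finset.mem_erase.2 ⟨h01.symm, Finset.mem_univ (1 : F)⟩)]
    have hz : ∑ a ∈ (Finset.univ.erase (0 : F)).erase 1,
        ∑ b : F, φ.1 (qS hF a b) * conj (φ.1 (qS hF a b)) = 0 := by
      apply Finset.sum_eq_zero
      intro a ha
      have ha1 := Finset.ne_of_mem_erase ha
      have ha0 := Finset.ne_of_mem_erase (Finset.mem_of_mem_erase ha)
      simp [hvan a _ ha0 ha1]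
    rw [hz, add_zero]
  rw [hsplit] at hnorm
  have hs0 : ∑ b : F, φ.1 (qS hF 0 b) * conj (φ.1 (qS hF 0 b)) =
      (2 : ℂ) ^ (2 * m + 1) * ((d : ℂ) * d) := by
    have : ∀ b : F, φ.1 (qS hF 0 b) * conj (φ.1 (qS hF 0 b)) = (d : ℂ) * d := by
      intro b
      rw [om_apply, h, hd]
      rcases mu0_cases (m := m) b with hb | hb <;> rw [hb] <;> simp
    simp only [this, Finset.sum_const, Finset.card_univ, hF, nsmul_eq_mul]
    push_cast
    ring
  have hs1 : ∑ b : F, φ.1 (qS hF 1 b) * conj (φ.1 (qS hF 1 b)) =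
      (2 : ℂ) ^ (2 * m + 1) * ((((n₁ : ℝ) - n₃ : ℝ) : ℂ) * (((n₁ : ℝ) - n₃ : ℝ) : ℂ)) := by
    have : ∀ b : F, φ.1 (qS hF 1 b) * conj (φ.1 (qS hF 1 b)) =
        (((n₁ : ℝ) - n₃ : ℝ) : ℂ) * (((n₁ : ℝ) - n₃ : ℝ) : ℂ) := by
      intro b
      rw [hrow, hφρ]
      have hI : Complex.I * Complex.I = -1 := Complex.I_mul_I
      rcases mu0_cases (m := m) b with hb | hb <;> rw [hb] <;>
        simp only [map_mul, map_one, map_neg, Complex.conj_ofReal, Complex.conj_I] <;>
        linear_combination (-(((n₁ : ℝ) - n₃ : ℝ) : ℂ) * (((n₁ : ℝ) - n₃ : ℝ) : ℂ)) * hI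
    simp only [this, Finset.sum_const, Finset.card_univ, hF, nsmul_eq_mul]
    push_cast
    ring
  rw [hs0, hs1] at hnorm
  have hq0 : ((2 : ℂ) ^ (2 * m + 1)) ≠ 0 := pow_ne_zero _ two_ne_zero
  have hnorm2 : (d : ℂ) * d + (((n₁ : ℝ) - n₃ : ℝ) : ℂ) * (((n₁ : ℝ) - n₃ : ℝ) : ℂ) =
      (2 : ℂ) ^ (2 * m + 1) := by
    apply mul_left_cancel₀ hq0
    rw [mul_add, hnorm]
    push_cast
    ring
  have hnormR : (d : ℝ) * d + ((n₁ : ℝ) - n₃) * ((n₁ : ℝ) - n₃) = (2 : ℝ) ^ (2 * m + 1) := by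
    exact_mod_cast hnorm2
  have hsq : n₁ ^ 2 + n₃ ^ 2 = 4 ^ m := by
    have h1 : (2 : ℝ) * ((n₁ : ℝ) ^ 2 + (n₃ : ℝ) ^ 2) = 2 * (4 : ℝ) ^ m := by
      have e4 : (2 : ℝ) ^ (2 * m + 1) = 2 * (4 : ℝ) ^ m := by
        rw [pow_succ, pow_mul]; norm_num; ring
      rw [← e4, ← hnormR, hdn]
      ring
    have h2 : (n₁ : ℝ) ^ 2 + (n₃ : ℝ) ^ 2 = (4 : ℝ) ^ m := by linarith
    exact_mod_cast h2
  have hd2 : (d : ℂ) = (2 : ℂ) ^ m := by
    have : (d : ℝ) = (2 : ℝ) ^ m := by
      rcases sq_add_sq_eq_four_pow m n₁ n₃ hsq with ⟨h1, h2⟩ | ⟨h1, h2⟩ <;>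
        rw [hdn, h1, h2] <;> push_cast <;> ring
    exact_mod_cast this
  constructor
  · have : ∀ b : F, φ.1 (qS hF 0 b) * mu0 m b = (2 : ℂ) ^ m := by
      intro b
      rw [om_apply, h, hd, hd2]
      linear_combination (2 : ℂ) ^ m * mu0_mul_self (m := m) b
    simp only [this, Finset.sum_const, Finset.card_univ, hF, nsmul_eq_mul]
    push_cast
    ring
  · rcases sq_add_sq_eq_four_pow m n₁ n₃ hsq with ⟨h1, h2⟩ | ⟨h1, h2⟩
    · left
      rw [e2im, h1, h2]
      push_cast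
      ring
    · right
      rw [e2im, h1, h2]
      push_cast
      ring

end Cfsg.Agent.Lib.Helper8.Sz
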