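import Cfsg.Agent.Lib.Helper8.Sz43

set_option autoImplicit false

namespace Cfsg.Agent.Lib.Helper8.Sz

open Cfsg Matrix
open scoped ComplexConjugate
open Cfsg.Agent.Lib.Helper4

variable {F : Type*} [Field F] [Fintype F] {m : ℕ}

variable (hF : Fintype.card F = 2 ^ (2 * m + 1))

include hF

theorem sum_mu0 : ∑ b : F, mu0 m b = 0 :=
  sum_eq_zero_of_neg_one _ (mu0_add hF) 1 (mu0_one hF)

section Q

variable [Fintype (QS hF)]

/-- data of an irreducible character of the group of translations -/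
theorem irrQ_data (φ : IrrCharacter (QS hF)) :
    ∃ (k : ℕ) (ε : ℤ) (t : ℕ) (c : ℤ),
      ∑ b : F, φ.1 (qS hF 0 b) * mu0 m b = (2 : ℂ) ^ (2 * m + 1) * (2 : ℂ) ^ m * k ∧
      (φ.1 (qS hF 1 0)).im = (2 : ℝ) ^ m * ε ∧ ε - k = 2 * c ∧
      ∑ b : F, φ.1 (qS hF 0 b) = t := by
  obtain ⟨t, ht⟩ := irrQ_sum_center hF φ
  by_cases h : ∀ b, om hF φ b = mu0 m b
  · obtain ⟨h1, h2⟩ := irrQ_type_one hF φ h
    rcases h2 with h2 | h2
    · exact ⟨1, 1, t, 0, by rw [h1]; push_cast; ring, by rw [h2]; push_cast; ring, by norm_num, ht⟩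
    · exact ⟨1, -1, t, -1, by rw [h1]; push_cast; ring, by rw [h2]; push_cast; ring,
        by norm_num, ht⟩
  · push_neg at h
    obtain ⟨b₀, hb₀⟩ := h
    obtain ⟨h1, h2⟩ := irrQ_type_zero hF φ hb₀
    exact ⟨0, 0, t, 0, by rw [h1]; push_cast; ring, by rw [h2]; push_cast; ring, by norm_num, ht⟩

/-- data of a character of the group of translations -/
theorem charQ_data {Φ : QS hF → ℂ} (hΦ : IsCharacter (QS hF) Φ) :
    ∃ (e : ℕ) (δ : ℤ) (t : ℕ) (c : ℤ),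
      ∑ b : F, Φ (qS hF 0 b) * mu0 m b = (2 : ℂ) ^ (2 * m + 1) * (2 : ℂ) ^ m * e ∧
      (Φ (qS hF 1 0)).im = (2 : ℝ) ^ m * δ ∧ δ - e = 2 * c ∧
      ∑ b : F, Φ (qS hF 0 b) = t := by
  classical
  have := irr_finite (G := QS hF)
  letI : Fintype (IrrCharacter (QS hF)) := Fintype.ofFinite _
  obtain ⟨mm, hmm⟩ := exists_decomp_of_isCharacter Φ hΦ
  choose k ε t c h1 h2 h3 h4 using irrQ_data hF
  have hval : ∀ x : QS hF, Φ x = ∑ φ : IrrCharacter (QS hF), (mm φ : ℂ) * φ.1 x := by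
    intro x
    rw [hmm]
    simp [Finset.sum_apply]
  refine ⟨∑ φ, mm φ * k φ, ∑ φ, (mm φ : ℤ) * ε φ, ∑ φ, mm φ * t φ, ∑ φ, (mm φ : ℤ) * c φ,
    ?_, ?_, ?_, ?_⟩
  · simp only [hval, Finset.sum_mul]
    rw [Finset.sum_comm]
    push_cast
    rw [Finset.mul_sum]
    refine Finset.sum_congr rfl fun φ _ => ?_
    have e : (2 : ℂ) ^ (2 * m + 1) * (2 : ℂ) ^ m * ((mm φ : ℂ) * (k φ : ℂ)) =
        (mm φ : ℂ) * ((2 : ℂ) ^ (2 * m + 1) * (2 : ℂ) ^ m * (k φ : ℂ)) := by ring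
    rw [e, ← h1 φ, Finset.mul_sum]
    refine Finset.sum_congr rfl fun b _ => ?_
    ring
  · rw [hval, Complex.im_sum]
    push_cast
    rw [Finset.mul_sum]
    refine Finset.sum_congr rfl fun φ _ => ?_
    rw [Complex.mul_im, Complex.natCast_re, Complex.natCast_im, h2 φ]
    ring
  · push_cast
    rw [← Finset.sum_sub_distrib, Finset.mul_sum]
    refine Finset.sum_congr rfl fun φ _ => ?_
    have := h3 φ
    linear_combination (mm φ : ℤ) * this
  · simp only [hval]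
    rw [Finset.sum_comm]
    push_cast
    refine Finset.sum_congr rfl fun φ _ => ?_
    rw [← h4 φ, Finset.mul_sum]

end Q

/-- the numerical data of a character of the Suzuki group -/
theorem char_data {f : Sz F m → ℂ} (hf : IsCharacter (Sz F m) f) :
    ∃ (x e t : ℕ) (s u v δ c : ℤ), f 1 = x ∧ f (TS hF 0 1) = s ∧
      f (TS hF 1 0) = (u : ℂ) + (v : ℂ) * Complex.I ∧
      f (TS hF 1 1) = (u : ℂ) - (v : ℂ) * Complex.I ∧
      (x : ℤ) - s = 2 ^ (2 * m + 1) * 2 ^ m * e ∧ v = 2 ^ m * δ ∧ δ - e = 2 * c ∧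
      (x : ℤ) + (2 ^ (2 * m + 1) - 1) * s = t := by
  classical
  letI : Fintype (QS hF) := Fintype.ofFinite _
  have hcf : IsClassFunction (Sz F m) f := Cfsg.Agent.Lib.Helper35.isClassFunction_of_isCharacter hf
  have h4 : (TS hF 1 0) ^ 4 = 1 := TS_pow_four hF 1 0
  obtain ⟨n₀, n₁, n₂, n₃, e1, e2, e3⟩ := char_order_four hf (TS hF 1 0) h4
  rw [TS_one_sq] at e3
  obtain ⟨e, δ, t, c, q1, q2, q3, q4⟩ :=
    charQ_data hF (Cfsg.Agent.Lib.Helper35.isCharacter_res (QS hF) hf)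
  have hres : ∀ a b : F, Cfsg.Agent.Lib.Helper35.res (QS hF) f (qS hF a b) = f (TS hF a b) :=
    fun a b => rfl
  simp only [hres] at q1 q2 q4
  -- the sums over the centre
  have hc : ∀ b : F, b ≠ 0 → f (TS hF 0 b) = f (TS hF 0 1) := fun b hb => cf_TS_center hF hcf hb
  have hsum1 : ∑ b : F, f (TS hF 0 b) * mu0 m b = f 1 - f (TS hF 0 1) := by
    have h0 : mu0 m (0 : F) = 1 := mu0_of_mem KS_zero
    have hs := sum_mu0 hF (m := m)
    rw [← Finset.add_sum_erase Finset.univ _ (Finset.mem_univ (0 : F))] at hs ⊢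
    rw [TS_zero, h0, mul_one]
    rw [Finset.sum_congr rfl (fun b hb => by rw [hc b (Finset.ne_of_mem_erase hb)]),
      ← Finset.mul_sum]
    rw [h0] at hs
    linear_combination f (TS hF 0 1) * hs
  have hsum2 := sum_cf_center hF hcf
  rw [hsum1] at q1
  rw [hsum2] at q4
  have hinv : f (TS hF 1 1) = conj (f (TS hF 1 0)) := by
    rw [← TS_one_inv hF]
    obtain ⟨n, ρ, rfl⟩ := hf
    exact Cfsg.Agent.Lib.Helper4.char_inv ρ _
  refine ⟨n₀ + n₁ + n₂ + n₃, e, t, (n₀ : ℤ) - n₁ + n₂ - n₃, (n₀ : ℤ) - n₂, (n₁ : ℤ) - n₃, δ, c,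
    by rw [e1]; push_cast; ring, by rw [e3]; push_cast; ring, by rw [e2]; push_cast; ring, ?_,
    ?_, ?_, q3, ?_⟩
  · rw [hinv, e2]
    simp only [map_add, map_sub, map_mul, Complex.conj_I, map_natCast]
    push_cast
    ring
  · rw [e1, e3] at q1
    have : (((n₀ + n₁ + n₂ + n₃ : ℕ) : ℤ) - ((n₀ : ℤ) - n₁ + n₂ - n₃) : ℂ) =
        ((2 ^ (2 * m + 1) * 2 ^ m * e : ℤ) : ℂ) := by
      push_cast
      rw [← q1]
    exact_mod_cast this
  · have e2im := congrArg Complex.im e2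
    simp at e2im
    rw [q2] at e2im
    have : (((n₁ : ℤ) - n₃ : ℤ) : ℝ) = ((2 ^ m * δ : ℤ) : ℝ) := by
      push_cast
      linarith
    exact_mod_cast this
  · rw [e1, e3] at q4
    have : (((n₀ + n₁ + n₂ + n₃ : ℕ) : ℤ) + (2 ^ (2 * m + 1) - 1) * ((n₀ : ℤ) - n₁ + n₂ - n₃) : ℂ)
        = ((t : ℤ) : ℂ) := by
      push_cast
      rw [← q4]
    exact_mod_cast this

end Cfsg.Agent.Lib.Helper8.Sz
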