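import Cfsg.Agent.Lib.Helper8.Sz44
import Cfsg.Agent.Lib.Helper46.Ind

set_option autoImplicit false

namespace Cfsg.Agent.Lib.Helper8.Sz

open Cfsg Matrix
open scoped ComplexConjugate
open Cfsg.Agent.Lib.Helper4

variable {F : Type*} [Field F] [Fintype F] {m : ℕ}

variable (hF : Fintype.card F = 2 ^ (2 * m + 1)) (hm : 1 ≤ m)

include hF hm

/-! ### the linear characters of the Borel subgroup -/

theorem exists_hpart (g : Bsub F m) :
    ∃ s : Fˣ, ∃ a b : F, (g : Sz F m) = TS hF a b * HS hF s := by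
  obtain ⟨a, b, s, h⟩ := fix_inf_decomp' hF hm g.1 g.2
  exact ⟨s, a, b, h⟩

/-- the torus part of an element of the Borel subgroup -/
noncomputable def hpartFun (g : Bsub F m) : Fˣ := Classical.choose (exists_hpart hF hm g)

theorem hpartFun_spec (g : Bsub F m) :
    ∃ a b : F, (g : Sz F m) = TS hF a b * HS hF (hpartFun hF hm g) :=
  Classical.choose_spec (exists_hpart hF hm g)

theorem hpartFun_eq {g : Bsub F m} {a b : F} {s : Fˣ} (h : (g : Sz F m) = TS hF a b * HS hF s) :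
    hpartFun hF hm g = s := by
  obtain ⟨a', b', h'⟩ := hpartFun_spec hF hm g
  rw [h] at h'
  exact (TH_unique hF h').2.2.symm

/-- the projection of the Borel subgroup onto the torus -/
noncomputable def hpart : Bsub F m →* Fˣ where
  toFun := hpartFun hF hm
  map_one' := hpartFun_eq hF hm (a := 0) (b := 0) (by rw [TS_zero, HS_one, one_mul]; rfl)
  map_mul' := by
    intro g g'
    obtain ⟨a, b, h⟩ := hpartFun_spec hF hm g
    obtain ⟨a', b', h'⟩ := hpartFun_spec hF hm g'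
    exact hpartFun_eq hF hm (by rw [Subgroup.coe_mul, h, h', TH_mul])

theorem hpart_eq {g : Bsub F m} {a b : F} {s : Fˣ} (h : (g : Sz F m) = TS hF a b * HS hF s) :
    hpart hF hm g = s := hpartFun_eq hF hm h

/-- the linear character of the Borel subgroup attached to a character of the torus -/
noncomputable def lam (φ : Fˣ →* ℂˣ) : Bsub F m → ℂ := fun g => ((φ (hpart hF hm g) : ℂˣ) : ℂ)

theorem lam_irr (φ : Fˣ →* ℂˣ) : IsIrrCharacter (Bsub F m) (lam hF hm φ) :=
  isIrrCharacter_lin (φ.comp (hpart hF hm))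

theorem lam_apply (φ : Fˣ →* ℂˣ) {g : Bsub F m} {a b : F} {s : Fˣ}
    (h : (g : Sz F m) = TS hF a b * HS hF s) : lam hF hm φ g = ((φ s : ℂˣ) : ℂ) := by
  rw [lam, hpart_eq hF hm h]

theorem lam_classFunction (φ : Fˣ →* ℂˣ) : IsClassFunction (Bsub F m) (lam hF hm φ) := by
  intro g h
  simp only [lam, map_mul, map_inv]
  rw [mul_comm, ← mul_assoc, inv_mul_cancel, one_mul]

/-! ### a transversal of the Borel subgroup -/

omit hm in
theorem smul_Pinf_of_mem {n : Sz F m} (hn : n ∈ Bsub F m) (c d : F) :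
    (TS hF c d * wS hF * n).1 • Pinf F = Paff m c d := by
  have hn' : n.1 • Pinf F = Pinf F := hn
  show (Tg m c d * wg F * n.1) • Pinf F = _
  rw [mul_smul, mul_smul, hn', wg_smul_Pinf (m := m), Tg_smul_zero hF]

omit hm in
/-- the transversal -/
noncomputable def Tr : Option (F × F) → Sz F m
  | none => 1
  | some p => TS hF p.1 p.2 * wS hF

omit hm in
theorem Tr_bijective :
    Function.Bijective (fun p : Option (F × F) × Bsub F m => Tr hF p.1 * (p.2 : Sz F m)) := by
  constructor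
  · rintro ⟨i, n⟩ ⟨i', n'⟩ h
    simp only at h
    have hn : (n : Sz F m).1 • Pinf F = Pinf F := n.2
    have hn' : (n' : Sz F m).1 • Pinf F = Pinf F := n'.2
    cases i with
    | none =>
      cases i' with
      | none =>
        simp only [Tr, one_mul] at h
        exact Prod.ext rfl (Subtype.ext h)
      | some p' =>
        exfalso
        have h2 := congrArg (fun x : Sz F m => x.1 • Pinf F) h
        simp only [Tr, one_mul] at h2
        rw [smul_Pinf_of_mem hF n'.2, hn] at h2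
        exact Paff_ne_Pinf _ _ h2.symm
    | some p =>
      cases i' with
      | none =>
        exfalso
        have h2 := congrArg (fun x : Sz F m => x.1 • Pinf F) h
        simp only [Tr, one_mul] at h2
        rw [smul_Pinf_of_mem hF n.2, hn'] at h2
        exact Paff_ne_Pinf _ _ h2
      | some p' =>
        have h2 := congrArg (fun x : Sz F m => x.1 • Pinf F) h
        simp only [Tr] at h2
        rw [smul_Pinf_of_mem hF n.2, smul_Pinf_of_mem hF n'.2] at h2
        obtain ⟨e1, e2⟩ := Paff_inj h2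
        have hp : p = p' := Prod.ext e1 e2
        subst hp
        have h3 := mul_left_cancel h
        exact Prod.ext rfl (Subtype.ext h3)
  · intro x
    by_cases hx : x ∈ Bsub F m
    · exact ⟨(none, ⟨x, hx⟩), one_mul x⟩
    · obtain ⟨a, b, n, hn, rfl⟩ := bruhat_decomp hF x hx
      exact ⟨(some (a, b), ⟨n, hn⟩), rfl⟩

/-! ### the induced characters -/

open Classical in
theorem ext_term (φ : Fˣ →* ℂˣ) (a b : F) (s : Fˣ) (c d : F) :
    extendByZero (Bsub F m) (lam hF hm φ)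
        ((TS hF c d * wS hF)⁻¹ * (TS hF a b * HS hF s) * (TS hF c d * wS hF)) =
      if TS hF a b * HS hF s = TS hF c d * HS hF s * (TS hF c d)⁻¹ then
        (((φ s : ℂˣ) : ℂ))⁻¹ else 0 := by
  obtain ⟨a', b', h⟩ := Bsub_conj_form hF hm (TS_mem_Bsub hF c d) a b s
  have e : (TS hF c d * wS hF)⁻¹ * (TS hF a b * HS hF s) * (TS hF c d * wS hF) =
      wS hF * (TS hF a' b' * HS hF s) * wS hF := by
    rw [← h, _root_.mul_inv_rev, wS_inv]
    group
  rw [e]
  by_cases h0 : a' = 0 ∧ b' = 0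
  · obtain ⟨rfl, rfl⟩ := h0
    rw [TS_zero, one_mul] at h ⊢
    rw [wS_mul_HS_mul_wS]
    have hcond : TS hF a b * HS hF s = TS hF c d * HS hF s * (TS hF c d)⁻¹ := by
      have h' : TS hF c d * ((TS hF c d)⁻¹ * (TS hF a b * HS hF s) * TS hF c d) *
          (TS hF c d)⁻¹ = TS hF c d * HS hF s * (TS hF c d)⁻¹ := by rw [h]
      rw [← h']
      group
    rw [if_pos hcond, Cfsg.Agent.Lib.Helper35.ext_mem _ _ _ (HS_mem_Bsub hF s⁻¹),
      lam_apply hF hm φ (a := 0) (b := 0) (s := s⁻¹) (by rw [TS_zero, one_mul]), map_inv,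
      Units.val_inv_eq_inv_val]
  · have hnot : wS hF * (TS hF a' b' * HS hF s) * wS hF ∉ Bsub F m := by
      intro hmem
      have h1 : TS hF a' b' * HS hF s ∈ Bopp hF := (mem_Bopp_iff hF _).2 hmem
      have h2 : TS hF a' b' * HS hF s ∈ Bsub F m :=
        (Bsub F m).mul_mem (TS_mem_Bsub hF a' b') (HS_mem_Bsub hF s)
      have h3 : TS hF a' b' * HS hF s ∈ (HSub hF : Set (Sz F m)) := by
        rw [← Bsub_inter_Bopp hF hm]
        exact ⟨h2, h1⟩
      obtain ⟨t, ht⟩ := (mem_HSub_iff hF _).1 h3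
      have h4 : TS hF a' b' * HS hF s = TS hF 0 0 * HS hF t := by
        rw [TS_zero, one_mul]
        exact ht
      obtain ⟨e1, e2, -⟩ := TH_unique hF h4
      exact h0 ⟨e1, e2⟩
    have hcond : ¬ (TS hF a b * HS hF s = TS hF c d * HS hF s * (TS hF c d)⁻¹) := by
      intro hc
      apply h0
      have h5 : TS hF a' b' * HS hF s = TS hF 0 0 * HS hF s := by
        rw [← h, hc, TS_zero, one_mul]
        group
      obtain ⟨e1, e2, -⟩ := TH_unique hF h5
      exact ⟨e1, e2⟩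
    rw [if_neg hcond, Cfsg.Agent.Lib.Helper35.ext_not_mem _ _ _ hnot]

variable [Fintype (Sz F m)]

/-- the induced character -/
noncomputable def Ich (φ : Fˣ →* ℂˣ) : Sz F m → ℂ := indFun (Bsub F m) (lam hF hm φ)

theorem Ich_isCharacter (φ : Fˣ →* ℂˣ) : IsCharacter (Sz F m) (Ich hF hm φ) :=
  Cfsg.Agent.Lib.Helper35.isCharacter_indFun _
    (Cfsg.Agent.Lib.Helper35.isChar_of_irr (lam_irr hF hm φ))

theorem Ich_classFunction (φ : Fˣ →* ℂˣ) : IsClassFunction (Sz F m) (Ich hF hm φ) :=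
  Cfsg.Agent.Lib.Helper35.isClassFunction_indFun _ _

open Classical in
theorem Ich_apply_B (φ : Fˣ →* ℂˣ) (a b : F) (s : Fˣ) :
    Ich hF hm φ (TS hF a b * HS hF s) = ((φ s : ℂˣ) : ℂ) +
      ∑ p : F × F, (if TS hF a b * HS hF s = TS hF p.1 p.2 * HS hF s * (TS hF p.1 p.2)⁻¹ then
        (((φ s : ℂˣ) : ℂ))⁻¹ else 0) := by
  letI : Fintype (Bsub F m) := Fintype.ofFinite _
  rw [Ich, Cfsg.Agent.Lib.Helper46.indFun_eq_sum_transversal (Bsub F m) (lam hF hm φ)
    (lam_classFunction hF hm φ) (Tr hF) (Tr_bijective hF), Fintype.sum_option]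
  congr 1
  · have hmem : TS hF a b * HS hF s ∈ Bsub F m :=
      (Bsub F m).mul_mem (TS_mem_Bsub hF a b) (HS_mem_Bsub hF s)
    simp only [Tr, inv_one, one_mul, mul_one]
    rw [Cfsg.Agent.Lib.Helper35.ext_mem _ _ _ hmem]
    exact lam_apply hF hm φ rfl
  · refine Finset.sum_congr rfl fun p _ => ?_
    exact ext_term hF hm φ a b s p.1 p.2

theorem Ich_TS (φ : Fˣ →* ℂˣ) {a b : F} (hab : ¬ (a = 0 ∧ b = 0)) :
    Ich hF hm φ (TS hF a b) = 1 := by
  classical
  have h := Ich_apply_B hF hm φ a b 1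
  rw [HS_one, mul_one] at h
  rw [h, map_one, Units.val_one]
  have : ∀ p : F × F, ¬ (TS hF a b = TS hF p.1 p.2 * 1 * (TS hF p.1 p.2)⁻¹) := by
    intro p hp
    rw [mul_one, mul_inv_cancel] at hp
    exact TS_ne_one' hF hab hp
  simp only [this, if_false, Finset.sum_const_zero, add_zero]

theorem Ich_one (φ : Fˣ →* ℂˣ) : Ich hF hm φ 1 = ((2 : ℂ) ^ (2 * m + 1)) ^ 2 + 1 := by
  classical
  have h := Ich_apply_B hF hm φ 0 0 1
  rw [HS_one, TS_zero, mul_one] at h
  rw [h, map_one, Units.val_one]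
  simp only [mul_one, mul_inv_cancel, if_true, inv_one, Finset.sum_const, Finset.card_univ,
    Fintype.card_prod, hF, nsmul_eq_mul]
  push_cast
  ring

theorem sum_Ich_row (φ : Fˣ →* ℂˣ) (s : Fˣ) :
    ∑ p : F × F, Ich hF hm φ (TS hF p.1 p.2 * HS hF s) =
      ((2 : ℂ) ^ (2 * m + 1)) ^ 2 * (((φ s : ℂˣ) : ℂ) + (((φ s : ℂˣ) : ℂ))⁻¹) := by
  classical
  simp only [Ich_apply_B hF hm φ]
  rw [Finset.sum_add_distrib, Finset.sum_comm]
  have h1 : ∀ p' : F × F, ∑ p : F × F,
      (if TS hF p.1 p.2 * HS hF s = TS hF p'.1 p'.2 * HS hF s * (TS hF p'.1 p'.2)⁻¹ then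
        (((φ s : ℂˣ) : ℂ))⁻¹ else 0) = (((φ s : ℂˣ) : ℂ))⁻¹ := by
    intro p'
    have hn : (TS hF p'.1 p'.2)⁻¹ ∈ Bsub F m := (Bsub F m).inv_mem (TS_mem_Bsub hF _ _)
    obtain ⟨a₀, b₀, h0⟩ := Bsub_conj_form hF hm hn 0 0 s
    rw [inv_inv, TS_zero, one_mul] at h0
    rw [h0]
    have : ∀ p : F × F, (TS hF p.1 p.2 * HS hF s = TS hF a₀ b₀ * HS hF s) ↔ p = (a₀, b₀) := by
      intro p
      constructor
      · intro h
        obtain ⟨e1, e2, -⟩ := TH_unique hF h
        exact Prod.ext e1 e2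
      · rintro rfl
        rfl
    simp only [this]
    rw [Finset.sum_ite_eq' Finset.univ (a₀, b₀) (fun _ => (((φ s : ℂˣ) : ℂ))⁻¹)]
    simp
  simp only [h1, Finset.sum_const, Finset.card_univ, Fintype.card_prod, hF, nsmul_eq_mul]
  push_cast
  ring

end Cfsg.Agent.Lib.Helper8.Sz
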