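import Cfsg.Agent.Lib.Helper8.Sz45

set_option autoImplicit false

namespace Cfsg.Agent.Lib.Helper8.Sz

open Cfsg Matrix
open scoped ComplexConjugate
open Cfsg.Agent.Lib.Helper4

theorem pow_q_ne (m : ℕ) : ((2 : ℂ) ^ (2 * m + 1) - 1) ≠ 0 := by
  have h : (2 : ℝ) ^ (2 * m + 1) ≠ 1 := by
    have : (1 : ℝ) < 2 ^ (2 * m + 1) := one_lt_pow₀ (by norm_num) (by omega)
    exact ne_of_gt this
  intro h0
  apply h
  have h1 : ((2 : ℂ) ^ (2 * m + 1)) = 1 := by linear_combination h0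
  exact_mod_cast h1

variable {F : Type*} [Field F] [Fintype F] [DecidableEq F] {m : ℕ}

/-! ### characters of the torus -/

omit [Fintype F] [DecidableEq F] in
theorem conj_char [Finite F] (χ : Fˣ →* ℂˣ) (s : Fˣ) :
    conj ((χ s : ℂˣ) : ℂ) = (((χ s : ℂˣ) : ℂ))⁻¹ := by
  have h1 : ((χ s : ℂˣ) : ℂ) ^ Nat.card Fˣ = 1 := by
    rw [← Units.val_pow_eq_pow_val, ← map_pow, pow_card_eq_one', map_one, Units.val_one]
  have h2 : ‖((χ s : ℂˣ) : ℂ)‖ = 1 :=
    Complex.norm_eq_one_of_pow_eq_one h1 Nat.card_pos.ne'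
  exact (Complex.inv_eq_conj h2).symm

variable (hF : Fintype.card F = 2 ^ (2 * m + 1))

include hF

open Classical in
theorem sum_char (χ : Fˣ →* ℂˣ) :
    ∑ s : Fˣ, ((χ s : ℂˣ) : ℂ) = if χ = 1 then ((2 : ℂ) ^ (2 * m + 1) - 1) else 0 := by
  by_cases h : χ = 1
  · rw [if_pos h, h]
    simp only [MonoidHom.one_apply, Units.val_one, Finset.sum_const, Finset.card_univ,
      nsmul_eq_mul, mul_one, Fintype.card_units, hF]
    rw [Nat.cast_sub Nat.one_le_two_pow]
    push_cast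
    ring
  · rw [if_neg h]
    have h2 : (Units.coeHom ℂ).comp χ ≠ 1 := by
      intro h3
      apply h
      ext s
      have := congrArg (fun f : Fˣ →* ℂ => f s) h3
      simpa using this
    have := sum_hom_units_eq_zero ((Units.coeHom ℂ).comp χ) h2
    simpa using this

/-- the dual group of the torus -/
noncomputable def dualE (F : Type*) [Field F] [Fintype F] : Fˣ ≃* (Fˣ →* ℂˣ) :=
  haveI : NeZero (Monoid.exponent Fˣ) := ⟨Monoid.exponent_ne_zero_of_finite⟩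
  (CommGroup.monoidHom_mulEquiv_of_hasEnoughRootsOfUnity Fˣ ℂ).some.symm

open Classical in
theorem sum_dual (s : Fˣ) :
    ∑ a : Fˣ, ((dualE F a s : ℂˣ) : ℂ) = if s = 1 then ((2 : ℂ) ^ (2 * m + 1) - 1) else 0 := by
  by_cases h : s = 1
  · rw [if_pos h, h]
    simp only [map_one, Units.val_one, Finset.sum_const, Finset.card_univ,
      nsmul_eq_mul, mul_one, Fintype.card_units, hF]
    rw [Nat.cast_sub Nat.one_le_two_pow]
    push_cast
    ring
  · rw [if_neg h]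
    haveI : NeZero (Monoid.exponent Fˣ) := ⟨Monoid.exponent_ne_zero_of_finite⟩
    obtain ⟨φ₀, hφ₀⟩ := CommGroup.exists_apply_ne_one_of_hasEnoughRootsOfUnity Fˣ ℂ h
    have e := Equiv.sum_comp (Equiv.mulLeft ((dualE F).symm φ₀))
      (fun a : Fˣ => ((dualE F a s : ℂˣ) : ℂ))
    simp only [Equiv.coe_mulLeft, map_mul, MulEquiv.apply_symm_apply, MonoidHom.mul_apply,
      Units.val_mul] at e
    rw [← Finset.mul_sum] at e
    have hne : ((φ₀ s : ℂˣ) : ℂ) - 1 ≠ 0 := by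
      intro h0
      apply hφ₀
      ext
      rw [Units.val_one]
      linear_combination h0
    have h3 : (((φ₀ s : ℂˣ) : ℂ) - 1) * ∑ a : Fˣ, ((dualE F a s : ℂˣ) : ℂ) = 0 := by
      linear_combination e
    rcases mul_eq_zero.1 h3 with h4 | h4
    · exact absurd h4 hne
    · exact h4

/-! ### summation over the Borel subgroup -/

variable (hm : 1 ≤ m)

include hm

omit hm in
theorem mem_Bsub_TH (a b : F) (s : Fˣ) : TS hF a b * HS hF s ∈ Bsub F m :=
  (Bsub F m).mul_mem (TS_mem_Bsub hF a b) (HS_mem_Bsub hF s)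

theorem Bsub_bijective : Function.Bijective (fun p : Fˣ × (F × F) =>
    (⟨TS hF p.2.1 p.2.2 * HS hF p.1, mem_Bsub_TH hF _ _ _⟩ : Bsub F m)) := by
  constructor
  · rintro ⟨s, a, b⟩ ⟨s', a', b'⟩ h
    obtain ⟨rfl, rfl, rfl⟩ := TH_unique hF (congrArg Subtype.val h)
    rfl
  · rintro ⟨g, hg⟩
    obtain ⟨a, b, s, rfl⟩ := fix_inf_decomp' hF hm g hg
    exact ⟨(s, a, b), rfl⟩

theorem card_Bsub :
    Nat.card (Bsub F m) = (2 ^ (2 * m + 1) - 1) * ((2 ^ (2 * m + 1)) * (2 ^ (2 * m + 1))) := by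
  rw [← Nat.card_congr (Equiv.ofBijective _ (Bsub_bijective hF hm)), Nat.card_prod, Nat.card_prod,
    Nat.card_eq_fintype_card, Nat.card_eq_fintype_card, Fintype.card_units, hF]

theorem sum_Bsub [Fintype (Bsub F m)] (Φ : Bsub F m → ℂ) :
    ∑ g : Bsub F m, Φ g =
      ∑ s : Fˣ, ∑ p : F × F, Φ ⟨TS hF p.1 p.2 * HS hF s, mem_Bsub_TH hF _ _ _⟩ := by
  rw [← Fintype.sum_bijective _ (Bsub_bijective hF hm) (fun p : Fˣ × (F × F) =>
    Φ ⟨TS hF p.2.1 p.2.2 * HS hF p.1, mem_Bsub_TH hF _ _ _⟩) Φ (fun _ => rfl),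
    Fintype.sum_prod_type]

variable [Fintype (Sz F m)]

/-- the inner product of a function with an induced character -/
theorem inner_Ich_left (φ : Fˣ →* ℂˣ) {f : Sz F m → ℂ} (hf : IsClassFunction (Sz F m) f) :
    classInner (Ich hF hm φ) f =
      (((2 : ℂ) ^ (2 * m + 1) - 1) * ((2 : ℂ) ^ (2 * m + 1) * (2 : ℂ) ^ (2 * m + 1)))⁻¹ *
        ∑ s : Fˣ, ((φ s : ℂˣ) : ℂ) * conj (∑ p : F × F, f (TS hF p.1 p.2 * HS hF s)) := by
  letI : Fintype (Bsub F m) := Fintype.ofFinite _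
  rw [Ich, Cfsg.Agent.Lib.Helper35.frobenius_reciprocity _ _ _ hf, classInner,
    card_Bsub hF hm, sum_Bsub hF hm]
  congr 1
  · rw [Nat.cast_mul, Nat.cast_sub Nat.one_le_two_pow]
    push_cast
    ring
  · refine Finset.sum_congr rfl fun s _ => ?_
    rw [map_sum, Finset.mul_sum]
    refine Finset.sum_congr rfl fun p _ => ?_
    rw [lam_apply hF hm φ (a := p.1) (b := p.2) (s := s) rfl]
    rfl

open Classical in
theorem inner_Ich (φ ψ : Fˣ →* ℂˣ) :
    classInner (Ich hF hm φ) (Ich hF hm ψ) =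
      (if φ = ψ then 1 else 0) + (if φ * ψ = 1 then 1 else 0) := by
  rw [inner_Ich_left hF hm φ (Ich_classFunction hF hm ψ)]
  have h1 : ∀ s : Fˣ, ((φ s : ℂˣ) : ℂ) * conj (∑ p : F × F, Ich hF hm ψ (TS hF p.1 p.2 * HS hF s)) =
      ((2 : ℂ) ^ (2 * m + 1)) ^ 2 * ((((φ * ψ⁻¹) s : ℂˣ) : ℂ) + (((φ * ψ) s : ℂˣ) : ℂ)) := by
    intro s
    rw [sum_Ich_row, map_mul, map_add, map_inv₀, conj_char, inv_inv]
    simp only [map_pow, map_ofNat, MonoidHom.mul_apply, MonoidHom.inv_apply, Units.val_mul,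
      Units.val_inv_eq_inv_val]
    ring
  simp only [h1]
  rw [← Finset.mul_sum, Finset.sum_add_distrib, sum_char hF, sum_char hF]
  have hq1 := pow_q_ne m
  have hq : ((2 : ℂ) ^ (2 * m + 1)) ≠ 0 := pow_ne_zero _ two_ne_zero
  have e1 : (φ * ψ⁻¹ = 1) ↔ φ = ψ := by
    constructor
    · intro h
      ext s
      have h' := congrArg (fun f : Fˣ →* ℂˣ => f s) h
      simp only [MonoidHom.mul_apply, MonoidHom.inv_apply, MonoidHom.one_apply] at h'
      rw [mul_inv_eq_one.1 h']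
    · rintro rfl
      ext s
      simp
  simp only [e1]
  by_cases h2 : φ = ψ <;> by_cases h3 : φ * ψ = 1
  · rw [if_pos h2, if_pos h3, if_pos h2, if_pos h3]
    field_simp
  · rw [if_pos h2, if_neg h3, if_pos h2, if_neg h3]
    field_simp
    ring
  · rw [if_neg h2, if_pos h3, if_neg h2, if_pos h3]
    field_simp
    ring
  · rw [if_neg h2, if_neg h3, if_neg h2, if_neg h3]
    simp

/-- the sum of the inner products with all induced characters -/
theorem sum_inner_Ich {f : Sz F m → ℂ} (hf : IsClassFunction (Sz F m) f) :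
    ∑ a : Fˣ, classInner (Ich hF hm (dualE F a)) f =
      (((2 : ℂ) ^ (2 * m + 1)) * ((2 : ℂ) ^ (2 * m + 1)))⁻¹ *
        conj (∑ p : F × F, f (TS hF p.1 p.2)) := by
  classical
  simp only [inner_Ich_left hF hm _ hf]
  rw [← Finset.mul_sum, Finset.sum_comm]
  simp only [← Finset.sum_mul, sum_dual hF]
  rw [Finset.sum_eq_single (1 : Fˣ)]
  · rw [if_pos rfl]
    simp only [HS_one, mul_one]
    have hq1 := pow_q_ne m
    have hq : ((2 : ℂ) ^ (2 * m + 1)) ≠ 0 := pow_ne_zero _ two_ne_zero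
    field_simp
  · intro s _ hs
    rw [if_neg hs, zero_mul]
  · intro h
    exact absurd (Finset.mem_univ _) h

end Cfsg.Agent.Lib.Helper8.Sz
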