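import Cfsg.Agent.Lib.Helper8.Sz46
import Cfsg.Agent.Lib.Helper4.CharClosure

set_option autoImplicit false

namespace Cfsg.Agent.Lib.Helper8.Sz

open Cfsg Matrix
open scoped ComplexConjugate
open Cfsg.Agent.Lib.Helper4

variable {F : Type*} [Field F] [Fintype F] [DecidableEq F] {m : ℕ}

variable (hF : Fintype.card F = 2 ^ (2 * m + 1)) (hm : 1 ≤ m)

include hF

theorem unit_sq_ne_one {a : Fˣ} (ha : a ≠ 1) : a * a ≠ 1 := by
  intro h
  apply ha
  ext
  have h2 : (a : F) ^ 2 = 1 := by
    rw [pow_two, ← Units.val_mul, h, Units.val_one]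
  rw [Units.val_one]
  exact sq_eq_one hF h2

include hm

variable [Fintype (Sz F m)]

theorem norm_Ich {a : Fˣ} (ha : a ≠ 1) :
    classInner (Ich hF hm (dualE F a)) (Ich hF hm (dualE F a)) = 1 := by
  classical
  rw [inner_Ich, if_pos rfl, if_neg, add_zero]
  intro h
  rw [← map_mul] at h
  exact unit_sq_ne_one hF ha ((map_eq_one_iff (dualE F) (dualE F).injective).1 h)

theorem Ich_irr {a : Fˣ} (ha : a ≠ 1) : IsIrrCharacter (Sz F m) (Ich hF hm (dualE F a)) := by
  have := irr_finite (G := Sz F m)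
  letI : Fintype (IrrCharacter (Sz F m)) := Fintype.ofFinite _
  exact isIrrCharacter_of_norm_one _ (Ich_isCharacter hF hm _) (norm_Ich hF hm ha)

open Classical in
/-- the irreducible induced characters -/
noncomputable def IchIrr (a : Fˣ) : IrrCharacter (Sz F m) :=
  if ha : a ≠ 1 then ⟨Ich hF hm (dualE F a), Ich_irr hF hm ha⟩ else trivIrr

theorem IchIrr_val {a : Fˣ} (ha : a ≠ 1) : (IchIrr hF hm a).1 = Ich hF hm (dualE F a) := by
  rw [IchIrr, dif_pos ha]

theorem IchIrr_eq_iff {a b : Fˣ} (ha : a ≠ 1) (hb : b ≠ 1) :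
    IchIrr hF hm a = IchIrr hF hm b ↔ (a = b ∨ a * b = 1) := by
  classical
  have h1 := classInner_irr (IchIrr hF hm a) (IchIrr hF hm b)
  rw [IchIrr_val hF hm ha, IchIrr_val hF hm hb, inner_Ich] at h1
  have e1 : (dualE F a = dualE F b) ↔ a = b := (dualE F).injective.eq_iff
  have e2 : (dualE F a * dualE F b = 1) ↔ a * b = 1 := by
    rw [← map_mul]
    exact map_eq_one_iff (dualE F) (dualE F).injective
  simp only [e1, e2] at h1
  constructor
  · intro h
    rw [if_pos h] at h1
    by_contra hcon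
    push_neg at hcon
    rw [if_neg hcon.1, if_neg hcon.2] at h1
    norm_num at h1
  · intro h
    by_contra hcon
    rw [if_neg hcon] at h1
    rcases h with h | h
    · rw [if_pos h] at h1
      split_ifs at h1 <;> norm_num at h1
    · rw [if_pos h] at h1
      split_ifs at h1 <;> norm_num at h1

/-! ### the Steinberg character -/

theorem inner_Ich_one_triv : classInner (Ich hF hm 1) (fun _ => (1 : ℂ)) = 1 := by
  classical
  rw [inner_Ich_left hF hm 1 (fun _ _ => rfl)]
  simp only [MonoidHom.one_apply, Units.val_one, one_mul, Finset.sum_const, Finset.card_univ,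
    Fintype.card_prod, hF, nsmul_eq_mul, mul_one, map_mul, map_natCast, Fintype.card_units]
  have hq1 := pow_q_ne m
  have hq : ((2 : ℂ) ^ (2 * m + 1)) ≠ 0 := pow_ne_zero _ two_ne_zero
  rw [Nat.cast_sub Nat.one_le_two_pow]
  push_cast
  field_simp

/-- the Steinberg character -/
noncomputable def StFun : Sz F m → ℂ := fun g => Ich hF hm 1 g - 1

theorem StFun_eq : StFun hF hm = Ich hF hm 1 - (fun _ => (1 : ℂ)) := rfl

theorem Ich_one_eq : Ich hF hm 1 = (fun _ => (1 : ℂ)) + StFun hF hm := by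
  funext g
  simp [StFun]

theorem inner_Ich_one_St : classInner (Ich hF hm 1) (StFun hF hm) = 1 := by
  classical
  rw [StFun_eq, Cfsg.Agent.Lib.Helper35.classInner_sub_right, inner_Ich, if_pos rfl,
    if_pos (one_mul (1 : Fˣ →* ℂˣ)), inner_Ich_one_triv]
  norm_num

theorem StFun_irr : IsIrrCharacter (Sz F m) (StFun hF hm) := by
  classical
  have := irr_finite (G := Sz F m)
  letI : Fintype (IrrCharacter (Sz F m)) := Fintype.ofFinite _
  have hI := Ich_isCharacter hF hm 1
  have hchar : IsCharacter (Sz F m) (StFun hF hm) := by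
    apply isCharacter_of_classInner_nat
    · intro g h
      simp only [StFun]
      rw [Ich_classFunction hF hm 1 g h]
    · intro χ
      obtain ⟨n, hn⟩ := classInner_isCharacter_nat _ hI χ
      rw [StFun_eq, Cfsg.Agent.Lib.Helper35.classInner_sub_left, hn]
      have ht := classInner_irr (trivIrr : IrrCharacter (Sz F m)) χ
      have ht' : classInner (fun _ : Sz F m => (1 : ℂ)) χ.1 = if trivIrr = χ then 1 else 0 := ht
      rw [ht']
      by_cases hχ : trivIrr = χ
      · rw [if_pos hχ]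
        have h1 := inner_Ich_one_triv hF hm
        have h2 : classInner (Ich hF hm 1) χ.1 = 1 := by rw [← hχ]; exact h1
        rw [hn] at h2
        exact ⟨0, by rw [h2]; simp⟩
      · rw [if_neg hχ]
        exact ⟨n, by simp⟩
  apply isIrrCharacter_of_norm_one _ hchar
  have h1 : classInner (fun _ : Sz F m => (1 : ℂ)) (Ich hF hm 1) = 1 := by
    rw [classInner_conj_symm, inner_Ich_one_triv, map_one]
  have h2 : classInner (fun _ : Sz F m => (1 : ℂ)) (fun _ : Sz F m => (1 : ℂ)) = 1 := by
    have ht := classInner_irr (trivIrr : IrrCharacter (Sz F m)) trivIrr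
    rw [if_pos rfl] at ht
    exact ht
  rw [StFun_eq, Cfsg.Agent.Lib.Helper35.classInner_sub_left,
    Cfsg.Agent.Lib.Helper35.classInner_sub_right, Cfsg.Agent.Lib.Helper35.classInner_sub_right,
    inner_Ich, if_pos rfl, if_pos (one_mul (1 : Fˣ →* ℂˣ)), inner_Ich_one_triv, h1, h2]
  norm_num

/-- the Steinberg character as an irreducible character -/
noncomputable def StIrr : IrrCharacter (Sz F m) := ⟨StFun hF hm, StFun_irr hF hm⟩

theorem StIrr_TS {a b : F} (hab : ¬ (a = 0 ∧ b = 0)) : (StIrr hF hm).1 (TS hF a b) = 0 := by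
  show Ich hF hm 1 (TS hF a b) - 1 = 0
  rw [Ich_TS hF hm 1 hab, sub_self]

theorem StIrr_one : (StIrr hF hm).1 1 = ((2 : ℂ) ^ (2 * m + 1)) ^ 2 := by
  show Ich hF hm 1 1 - 1 = _
  rw [Ich_one]
  ring

/-! ### the list of the irreducible characters -/

theorem irr_cases (χ : IrrCharacter (Sz F m)) :
    (∀ a : Fˣ, classInner (Ich hF hm (dualE F a)) χ.1 = 0) ∨ χ = trivIrr ∨ χ = StIrr hF hm ∨
      ∃ a : Fˣ, a ≠ 1 ∧ χ = IchIrr hF hm a := by
  classical
  by_cases hall : ∀ a : Fˣ, classInner (Ich hF hm (dualE F a)) χ.1 = 0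
  · exact Or.inl hall
  · right
    push_neg at hall
    obtain ⟨a, ha⟩ := hall
    by_cases h1 : a = 1
    · rw [h1, map_one, Ich_one_eq, Cfsg.Agent.Lib.Helper35.classInner_add_left] at ha
      have ht : classInner (fun _ : Sz F m => (1 : ℂ)) χ.1 = if trivIrr = χ then 1 else 0 :=
        classInner_irr (trivIrr : IrrCharacter (Sz F m)) χ
      have hs : classInner (StFun hF hm) χ.1 = if StIrr hF hm = χ then 1 else 0 :=
        classInner_irr (StIrr hF hm) χ
      rw [ht, hs] at ha
      by_cases h2 : trivIrr = χ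
      · exact Or.inl h2.symm
      · by_cases h3 : StIrr hF hm = χ
        · exact Or.inr (Or.inl h3.symm)
        · rw [if_neg h2, if_neg h3] at ha
          exact absurd (add_zero 0) ha
    · right; right
      refine ⟨a, h1, ?_⟩
      have hh := classInner_irr (IchIrr hF hm a) χ
      rw [IchIrr_val hF hm h1] at hh
      by_contra hne
      rw [if_neg (fun h => hne h.symm)] at hh
      exact ha hh

open Classical in
/-- the remaining irreducible characters -/
noncomputable def Rset [Fintype (IrrCharacter (Sz F m))] : Finset (IrrCharacter (Sz F m)) :=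
  Finset.univ.filter (fun χ => ∀ a : Fˣ, classInner (Ich hF hm (dualE F a)) χ.1 = 0)

open Classical in
/-- the set of the induced irreducible characters -/
noncomputable def K1 : Finset (IrrCharacter (Sz F m)) :=
  (Finset.univ.erase (1 : Fˣ)).image (IchIrr hF hm)

theorem card_K1 : ((K1 hF hm).card : ℂ) = (2 : ℂ) ^ (2 * m) - 1 := by
  classical
  have h1 := Finset.card_eq_sum_card_fiberwise (s := Finset.univ.erase (1 : Fˣ))
    (t := K1 hF hm) (f := IchIrr hF hm) (fun a ha => Finset.mem_image_of_mem _ ha)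
  have h2 : ∀ χ ∈ K1 hF hm,
      ((Finset.univ.erase (1 : Fˣ)).filter (fun a => IchIrr hF hm a = χ)).card = 2 := by
    intro χ hχ
    obtain ⟨b, hb, rfl⟩ := Finset.mem_image.1 hχ
    have hb1 : b ≠ 1 := Finset.ne_of_mem_erase hb
    have hbb : b ≠ b⁻¹ := by
      intro h
      apply unit_sq_ne_one hF hb1
      nth_rewrite 2 [h]
      exact mul_inv_cancel b
    have : (Finset.univ.erase (1 : Fˣ)).filter (fun a => IchIrr hF hm a = IchIrr hF hm b) =
        {b, b⁻¹} := by
      ext a
      simp only [Finset.mem_filter, Finset.mem_erase, Finset.mem_univ, and_true,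
        Finset.mem_insert, Finset.mem_singleton]
      constructor
      · rintro ⟨ha1, h⟩
        rcases (IchIrr_eq_iff hF hm ha1 hb1).1 h with h | h
        · exact Or.inl h
        · exact Or.inr (eq_inv_of_mul_eq_one_left h)
      · rintro (rfl | rfl)
        · exact ⟨hb1, rfl⟩
        · have hb1' : b⁻¹ ≠ 1 := by
            intro h
            exact hb1 (inv_eq_one.1 h)
          exact ⟨hb1', (IchIrr_eq_iff hF hm hb1' hb1).2 (Or.inr (inv_mul_cancel b))⟩
    rw [this, Finset.card_pair hbb]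
  rw [Finset.sum_congr rfl h2, Finset.sum_const, smul_eq_mul,
    Finset.card_erase_of_mem (Finset.mem_univ _), Finset.card_univ, Fintype.card_units, hF] at h1
  have h3 : (K1 hF hm).card = 2 ^ (2 * m) - 1 := by
    have e : 2 ^ (2 * m + 1) = 2 * 2 ^ (2 * m) := by ring
    have hpos : 1 ≤ 2 ^ (2 * m) := Nat.one_le_two_pow
    omega
  rw [h3, Nat.cast_sub Nat.one_le_two_pow]
  push_cast
  ring

variable [Fintype (IrrCharacter (Sz F m))]

theorem mem_Rset (χ : IrrCharacter (Sz F m)) :
    χ ∈ Rset hF hm ↔ ∀ a : Fˣ, classInner (Ich hF hm (dualE F a)) χ.1 = 0 := by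
  classical
  simp [Rset]

/-- splitting a sum over the irreducible characters -/
theorem sum_irr_split (Fn : IrrCharacter (Sz F m) → ℂ) (F₀ : ℂ)
    (h : ∀ a : Fˣ, a ≠ 1 → Fn (IchIrr hF hm a) = F₀) :
    ∑ χ, Fn χ = ∑ χ ∈ Rset hF hm, Fn χ + Fn trivIrr + Fn (StIrr hF hm) +
      ((2 : ℂ) ^ (2 * m) - 1) * F₀ := by
  classical
  have hσ : ¬ ((0 : F) = 0 ∧ (1 : F) = 0) := fun h => one_ne_zero h.2
  have htR : (trivIrr : IrrCharacter (Sz F m)) ∉ Rset hF hm := by
    intro hmem
    have := (mem_Rset hF hm _).1 hmem 1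
    rw [map_one] at this
    have h1 := inner_Ich_one_triv hF hm
    rw [show (fun _ : Sz F m => (1 : ℂ)) = (trivIrr : IrrCharacter (Sz F m)).1 from rfl] at h1
    rw [this] at h1
    exact zero_ne_one h1
  have hSR : StIrr hF hm ∉ Rset hF hm := by
    intro hmem
    have := (mem_Rset hF hm _).1 hmem 1
    rw [map_one] at this
    have h1 := inner_Ich_one_St hF hm
    rw [show StFun hF hm = (StIrr hF hm).1 from rfl, this] at h1
    exact zero_ne_one h1
  have hKR : ∀ χ ∈ K1 hF hm, χ ∉ Rset hF hm := by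
    intro χ hχ hmem
    obtain ⟨b, hb, rfl⟩ := Finset.mem_image.1 hχ
    have hb1 : b ≠ 1 := Finset.ne_of_mem_erase hb
    have := (mem_Rset hF hm _).1 hmem b
    rw [IchIrr_val hF hm hb1, norm_Ich hF hm hb1] at this
    exact one_ne_zero this
  have htS : (trivIrr : IrrCharacter (Sz F m)) ≠ StIrr hF hm := by
    intro h
    have h1 : (trivIrr : IrrCharacter (Sz F m)).1 (TS hF 0 1) = (StIrr hF hm).1 (TS hF 0 1) := by
      rw [← h]
    rw [trivIrr_apply, StIrr_TS hF hm hσ] at h1
    exact one_ne_zero h1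
  have htK : (trivIrr : IrrCharacter (Sz F m)) ∉ K1 hF hm := by
    intro hmem
    obtain ⟨b, hb, hb'⟩ := Finset.mem_image.1 hmem
    have hb1 : b ≠ 1 := Finset.ne_of_mem_erase hb
    have h2 : (IchIrr hF hm b).1 1 = (trivIrr : IrrCharacter (Sz F m)).1 1 := by rw [hb']
    rw [trivIrr_apply, IchIrr_val hF hm hb1, Ich_one] at h2
    have hq : ((2 : ℂ) ^ (2 * m + 1)) ≠ 0 := pow_ne_zero _ two_ne_zero
    have : ((2 : ℂ) ^ (2 * m + 1)) ^ 2 = 0 := by linear_combination h2
    exact hq (pow_eq_zero_iff (by norm_num) |>.1 this)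
  have hSK : StIrr hF hm ∉ K1 hF hm := by
    intro hmem
    obtain ⟨b, hb, hb'⟩ := Finset.mem_image.1 hmem
    have hb1 : b ≠ 1 := Finset.ne_of_mem_erase hb
    have h1 : (IchIrr hF hm b).1 (TS hF 0 1) = (StIrr hF hm).1 (TS hF 0 1) := by rw [hb']
    rw [IchIrr_val hF hm hb1, Ich_TS hF hm _ hσ, StIrr_TS hF hm hσ] at h1
    exact one_ne_zero h1
  have hU : (Finset.univ : Finset (IrrCharacter (Sz F m))) =
      Rset hF hm ∪ insert trivIrr (insert (StIrr hF hm) (K1 hF hm)) := by
    ext χ
    simp only [Finset.mem_univ, Finset.mem_union, Finset.mem_insert, true_iff]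
    rcases irr_cases hF hm χ with h | h | h | ⟨a, ha, h⟩
    · exact Or.inl ((mem_Rset hF hm χ).2 h)
    · exact Or.inr (Or.inl h)
    · exact Or.inr (Or.inr (Or.inl h))
    · exact Or.inr (Or.inr (Or.inr (by
        rw [h]
        exact Finset.mem_image_of_mem _ (Finset.mem_erase.2 ⟨ha, Finset.mem_univ _⟩))))
  have hdisj : Disjoint (Rset hF hm) (insert trivIrr (insert (StIrr hF hm) (K1 hF hm))) := by
    rw [Finset.disjoint_left]
    intro χ hχ hmem
    rcases Finset.mem_insert.1 hmem with h | h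
    · exact htR (h ▸ hχ)
    rcases Finset.mem_insert.1 h with h | h
    · exact hSR (h ▸ hχ)
    · exact hKR χ h hχ
  have hK : ∑ χ ∈ K1 hF hm, Fn χ = ((2 : ℂ) ^ (2 * m) - 1) * F₀ := by
    have : ∀ χ ∈ K1 hF hm, Fn χ = F₀ := by
      intro χ hχ
      obtain ⟨b, hb, rfl⟩ := Finset.mem_image.1 hχ
      exact h b (Finset.ne_of_mem_erase hb)
    rw [Finset.sum_congr rfl this, Finset.sum_const, nsmul_eq_mul, card_K1 hF hm]
  rw [hU, Finset.sum_union hdisj, Finset.sum_insert (by
    intro hmem
    rcases Finset.mem_insert.1 hmem with h | h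
    · exact htS h
    · exact htK h), Finset.sum_insert hSK, hK]
  ring

omit [Fintype (IrrCharacter (Sz F m))] in
/-- the characters outside the list have vanishing sum over the translations -/
theorem sum_TS_eq_zero (χ : IrrCharacter (Sz F m))
    (h : ∀ a : Fˣ, classInner (Ich hF hm (dualE F a)) χ.1 = 0) :
    ∑ p : F × F, χ.1 (TS hF p.1 p.2) = 0 := by
  classical
  have h1 := sum_inner_Ich hF hm (isClassFunction_irr χ)
  simp only [h, Finset.sum_const_zero] at h1
  have hq : ((2 : ℂ) ^ (2 * m + 1)) ≠ 0 := pow_ne_zero _ two_ne_zero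
  have h2 : conj (∑ p : F × F, χ.1 (TS hF p.1 p.2)) = 0 := by
    rcases mul_eq_zero.1 h1.symm with h3 | h3
    · exact absurd h3 (inv_ne_zero (mul_ne_zero hq hq))
    · exact h3
  have h4 := congrArg (starRingEnd ℂ) h2
  rwa [Complex.conj_conj, map_zero] at h4

end Cfsg.Agent.Lib.Helper8.Sz
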