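import Cfsg.Agent.Lib.Helper8.Sz47
import Cfsg.Agent.Lib.Helper8.Sz48
import Cfsg.Prelude.Def_DegreeGraph

set_option autoImplicit false

namespace Cfsg.Agent.Lib.Helper8.Sz

open Cfsg Matrix
open scoped ComplexConjugate
open Cfsg.Agent.Lib.Helper4 Cfsg.Agent.Lib.Helper79

/-- extracting the real part of an identity between Gaussian integers -/
theorem re_of_gauss {A B C : ℤ} (h : (A : ℂ) + (B : ℂ) * Complex.I = (C : ℂ)) : A = C := by
  have h1 := congrArg Complex.re h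
  simp only [Complex.add_re, Complex.intCast_re, Complex.mul_re, Complex.I_re, mul_zero,
    Complex.intCast_im, Complex.I_im, mul_one, zero_mul, sub_zero, add_zero] at h1
  exact_mod_cast h1

theorem sum_gauss {ι : Type*} (R : Finset ι) (Fn : ι → ℂ) (A B : ι → ℤ) (C : ℤ)
    (h : ∀ i ∈ R, Fn i = (A i : ℂ) + (B i : ℂ) * Complex.I) (hs : ∑ i ∈ R, Fn i = (C : ℂ)) :
    ∑ i ∈ R, A i = C := by
  apply re_of_gauss (B := ∑ i ∈ R, B i)
  rw [← hs, Finset.sum_congr rfl h, Finset.sum_add_distrib, ← Finset.sum_mul]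
  push_cast
  rfl

theorem charDegrees_subset_mulEquiv {G : Type*} {H : Type*} [Group G] [Group H]
    (e : G ≃* H) : charDegrees G ⊆ charDegrees H := by
  rintro d ⟨χ, rfl⟩
  refine ⟨⟨fun k => (χ : G → ℂ) (e.symm k),
    Cfsg.Agent.Lib.Helper46.isIrrCharacter_comp_surjective e.symm.toMonoidHom e.symm.surjective
      χ.1 χ.2⟩, ?_⟩
  unfold charDegree
  show ⌊((χ : G → ℂ) (e.symm 1)).re⌋₊ = _
  rw [map_one]

theorem charDegrees_mulEquiv {G : Type*} {H : Type*} [Group G] [Group H] (e : G ≃* H) :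
    charDegrees G = charDegrees H :=
  Set.Subset.antisymm (charDegrees_subset_mulEquiv e) (charDegrees_subset_mulEquiv e.symm)

variable {F : Type*} [Field F] [Fintype F] [DecidableEq F] {m : ℕ}

variable (hF : Fintype.card F = 2 ^ (2 * m + 1)) (hm : 1 ≤ m)

include hF hm

variable [Fintype (Sz F m)]

/-! ### the induced characters are real of Frobenius–Schur type one -/

theorem IchIrr_real {a : Fˣ} (ha : a ≠ 1) (g : Sz F m) : ((IchIrr hF hm a).1 g).im = 0 := by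
  classical
  have h1 := classInner_irr (IchIrr hF hm a) (irrConj (IchIrr hF hm a))
  have h2 : classInner (IchIrr hF hm a).1 (irrConj (IchIrr hF hm a)).1 = 1 := by
    rw [IchIrr_val hF hm ha, inner_Ich_left hF hm _ (isClassFunction_irr _)]
    have h3 : ∀ s : Fˣ, ((dualE F a s : ℂˣ) : ℂ) *
        conj (∑ p : F × F, (irrConj (IchIrr hF hm a)).1 (TS hF p.1 p.2 * HS hF s)) =
        ((2 : ℂ) ^ (2 * m + 1)) ^ 2 * ((((dualE F a * dualE F a) s : ℂˣ) : ℂ) + 1) := by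
      intro s
      have e : ∀ g : Sz F m, (irrConj (IchIrr hF hm a)).1 g = conj (Ich hF hm (dualE F a) g) := by
        intro g
        rw [← IchIrr_val hF hm ha]
        rfl
      simp only [e, map_sum, Complex.conj_conj]
      rw [sum_Ich_row]
      have hne : ((dualE F a s : ℂˣ) : ℂ) ≠ 0 := Units.ne_zero _
      simp only [MonoidHom.mul_apply, Units.val_mul]
      field_simp
    simp only [h3]
    have hne : dualE F a * dualE F a ≠ 1 := by
      intro h
      rw [← map_mul] at h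
      exact unit_sq_ne_one hF ha ((map_eq_one_iff (dualE F) (dualE F).injective).1 h)
    rw [← Finset.mul_sum, Finset.sum_add_distrib, sum_char hF, if_neg hne]
    simp only [Finset.sum_const, Finset.card_univ, Fintype.card_units, hF, nsmul_eq_mul, mul_one,
      zero_add]
    have hq1 := pow_q_ne m
    have hq : ((2 : ℂ) ^ (2 * m + 1)) ≠ 0 := pow_ne_zero _ two_ne_zero
    rw [Nat.cast_sub Nat.one_le_two_pow]
    push_cast
    field_simp
  rw [h2] at h1
  have h4 : IchIrr hF hm a = irrConj (IchIrr hF hm a) := by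
    by_contra hne
    rw [if_neg hne] at h1
    exact one_ne_zero h1
  exact (irrConj_eq_self_iff _).1 h4.symm g

theorem charDegree_IchIrr {a : Fˣ} (ha : a ≠ 1) :
    charDegree (IchIrr hF hm a).1 = (2 ^ (2 * m + 1)) ^ 2 + 1 := by
  have h1 := irr_one_eq_charDegree (IchIrr hF hm a)
  have h0 : (IchIrr hF hm a).1 1 = ((2 : ℂ) ^ (2 * m + 1)) ^ 2 + 1 := by
    rw [IchIrr_val hF hm ha, Ich_one]
  have h2 : (((2 ^ (2 * m + 1)) ^ 2 + 1 : ℕ) : ℂ) = (charDegree (IchIrr hF hm a).1 : ℂ) := by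
    rw [← h1, h0]
    push_cast
    ring
  exact (Nat.cast_injective h2).symm

theorem fsSign_IchIrr {a : Fˣ} (ha : a ≠ 1) : fsSign (IchIrr hF hm a) = 1 := by
  apply fsSign_eq_one_of_odd _ (IchIrr_real hF hm ha)
  rw [charDegree_IchIrr hF hm ha]
  refine ⟨2 ^ (2 * m + 1) * 2 ^ (2 * m), ?_⟩
  ring

theorem IchIrr_TS {a : Fˣ} (ha : a ≠ 1) {x y : F} (hxy : ¬ (x = 0 ∧ y = 0)) :
    (IchIrr hF hm a).1 (TS hF x y) = 1 := by
  rw [IchIrr_val hF hm ha, Ich_TS hF hm _ hxy]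

variable [Fintype (IrrCharacter (Sz F m))]

/-! ### the orthogonality sums over the remaining characters -/

open Classical in
theorem sum_Rset_col {a b a' b' : F} (hab : ¬ (a = 0 ∧ b = 0)) (hab' : ¬ (a' = 0 ∧ b' = 0)) :
    ∑ χ ∈ Rset hF hm, χ.1 (TS hF a b) * conj (χ.1 (TS hF a' b')) =
      (if IsConj (TS hF a b) (TS hF a' b') then
        (Nat.card (Subgroup.centralizer ({TS hF a b} : Set (Sz F m))) : ℂ) else 0) -
        (2 : ℂ) ^ (2 * m) := by
  have h := Cfsg.Agent.Lib.Helper84.irr_col_orth (TS hF a b) (TS hF a' b')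
  rw [sum_irr_split hF hm (fun χ => χ.1 (TS hF a b) * conj (χ.1 (TS hF a' b'))) 1 (by
    intro c hc
    simp only [IchIrr_TS hF hm hc hab, IchIrr_TS hF hm hc hab', map_one, mul_one])] at h
  simp only [trivIrr_apply, StIrr_TS hF hm hab, map_one, mul_one, zero_mul] at h
  by_cases hc : IsConj (TS hF a b) (TS hF a' b')
  · rw [if_pos hc] at h ⊢
    linear_combination h
  · rw [if_neg hc] at h ⊢
    linear_combination h

theorem sum_Rset_fs :
    ∑ χ ∈ Rset hF hm, (fsSign χ : ℂ) * χ.1 (TS hF 1 0) = -(2 : ℂ) ^ (2 * m) := by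
  classical
  have hρ : ¬ ((1 : F) = 0 ∧ (0 : F) = 0) := fun h => one_ne_zero h.1
  have h := card_sqrt_eq (TS hF (1 : F) 0)
  have h0 : Finset.univ.filter (fun h : Sz F m => h * h = TS hF 1 0) = ∅ := by
    apply Finset.filter_eq_empty_iff.2
    intro g _
    exact no_sqrt_rho hF hm g
  rw [h0, Finset.card_empty, Nat.cast_zero] at h
  simp only [fsSign_spec] at h
  rw [sum_irr_split hF hm (fun χ => (fsSign χ : ℂ) * χ.1 (TS hF 1 0)) 1 (by
    intro c hc
    simp only [IchIrr_TS hF hm hc hρ, fsSign_IchIrr hF hm hc, Int.cast_one, mul_one])] at h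
  have ht : fsSign (trivIrr : IrrCharacter (Sz F m)) = 1 := fsSign_oneIrr
  simp only [trivIrr_apply, StIrr_TS hF hm hρ, ht, Int.cast_one, mul_one, mul_zero] at h
  linear_combination -h

omit [Fintype (IrrCharacter (Sz F m))] [Fintype (Sz F m)] [DecidableEq F] hm in
theorem not_isConj_center_rho : ¬ IsConj (TS hF (0 : F) 1) (TS hF 1 0) := by
  intro h
  obtain ⟨c, hc⟩ := isConj_iff.1 h
  have hσ : TS hF (0 : F) 1 * TS hF 0 1 = 1 := by
    rw [TS_sq, th_zero, zero_mul, TS_zero]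
  have h1 : TS hF (1 : F) 0 * TS hF 1 0 = 1 := by
    rw [← hc]
    calc c * TS hF (0 : F) 1 * c⁻¹ * (c * TS hF (0 : F) 1 * c⁻¹)
        = c * (TS hF (0 : F) 1 * TS hF 0 1) * c⁻¹ := by group
      _ = 1 := by rw [hσ]; group
  rw [TS_one_sq] at h1
  exact TS_center_ne_one hF h1

/-- the degrees of the remaining characters -/
theorem degrees_Rset :
    (∀ χ ∈ Rset hF hm,
      charDegree χ.1 = (2 ^ (2 * m + 1) - 1) * (2 ^ (2 * m + 1) + 2 ^ (m + 1) + 1) ∨
      charDegree χ.1 = (2 ^ (2 * m + 1) - 1) * (2 ^ (2 * m + 1) - 2 ^ (m + 1) + 1) ∨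
      charDegree χ.1 = (2 ^ (2 * m + 1) - 1) * 2 ^ m) ∧
    (∃ χ ∈ Rset hF hm,
      charDegree χ.1 = (2 ^ (2 * m + 1) - 1) * (2 ^ (2 * m + 1) + 2 ^ (m + 1) + 1)) ∧
    (∃ χ ∈ Rset hF hm,
      charDegree χ.1 = (2 ^ (2 * m + 1) - 1) * (2 ^ (2 * m + 1) - 2 ^ (m + 1) + 1)) ∧
    (∃ χ ∈ Rset hF hm, charDegree χ.1 = (2 ^ (2 * m + 1) - 1) * 2 ^ m) := by
  classical
  choose x e t s u v δ c h1 h2 h3 h4 h5 h6 h7 h8 using
    fun χ : IrrCharacter (Sz F m) => char_data hF (Cfsg.Agent.Lib.Helper35.isChar_of_irr χ.2)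
  have hσ : ¬ ((0 : F) = 0 ∧ (1 : F) = 0) := fun h => one_ne_zero h.2
  have hρ : ¬ ((1 : F) = 0 ∧ (0 : F) = 0) := fun h => one_ne_zero h.1
  have hρ' : ¬ ((1 : F) = 0 ∧ (1 : F) = 0) := fun h => one_ne_zero h.1
  obtain ⟨M, hMdef⟩ : ∃ M : ℤ, M = 2 ^ m := ⟨_, rfl⟩
  have hM : 2 ≤ M := by
    have : (2 : ℤ) ^ 1 ≤ 2 ^ m := pow_le_pow_right₀ (by norm_num) hm
    rw [hMdef]
    simpa using this
  have hq : (2 : ℤ) ^ (2 * m + 1) = 2 * M ^ 2 := by rw [hMdef]; ring
  have hqC : (2 : ℂ) ^ (2 * m + 1) = 2 * (M : ℂ) ^ 2 := by rw [hMdef]; push_cast; ring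
  have hPC : (2 : ℂ) ^ (2 * m) = (M : ℂ) ^ 2 := by rw [hMdef]; push_cast; ring
  rw [← hMdef] at h5 h6
  rw [hq] at h5 h8
  have hxdeg : ∀ χ, charDegree χ.1 = x χ := by
    intro χ
    have := irr_one_eq_charDegree χ
    rw [h1 χ] at this
    exact (Nat.cast_injective this).symm
  have key := suzuki_arith (Rset hF hm) M hM (fun χ => (x χ : ℤ)) s u v δ c (fun χ => fsSign χ)
    (fun χ => (e χ : ℤ)) (fun χ => (t χ : ℤ)) ?hx ?hdvd ?he ?ht ?h1 ?h2 ?h3 ?h4 ?h5 ?hν ?hνv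
    ?O1 ?O2 ?O3 ?O4 ?O5
  case hx =>
    intro χ _
    have := charDegree_pos χ
    rw [hxdeg] at this
    exact_mod_cast this
  case hdvd =>
    intro χ _
    have hd := irrDeg_dvd χ
    have e1 : irrDeg χ = x χ := by
      have := irrDeg_spec χ
      rw [h1 χ] at this
      exact (Nat.cast_injective this).symm
    rw [e1, card_Sz hm hF] at hd
    have hd' := Int.natCast_dvd_natCast.2 hd
    have e2 : (((2 ^ (2 * m + 1)) ^ 2 * ((2 ^ (2 * m + 1)) ^ 2 + 1) * (2 ^ (2 * m + 1) - 1) : ℕ) : ℤ)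
        = (2 * M ^ 2) ^ 2 * ((2 * M ^ 2) ^ 2 + 1) * (2 * M ^ 2 - 1) := by
      rw [Nat.cast_mul, Nat.cast_sub Nat.one_le_two_pow]
      push_cast
      rw [hq]
    rw [e2] at hd'
    exact hd'
  case he => intro χ _; exact Int.natCast_nonneg _
  case ht => intro χ _; exact Int.natCast_nonneg _
  case h1 =>
    intro χ hχ
    have A := sum_cf_all hF (isClassFunction_irr χ)
    rw [sum_TS_eq_zero hF hm χ ((mem_Rset hF hm χ).1 hχ), h1 χ, h2 χ, h3 χ, h4 χ, hqC] at A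
    have hC : (((x χ : ℤ) + (2 * M ^ 2 - 1) * s χ + (2 * M ^ 2 - 1) * (2 * M ^ 2) * u χ : ℤ) : ℂ)
        = 0 := by
      push_cast
      linear_combination (-1 / 2 : ℂ) * A
    exact_mod_cast hC
  case h2 => intro χ _; exact h8 χ
  case h3 => intro χ _; exact h5 χ
  case h4 => intro χ _; exact h6 χ
  case h5 => intro χ _; exact h7 χ
  case hν => intro χ _; exact fsSign_cases χ
  case hνv =>
    intro χ _ hne
    have := (fsSign_ne_zero_iff χ).1 hne (TS hF 1 0)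
    rw [h3 χ] at this
    simpa using this
  case O1 =>
    apply sum_gauss (Rset hF hm) (fun χ => χ.1 (TS hF 1 0) * conj (χ.1 (TS hF 1 0)))
      (fun χ => u χ ^ 2 + v χ ^ 2) (fun _ => 0)
    · intro χ _
      simp only [h3 χ, map_add, map_mul, Complex.conj_I, map_intCast]
      push_cast
      linear_combination (-(v χ : ℂ) ^ 2) * Complex.I_sq
    · rw [sum_Rset_col hF hm hρ hρ, if_pos (IsConj.refl _), card_centralizer_rho hF hm]
      push_cast
      rw [hqC, hPC]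
      ring
  case O2 =>
    apply sum_gauss (Rset hF hm) (fun χ => χ.1 (TS hF 1 0) * conj (χ.1 (TS hF 1 1)))
      (fun χ => u χ ^ 2 - v χ ^ 2) (fun χ => 2 * u χ * v χ)
    · intro χ _
      simp only [h3 χ, h4 χ, map_add, map_sub, map_mul, Complex.conj_I, map_intCast]
      push_cast
      linear_combination ((v χ : ℂ) ^ 2) * Complex.I_sq
    · rw [sum_Rset_col hF hm hρ hρ', if_neg (not_isConj_rho hF hm)]
      push_cast
      rw [hPC]
      ring
  case O3 =>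
    apply sum_gauss (Rset hF hm) (fun χ => χ.1 (TS hF 0 1) * conj (χ.1 (TS hF 1 0)))
      (fun χ => s χ * u χ) (fun χ => -(s χ * v χ))
    · intro χ _
      simp only [h3 χ, h2 χ, map_add, map_mul, Complex.conj_I, map_intCast]
      push_cast
      ring
    · rw [sum_Rset_col hF hm hσ hρ, if_neg (not_isConj_center_rho hF)]
      push_cast
      rw [hPC]
      ring
  case O4 =>
    apply sum_gauss (Rset hF hm) (fun χ => χ.1 (TS hF 0 1) * conj (χ.1 (TS hF 0 1)))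
      (fun χ => s χ ^ 2) (fun _ => 0)
    · intro χ _
      simp only [h2 χ, map_intCast]
      push_cast
      ring
    · rw [sum_Rset_col hF hm hσ hσ, if_pos (IsConj.refl _), card_centralizer_center hF hm]
      push_cast
      rw [hqC, hPC]
  case O5 =>
    apply sum_gauss (Rset hF hm) (fun χ => (fsSign χ : ℂ) * χ.1 (TS hF 1 0))
      (fun χ => fsSign χ * u χ) (fun χ => fsSign χ * v χ)
    · intro χ _
      simp only [h3 χ]
      push_cast
      ring
    · rw [sum_Rset_fs hF hm]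
      push_cast
      rw [hPC]
  have hle : 2 ^ (m + 1) ≤ 2 ^ (2 * m + 1) := Nat.pow_le_pow_right (by norm_num) (by omega)
  have c1 : ∀ n : ℕ, (n : ℤ) = (2 * M ^ 2 - 1) * (2 * M ^ 2 + 2 * M + 1) →
      n = (2 ^ (2 * m + 1) - 1) * (2 ^ (2 * m + 1) + 2 ^ (m + 1) + 1) := by
    intro n hn
    have : (n : ℤ) = (((2 ^ (2 * m + 1) - 1) * (2 ^ (2 * m + 1) + 2 ^ (m + 1) + 1) : ℕ) : ℤ) := by
      rw [hn, Nat.cast_mul, Nat.cast_sub Nat.one_le_two_pow]
      push_cast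
      rw [hMdef]
      ring
    exact_mod_cast this
  have c2 : ∀ n : ℕ, (n : ℤ) = (2 * M ^ 2 - 1) * (2 * M ^ 2 - 2 * M + 1) →
      n = (2 ^ (2 * m + 1) - 1) * (2 ^ (2 * m + 1) - 2 ^ (m + 1) + 1) := by
    intro n hn
    have : (n : ℤ) = (((2 ^ (2 * m + 1) - 1) * (2 ^ (2 * m + 1) - 2 ^ (m + 1) + 1) : ℕ) : ℤ) := by
      rw [hn, Nat.cast_mul, Nat.cast_sub Nat.one_le_two_pow, Nat.cast_add, Nat.cast_sub hle]
      push_cast
      rw [hMdef]
      ring
    exact_mod_cast this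
  have c3 : ∀ n : ℕ, (n : ℤ) = (2 * M ^ 2 - 1) * M → n = (2 ^ (2 * m + 1) - 1) * 2 ^ m := by
    intro n hn
    have : (n : ℤ) = (((2 ^ (2 * m + 1) - 1) * 2 ^ m : ℕ) : ℤ) := by
      rw [hn, Nat.cast_mul, Nat.cast_sub Nat.one_le_two_pow]
      push_cast
      rw [hMdef]
      ring
    exact_mod_cast this
  obtain ⟨hall, ⟨χ1, hχ1, e1⟩, ⟨χ2, hχ2, e2⟩, ⟨χ3, hχ3, e3⟩⟩ := key
  refine ⟨?_, ⟨χ1, hχ1, by rw [hxdeg]; exact c1 _ e1⟩, ⟨χ2, hχ2, by rw [hxdeg]; exact c2 _ e2⟩,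
    ⟨χ3, hχ3, by rw [hxdeg]; exact c3 _ e3⟩⟩
  intro χ hχ
  rw [hxdeg]
  rcases hall χ hχ with h | h | h
  · exact Or.inl (c1 _ h)
  · exact Or.inr (Or.inl (c2 _ h))
  · exact Or.inr (Or.inr (c3 _ h))

omit [DecidableEq F] [Fintype (Sz F m)] [Fintype (IrrCharacter (Sz F m))] in
/-- the degrees of the irreducible characters of the Suzuki group -/
theorem charDegrees_Sz :
    charDegrees (Sz F m) = {1, (2 ^ (2 * m + 1)) ^ 2, (2 ^ (2 * m + 1)) ^ 2 + 1,
      (2 ^ (2 * m + 1) - 1) * (2 ^ (2 * m + 1) + 2 ^ (m + 1) + 1),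
      (2 ^ (2 * m + 1) - 1) * (2 ^ (2 * m + 1) - 2 ^ (m + 1) + 1),
      (2 ^ (2 * m + 1) - 1) * 2 ^ m} := by
  classical
  letI : Fintype (Sz F m) := Fintype.ofFinite _
  have := irr_finite (G := Sz F m)
  letI : Fintype (IrrCharacter (Sz F m)) := Fintype.ofFinite _
  obtain ⟨hall, ⟨χ1, -, e1⟩, ⟨χ2, -, e2⟩, ⟨χ3, -, e3⟩⟩ := degrees_Rset hF hm
  obtain ⟨a, ha⟩ := exists_ne_one hF hm
  have hSt : charDegree (StIrr hF hm).1 = (2 ^ (2 * m + 1)) ^ 2 := by
    have h1 := irr_one_eq_charDegree (StIrr hF hm)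
    rw [StIrr_one] at h1
    have h2 : (((2 ^ (2 * m + 1)) ^ 2 : ℕ) : ℂ) = (charDegree (StIrr hF hm).1 : ℂ) := by
      rw [← h1]
      push_cast
      ring
    exact (Nat.cast_injective h2).symm
  have htriv : charDegree (trivIrr : IrrCharacter (Sz F m)).1 = 1 := charDegree_oneIrr
  ext d
  simp only [Set.mem_insert_iff, Set.mem_singleton_iff]
  constructor
  · rintro ⟨χ, rfl⟩
    rcases irr_cases hF hm χ with h | h | h | ⟨b, hb, h⟩
    · rcases hall χ ((mem_Rset hF hm χ).2 h) with h' | h' | h'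
      · exact Or.inr (Or.inr (Or.inr (Or.inl h')))
      · exact Or.inr (Or.inr (Or.inr (Or.inr (Or.inl h'))))
      · exact Or.inr (Or.inr (Or.inr (Or.inr (Or.inr h'))))
    · left
      rw [h]
      exact htriv
    · right; left
      rw [h]
      exact hSt
    · right; right; left
      rw [h]
      exact charDegree_IchIrr hF hm hb
  · rintro (rfl | rfl | rfl | rfl | rfl | rfl)
    · exact ⟨trivIrr, htriv⟩
    · exact ⟨StIrr hF hm, hSt⟩
    · exact ⟨IchIrr hF hm a, charDegree_IchIrr hF hm ha⟩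
    · exact ⟨χ1, e1⟩
    · exact ⟨χ2, e2⟩
    · exact ⟨χ3, e3⟩

end Cfsg.Agent.Lib.Helper8.Sz
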